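import Mathlib
import Cfsg.Prelude.Def_Solvable
import Cfsg.Agent.Lib.CaminaHerzog.Operators
import Cfsg.Agent.Lib.Offender.ClassTwo
import Cfsg.Agent.Lib.Fitting.Basic

/-!
# Groups in which every involution centraliser is a 2-group
-/

set_option autoImplicit false
set_option linter.unusedSectionVars false

namespace CfsgLib.CIT

variable {G : Type*} [Group G] [Finite G]

/-- The centraliser of every involution is a 2-group. -/
def IsCIT (G : Type*) [Group G] : Prop :=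
  ∀ t : G, orderOf t = 2 → IsPGroup 2 (Subgroup.centralizer ({t} : Set G))

theorem orderOf_two {t : G} (h : t * t = 1) (h1 : t ≠ 1) : orderOf t = 2 :=
  orderOf_eq_prime (by rwa [pow_two]) h1

theorem eq_one_of_odd_two {x : G} (hx : Odd (orderOf x)) {k : ℕ} (h : x ^ 2 ^ k = 1) : x = 1 := by
  obtain ⟨i, -, hi⟩ := (Nat.dvd_prime_pow Nat.prime_two).mp (orderOf_dvd_of_pow_eq_one h)
  rcases i with _ | i
  · exact orderOf_eq_one_iff.mp hi
  · rw [hi, pow_succ] at hx
    exact absurd hx (Nat.not_odd_iff_even.mpr ⟨2 ^ i, by ring⟩)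

theorem eq_one_of_odd_mem {P : Subgroup G} (hP : IsPGroup 2 P) {x : G} (hx : x ∈ P)
    (ho : Odd (orderOf x)) : x = 1 := by
  obtain ⟨k, hk⟩ := hP ⟨x, hx⟩
  exact eq_one_of_odd_two ho (congrArg Subtype.val hk)

theorem IsCIT.eq_one (h : IsCIT G) {t x : G} (ht : t * t = 1) (ht1 : t ≠ 1)
    (hc : Commute x t) (hx : Odd (orderOf x)) : x = 1 :=
  eq_one_of_odd_mem (h t (orderOf_two ht ht1))
    (Subgroup.mem_centralizer_singleton_iff.mpr hc.eq) hx

theorem IsCIT.subgroup (h : IsCIT G) (H : Subgroup G) : IsCIT H := by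
  intro t ht x
  have ht' : orderOf (t : G) = 2 := by rwa [Subgroup.orderOf_coe]
  obtain ⟨k, hk⟩ := h _ ht' ⟨((x : H) : G), Subgroup.mem_centralizer_singleton_iff.mpr
    (congrArg Subtype.val (Subgroup.mem_centralizer_singleton_iff.mp x.2))⟩
  exact ⟨k, Subtype.ext (Subtype.ext (congrArg Subtype.val hk : ((x : H) : G) ^ 2 ^ k = 1))⟩

theorem exists_invol {Q : Subgroup G} (hQ : IsPGroup 2 Q) (h : Q ≠ ⊥) :
    ∃ t ∈ Q, t * t = 1 ∧ t ≠ 1 := by
  haveI : Fact (Nat.Prime 2) := ⟨Nat.prime_two⟩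
  obtain ⟨k, hk⟩ := hQ.exists_card_eq
  have hk0 : k ≠ 0 := fun e => h (Subgroup.card_eq_one.mp (by rw [hk, e, pow_zero]))
  obtain ⟨⟨t, ht⟩, ho⟩ := exists_prime_orderOf_dvd_card' (G := Q) 2 (hk ▸ dvd_pow_self 2 hk0)
  rw [Subgroup.orderOf_mk] at ho
  exact ⟨t, ht, by rw [← pow_two, ← ho, pow_orderOf_eq_one], fun e => by simp [e] at ho⟩

/-- A nontrivial 2-group has an involution in its centre. -/
theorem exists_central_invol {Q : Subgroup G} (hQ : IsPGroup 2 Q) (h : Q ≠ ⊥) :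
    ∃ t ∈ Q, t * t = 1 ∧ t ≠ 1 ∧ ∀ y ∈ Q, Commute t y := by
  haveI : Fact (Nat.Prime 2) := ⟨Nat.prime_two⟩
  haveI : Nontrivial Q := (Subgroup.nontrivial_iff_ne_bot Q).mpr h
  have hZ : Nontrivial (Subgroup.center Q) := hQ.center_nontrivial
  have hne : (Subgroup.center Q).map Q.subtype ≠ ⊥ := by
    rw [Ne, Subgroup.map_eq_bot_iff_of_injective _ Q.subtype_injective]
    exact (Subgroup.nontrivial_iff_ne_bot _).mp hZ
  obtain ⟨t, ⟨z, hz, rfl⟩, h2, h1⟩ :=
    exists_invol (hQ.to_le (Subgroup.map_subtype_le (Subgroup.center Q))) hne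
  exact ⟨z, z.2, h2, h1, fun y hy => congrArg Subtype.val ((Subgroup.mem_center_iff.mp hz) ⟨y, hy⟩).symm⟩

theorem IsCIT.eq_one_of_centralizes (h : IsCIT G) {Q : Subgroup G} (hQ : IsPGroup 2 Q)
    (hQ1 : Q ≠ ⊥) {x : G} (hx : Odd (orderOf x)) (hc : ∀ q ∈ Q, Commute x q) : x = 1 := by
  obtain ⟨t, ht, h2, h1⟩ := exists_invol hQ hQ1
  exact h.eq_one h2 h1 (hc t ht) hx

theorem IsCIT.centralizer_isPGroup (h : IsCIT G) {Q : Subgroup G} (hQ : IsPGroup 2 Q) (hQ1 : Q ≠ ⊥) :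
    IsPGroup 2 (Subgroup.centralizer (Q : Set G)) := by
  refine CfsgLib.Offender.isPGroup_two_of_forall fun x hx => ?_
  rw [← Subgroup.orderOf_coe] at hx
  exact Subtype.ext (h.eq_one_of_centralizes hQ hQ1 hx fun q hq => (x.2 q hq).symm)

/-- If the centraliser of an involution is a 2-group and it fixes only the identity of a subgroup
of odd order it normalises, it inverts that subgroup. -/
theorem IsCIT.inverts (h : IsCIT G) {t : G} (ht : t * t = 1) (ht1 : t ≠ 1) {D : Subgroup G}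
    (hD : Odd (Nat.card D)) (hn : ∀ d ∈ D, t * d * t⁻¹ ∈ D) {d : G} (hd : d ∈ D) :
    t * d * t⁻¹ = d⁻¹ := by
  let β : D →* D :=
    { toFun := fun x => ⟨t * x * t⁻¹, hn x x.2⟩
      map_one' := Subtype.ext (by simp)
      map_mul' := fun a b => Subtype.ext (by simp [mul_assoc]) }
  have hfpf : MonoidHom.FixedPointFree β := fun x hx => by
    have e : t * (x : G) * t⁻¹ = x := congrArg Subtype.val hx
    have hc : Commute (x : G) t := (mul_inv_eq_iff_eq_mul.mp e).symm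
    refine Subtype.ext (h.eq_one ht ht1 hc ?_)
    rw [Subgroup.orderOf_coe]
    exact hD.of_dvd_nat (orderOf_dvd_natCard x)
  have hti : t⁻¹ = t := inv_eq_of_mul_eq_one_right ht
  have h2 : Function.Involutive β := fun x => Subtype.ext (by
    show t * (t * (x : G) * t⁻¹) * t⁻¹ = x
    rw [hti, show t * (t * (x : G) * t) * t = t * t * x * (t * t) by group, ht]
    group)
  exact congrArg Subtype.val
    (congrFun (MonoidHom.FixedPointFree.coe_eq_inv_of_involutive (φ := β) hfpf h2) ⟨d, hd⟩)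

theorem exists_inverted (hO : Cfsg.pCore 2 G = ⊥) {t : G} (ht : t * t = 1) (ht1 : t ≠ 1) :
    ∃ c : G, c ≠ 1 ∧ Odd (orderOf c) ∧ t * c * t⁻¹ = c⁻¹ := by
  rcases CfsgLib.CaminaHerzog.exists_inverted_or_mem_two_core (orderOf_two ht ht1) with
    ⟨N, hN, hN2, htN⟩ | hc
  · exact absurd (Subgroup.mem_bot.mp (hO ▸ (CfsgLib.Fitting.le_pCore hN hN2) htN)) ht1
  · exact hc

end CfsgLib.CIT
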