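import Mathlib
import Cfsg.Agent.Lib.CIT.Basic
import Cfsg.Agent.Lib.SL2.PSL

/-!
The fields over which `PSL₂` has only `2`-groups as centralisers of involutions.
-/

set_option autoImplicit false
set_option linter.unusedSectionVars false
set_option linter.style.haveILetI false

namespace CfsgLib.CIT

/-- A prime power one less than a power of two is a prime. -/
theorem prime_pow_pred_two {p a d : ℕ} (hp : p.Prime) (h : 2 ^ d - 1 = p ^ a) (ha : 0 < a) : a = 1 := by
  have h2d : 1 ≤ 2 ^ d := Nat.one_le_two_pow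
  have hd : 2 ≤ d := by
    by_contra hd
    have hle : 2 ^ d ≤ 2 ^ 1 := Nat.pow_le_pow_right (by norm_num) (by omega)
    have h1 : p ≤ p ^ a := Nat.le_self_pow ha.ne' p
    have := hp.two_le
    omega
  have h4 : 4 ∣ 2 ^ d := by
    rw [show 4 = 2 ^ 2 from rfl]; exact Nat.pow_dvd_pow 2 hd
  have hpo : Odd p := by
    rcases hp.eq_two_or_odd' with rfl | hodd
    · have : 2 ∣ 2 ^ a := dvd_pow_self 2 ha.ne'
      omega
    · exact hodd
  rcases Nat.even_or_odd a with ⟨b, hb⟩ | hao
  · exfalso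
    have h1 : p ^ a % 4 = 1 := by
      rw [hb, ← mul_two, pow_mul, Nat.pow_mod]
      have hodd : p ^ b % 2 = 1 := Nat.odd_iff.mp hpo.pow
      have h41 : p ^ b % 4 = 1 ∨ p ^ b % 4 = 3 := by omega
      rcases h41 with e | e <;> simp [e]
    omega
  · obtain ⟨k, hk⟩ : p + 1 ∣ p ^ a + 1 := by
      simpa using hao.nat_add_dvd_pow_add_pow p 1
    have hdvd : p + 1 ∣ 2 ^ d := ⟨k, by omega⟩
    obtain ⟨e, hed, he⟩ := (Nat.dvd_prime_pow Nat.prime_two).mp hdvd
    -- the cofactor is odd
    by_contra ha1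
    have hlt : p + 1 < p ^ a + 1 := by
      have : p ^ 1 < p ^ a := Nat.pow_lt_pow_right hp.one_lt (by omega)
      rw [pow_one] at this
      omega
    have hk1 : k ≠ 1 := by rintro rfl; omega
    have hkd : k ∣ 2 ^ d := ⟨p + 1, by rw [mul_comm]; omega⟩
    have hkeven : k % 2 = 0 := by
      obtain ⟨e', -, rfl⟩ := (Nat.dvd_prime_pow Nat.prime_two).mp hkd
      have : e' ≠ 0 := fun h => hk1 (by rw [h, pow_zero])
      exact Nat.dvd_iff_mod_eq_zero.mp (dvd_pow_self 2 this)
    -- but `(p ^ a + 1) / (p + 1) = 1 - p + p ^ 2 - ...` is odd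
    have hz : (k : ℤ) = ∑ i ∈ Finset.range a, (-(p : ℤ)) ^ i := by
      have hg := geom_sum_mul (-(p : ℤ)) a
      have hk' : ((p : ℤ) + 1) * k = (p : ℤ) ^ a + 1 := by exact_mod_cast hk.symm
      have hne : (p : ℤ) + 1 ≠ 0 := by positivity
      apply mul_left_cancel₀ hne
      rw [hk', hao.neg_pow] at *
      linear_combination hg
    have hz2 : ((k : ℤ) : ZMod 2) = (a : ZMod 2) := by
      rw [hz]
      push_cast
      have : ((p : ℕ) : ZMod 2) = 1 := ZMod.natCast_eq_one_iff_odd.mpr hpo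
      rw [show (-(p : ZMod 2)) = 1 by rw [this]; decide]
      simp
    rw [ZMod.natCast_eq_one_iff_odd.mpr hao, Int.cast_natCast, ZMod.natCast_eq_one_iff_odd,
      Nat.odd_iff] at hz2
    omega

theorem two_pow_add_one {q d a : ℕ} (hq : q.Prime) (h : q ^ d = 2 ^ a + 1) (hd : 0 < d) (hq2 : q ≠ 2) :
    d = 1 ∨ (q = 3 ∧ d = 2) := by
  have hqo : Odd q := hq.eq_two_or_odd'.resolve_left hq2
  have hq3 : 3 ≤ q := by have := hq.two_le; omega
  rcases Nat.even_or_odd d with ⟨b, hb⟩ | hdo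
  · right
    set x := q ^ b with hx
    have hx1 : 1 ≤ x := Nat.one_le_pow _ _ hq.pos
    have hmul : (x - 1) * (x + 1) = 2 ^ a := by
      rw [mul_comm, ← Nat.sq_sub_sq, one_pow, pow_two, hx, ← pow_add, ← hb, h, Nat.add_sub_cancel]
    have hb0 : 0 < b := by omega
    have hx3 : 3 ≤ x := le_trans hq3 (Nat.le_self_pow hb0.ne' q)
    obtain ⟨e1, -, he1⟩ := (Nat.dvd_prime_pow Nat.prime_two).mp (Dvd.intro _ hmul)
    obtain ⟨e2, -, he2⟩ := (Nat.dvd_prime_pow Nat.prime_two).mp (Dvd.intro_left _ hmul)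
    have hx2 : x = 3 := by
      rcases e1 with _ | _ | e1
      · simp at he1; omega
      · simp at he1; omega
      · rcases e2 with _ | _ | e2
        · simp at he2; omega
        · simp at he2; omega
        · rw [pow_succ, pow_succ] at he1 he2
          omega
    have hdvd : q ∣ 3 := hx2 ▸ dvd_pow_self q hb0.ne'
    have hqeq : q = 3 := (Nat.prime_dvd_prime_iff_eq hq Nat.prime_three).mp hdvd
    subst hqeq
    have : b = 1 := Nat.pow_right_injective (by norm_num) (hx2.trans (pow_one 3).symm)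
    exact ⟨rfl, by omega⟩
  · left
    by_contra hd1
    have hg := geom_sum_mul (q : ℤ) d
    have h2 : ((∑ i ∈ Finset.range d, q ^ i : ℕ)) * (q - 1) = 2 ^ a := by
      have := Nat.geomSum_eq (show 2 ≤ q by omega) d
      have hdiv : q - 1 ∣ q ^ d - 1 := by simpa using Nat.sub_dvd_pow_sub_pow q 1 d
      rw [this, Nat.div_mul_cancel hdiv, h, Nat.add_sub_cancel]
    obtain ⟨e, -, he⟩ := (Nat.dvd_prime_pow Nat.prime_two).mp (Dvd.intro _ h2)
    have hodd : ((∑ i ∈ Finset.range d, q ^ i : ℕ) : ZMod 2) = 1 := by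
      push_cast
      rw [ZMod.natCast_eq_one_iff_odd.mpr hqo]
      simp [ZMod.natCast_eq_one_iff_odd.mpr hdo]
    rw [ZMod.natCast_eq_one_iff_odd, he] at hodd
    have he0 : e = 0 := by
      by_contra h0
      have h' := Nat.odd_iff.mp hodd
      have := Nat.dvd_iff_mod_eq_zero.mp (dvd_pow_self 2 h0)
      omega
    rw [he0, pow_zero] at he
    have hle : ∑ i ∈ Finset.range 2, q ^ i ≤ ∑ i ∈ Finset.range d, q ^ i :=
      Finset.sum_le_sum_of_subset (Finset.range_mono (by omega))
    rw [he, Finset.sum_range_succ, Finset.sum_range_one, pow_zero, pow_one] at hle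
    omega

/-- In odd characteristic `PSL₂(q)` is a CIT group only for `q = 9` and primes `2 ^ k ± 1`. -/
theorem psl_cond_odd {F : Type*} [Field F] [Fintype F] (hodd : Odd (Fintype.card F))
    (hcit : IsCIT (Matrix.ProjectiveSpecialLinearGroup (Fin 2) F)) :
    Fintype.card F = 9 ∨ ((Fintype.card F).Prime ∧
      ∃ k : ℕ, Fintype.card F = 2 ^ k + 1 ∨ Fintype.card F + 1 = 2 ^ k) := by
  classical
  obtain ⟨n, hp, hn⟩ := FiniteField.card F (ringChar F)
  set p := ringChar F with hpdef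
  haveI : Fact p.Prime := ⟨hp⟩
  have hp2 : p ≠ 2 := by
    intro e
    rw [hn, e] at hodd
    exact Nat.not_odd_iff_even.mpr (even_iff_two_dvd.mpr (dvd_pow_self 2 n.ne_zero)) hodd
  obtain ⟨r, hr⟩ := hodd
  have h3 : 3 ≤ Fintype.card F := by
    have := hp.two_le
    have h : p ≤ p ^ (n : ℕ) := Nat.le_self_pow n.ne_zero p
    omega
  rcases eq_or_lt_of_le h3 with h3' | h4
  · exact Or.inr ⟨h3' ▸ Nat.prime_three, 1, Or.inl (by rw [← h3']; norm_num)⟩
  haveI : CharP F p := by rw [hpdef]; infer_instance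
  have hspec := SL2.spectrum_PSL (F := F) p (by rw [Nat.card_eq_fintype_card]; omega)
  rw [Nat.card_eq_fintype_card] at hspec
  have hg : Nat.gcd 2 (Fintype.card F - 1) = 2 := Nat.gcd_eq_left ⟨r, by omega⟩
  rw [hg] at hspec
  -- an even element order is a power of two
  have hpow : ∀ x : Matrix.ProjectiveSpecialLinearGroup (Fin 2) F, Even (orderOf x) →
      ∃ k, orderOf x = 2 ^ k := by
    intro x hx
    refine ⟨_, Nat.eq_prime_pow_of_unique_prime_dvd (p := 2) (orderOf_pos x).ne' fun {s} hs hsd => ?_⟩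
    by_contra hs2
    obtain ⟨m, hm⟩ := even_iff_two_dvd.mp hx
    obtain ⟨l, hl⟩ := hsd
    have hy : orderOf (x ^ l) = s := by
      rw [orderOf_pow' x (by rintro rfl; simp at hl; exact (orderOf_pos x).ne' (by simpa using hl)),
        hl, Nat.gcd_mul_left_left]
      exact Nat.mul_div_cancel _ (Nat.pos_of_ne_zero (by
        rintro rfl; exact (orderOf_pos x).ne' (by simpa using hl)))
    have ht : x ^ m * x ^ m = 1 := by rw [← pow_add, ← two_mul, ← hm, pow_orderOf_eq_one]
    have ht1 : x ^ m ≠ 1 := by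
      intro e
      have := Nat.le_of_dvd (by have := orderOf_pos x; omega) (orderOf_dvd_of_pow_eq_one e)
      have := orderOf_pos x
      omega
    have := hcit.eq_one ht ht1 (Commute.pow_pow (Commute.refl x) l m)
      (by rw [hy]; exact hs.odd_of_ne_two hs2)
    rw [this, orderOf_one] at hy
    exact hs.one_lt.ne hy
  rcases Nat.even_or_odd r with he | ho
  · -- `q - 1` is a power of two
    obtain ⟨x, hx⟩ : r ∈ Set.range (orderOf : Matrix.ProjectiveSpecialLinearGroup (Fin 2) F → ℕ) := by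
      rw [hspec]
      exact Or.inr (Or.inl (dvd_of_eq (by omega)))
    obtain ⟨k, hk⟩ := hpow x (hx ▸ he)
    rw [hx] at hk
    have hq : p ^ (n : ℕ) = 2 ^ (k + 1) + 1 := by rw [pow_succ, ← hk]; omega
    rcases two_pow_add_one hp hq n.pos hp2 with h1 | ⟨h1, h2⟩
    · refine Or.inr ⟨by rw [hn, h1, pow_one]; exact hp, k + 1, Or.inl ?_⟩
      rw [hn, hq]
    · exact Or.inl (by rw [hn, h1, h2]; norm_num)
  · -- `q + 1` is a power of two
    obtain ⟨x, hx⟩ : r + 1 ∈ Set.range (orderOf : Matrix.ProjectiveSpecialLinearGroup (Fin 2) F → ℕ) := by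
      rw [hspec]
      exact Or.inr (Or.inr (dvd_of_eq (by omega)))
    obtain ⟨k, hk⟩ := hpow x (hx ▸ ho.add_one)
    rw [hx] at hk
    have hq : 2 ^ (k + 1) - 1 = p ^ (n : ℕ) := by rw [pow_succ, ← hk]; omega
    have h1 := prime_pow_pred_two hp hq n.pos
    refine Or.inr ⟨by rw [hn, h1, pow_one]; exact hp, k + 1, Or.inr ?_⟩
    rw [hn, ← hq]
    have := Nat.one_le_two_pow (n := k + 1)
    omega

theorem psl_cond_even {F : Type*} [Field F] [Fintype F] (h : ¬ Odd (Fintype.card F)) :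
    ∃ n : ℕ, Fintype.card F = 2 ^ n := by
  obtain ⟨n, hp, hn⟩ := FiniteField.card F (ringChar F)
  refine ⟨n, ?_⟩
  have : ringChar F = 2 := by
    by_contra hne
    exact h (hn ▸ (hp.odd_of_ne_two hne).pow)
  rw [hn, this]

/-- The condition on the field, in one statement. -/
theorem psl_cond {G : Type*} [Group G] {F : Type*} [Field F] [Fintype F] (hcit : IsCIT G)
    (e : G ≃* Matrix.ProjectiveSpecialLinearGroup (Fin 2) F) :
    Fintype.card F = 9 ∨ (∃ n : ℕ, Fintype.card F = 2 ^ n) ∨ ((Fintype.card F).Prime ∧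
      ∃ k : ℕ, Fintype.card F = 2 ^ k + 1 ∨ Fintype.card F + 1 = 2 ^ k) := by
  by_cases h : Odd (Fintype.card F)
  · have hF : IsCIT (Matrix.ProjectiveSpecialLinearGroup (Fin 2) F) := by
      intro t ht x
      have ht' : orderOf (e.symm t) = 2 := by rw [MulEquiv.orderOf_eq]; exact ht
      obtain ⟨k, hk⟩ := hcit _ ht' ⟨e.symm x, Subgroup.mem_centralizer_singleton_iff.mpr (by
        rw [← map_mul, ← map_mul, Subgroup.mem_centralizer_singleton_iff.mp x.2])⟩
      refine ⟨k, Subtype.ext (e.symm.injective ?_)⟩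
      rw [Subgroup.coe_pow, map_pow, Subgroup.coe_one, map_one]
      exact congrArg Subtype.val hk
    rcases psl_cond_odd h hF with h9 | hp
    · exact Or.inl h9
    · exact Or.inr (Or.inr hp)
  · exact Or.inr (Or.inl (psl_cond_even h))

end CfsgLib.CIT
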