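import Mathlib
import Cfsg.Agent.Lib.CIT.Basic

/-!
The subgroup `Ω₁(Z(P))` and the structure of the exceptional `2`-groups: a product of two
elementary abelian subgroups of order `q²` meeting in the centre of order `q`.
-/

set_option autoImplicit false
set_option linter.unusedSectionVars false

namespace CfsgLib.CIT

variable {G : Type*} [Group G]

theorem inv_eq_self {x : G} (h : x * x = 1) : x⁻¹ = x := inv_eq_of_mul_eq_one_right h

theorem commute_of_invol {A : Subgroup G} (h : ∀ a ∈ A, a * a = 1) {a b : G} (ha : a ∈ A)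
    (hb : b ∈ A) : Commute a b := by
  show a * b = b * a
  rw [← inv_eq_self (h _ (mul_mem ha hb)), mul_inv_rev, inv_eq_self (h a ha), inv_eq_self (h b hb)]

theorem isPGroup_of_invol {A : Subgroup G} (h : ∀ a ∈ A, a * a = 1) : IsPGroup 2 A :=
  fun a => ⟨1, Subtype.ext (by
    show (a : G) ^ 2 ^ 1 = 1
    rw [pow_one, pow_two]; exact h a a.2)⟩

/-- The elements of order at most two in the centre of a subgroup. -/
def omegaCenter (P : Subgroup G) : Subgroup G where
  carrier := {x | x ∈ P ∧ x * x = 1 ∧ ∀ y ∈ P, Commute x y}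
  one_mem' := ⟨one_mem P, one_mul 1, fun y _ => Commute.one_left y⟩
  mul_mem' := fun {a b} ha hb => ⟨mul_mem ha.1 hb.1, by
    rw [show a * b * (a * b) = a * (b * a) * b by group, ← (ha.2.2 b hb.1).eq,
      show a * (a * b) * b = a * a * (b * b) by group, ha.2.1, hb.2.1, one_mul],
    fun y hy => (ha.2.2 y hy).mul_left (hb.2.2 y hy)⟩
  inv_mem' := fun {a} ha => ⟨inv_mem ha.1, by rw [← mul_inv_rev, ha.2.1, inv_one],
    fun y hy => (ha.2.2 y hy).inv_left⟩

theorem mem_omegaCenter {P : Subgroup G} {x : G} :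
    x ∈ omegaCenter P ↔ x ∈ P ∧ x * x = 1 ∧ ∀ y ∈ P, Commute x y := Iff.rfl

theorem omegaCenter_le (P : Subgroup G) : omegaCenter P ≤ P := fun _ h => h.1

theorem omegaCenter_invol {P : Subgroup G} {x : G} (h : x ∈ omegaCenter P) : x * x = 1 := h.2.1

theorem omegaCenter_ne_bot [Finite G] {P : Subgroup G} (hP : IsPGroup 2 P) (h : P ≠ ⊥) :
    omegaCenter P ≠ ⊥ := by
  obtain ⟨t, ht, h2, h1, hc⟩ := exists_central_invol hP h
  exact fun e => h1 (Subgroup.mem_bot.mp (e ▸ (⟨ht, h2, hc⟩ : t ∈ omegaCenter P)))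

theorem normalizer_le_normalizer_omegaCenter (P : Subgroup G) :
    Subgroup.normalizer (P : Set G) ≤ Subgroup.normalizer (omegaCenter P : Set G) := by
  have key : ∀ g ∈ Subgroup.normalizer (P : Set G), ∀ x ∈ omegaCenter P,
      g * x * g⁻¹ ∈ omegaCenter P := by
    intro g hg x hx
    refine ⟨(Subgroup.mem_normalizer_iff.mp hg x).mp hx.1, by
      rw [show g * x * g⁻¹ * (g * x * g⁻¹) = g * (x * x) * g⁻¹ by group, hx.2.1]; group,
      fun y hy => ?_⟩
    have hy' : g⁻¹ * y * g ∈ P := by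
      have := (Subgroup.mem_normalizer_iff.mp (inv_mem hg) y).mp hy
      rwa [inv_inv] at this
    show g * x * g⁻¹ * y = y * (g * x * g⁻¹)
    rw [show g * x * g⁻¹ * y = g * (x * (g⁻¹ * y * g)) * g⁻¹ by group, (hx.2.2 _ hy').eq]
    group
  intro g hg
  refine Subgroup.mem_normalizer_iff.mpr fun x => ⟨key g hg x, fun hx => ?_⟩
  have := key g⁻¹ (inv_mem hg) _ hx
  rwa [inv_inv, show g⁻¹ * (g * x * g⁻¹) * g = x by group] at this

/-- Commutators are central of order at most two. -/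
def Exc (T : Subgroup G) : Prop :=
  ∀ x ∈ T, ∀ y ∈ T, (∀ t ∈ T, Commute (x * y * x⁻¹ * y⁻¹) t) ∧
    x * y * x⁻¹ * y⁻¹ * (x * y * x⁻¹ * y⁻¹) = 1

/-- The exceptional structure. -/
structure Expl (T V A Z : Subgroup G) (q : ℕ) : Prop where
  one_lt : 1 < q
  V_le : V ≤ T
  A_le : A ≤ T
  card_T : Nat.card T = q * q * q
  card_V : Nat.card V = q * q
  card_A : Nat.card A = q * q
  card_Z : Nat.card Z = q
  inter : V ⊓ A = Z
  central : ∀ z ∈ Z, ∀ t ∈ T, Commute z t
  elem_V : ∀ v ∈ V, v * v = 1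
  elem_A : ∀ a ∈ A, a * a = 1
  invol : ∀ t ∈ T, t * t = 1 → t ∈ V ∨ t ∈ A
  comm : ∀ v ∈ V, ∀ a ∈ A, Commute v a → v ∈ Z ∨ a ∈ Z
  derived : ∀ x ∈ T, ∀ y ∈ T, x * y * x⁻¹ * y⁻¹ ∈ Z

namespace Expl

variable {T V A Z : Subgroup G} {q : ℕ} (h : Expl T V A Z q)
include h

theorem Z_le_V : Z ≤ V := h.inter ▸ inf_le_left

theorem Z_le_A : Z ≤ A := h.inter ▸ inf_le_right

theorem Z_le_T : Z ≤ T := h.Z_le_V.trans h.V_le

theorem symm : Expl T A V Z q where
  one_lt := h.one_lt
  V_le := h.A_le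
  A_le := h.V_le
  card_T := h.card_T
  card_V := h.card_A
  card_A := h.card_V
  card_Z := h.card_Z
  inter := inf_comm A V ▸ h.inter
  central := h.central
  elem_V := h.elem_A
  elem_A := h.elem_V
  invol := fun t ht h2 => (h.invol t ht h2).symm
  comm := fun a ha v hv hc => (h.comm v hv a ha hc.symm).symm
  derived := h.derived

theorem q_pos : 0 < q := Nat.zero_lt_of_lt h.one_lt

theorem exists_mul [Finite G] {t : G} (ht : t ∈ T) : ∃ v ∈ V, ∃ a ∈ A, v * a = t := by
  classical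
  let K : Subgroup T := V.subgroupOf T
  let f : V × A → T := fun p => ⟨(p.1 : G) * p.2, mul_mem (h.V_le p.1.2) (h.A_le p.2.2)⟩
  -- the fibres of the product map have at most `|Z|` elements
  have hle : Nat.card (V × A) ≤ Nat.card (Set.range f) * Nat.card Z := by
    rw [← Nat.card_prod]
    let g : V × A → Set.range f × Z := fun p =>
      ⟨⟨f p, p, rfl⟩, ⟨((Function.invFun f (f p)).1 : G)⁻¹ * p.1, by
        have e := Function.invFun_eq (f := f) ⟨p, rfl⟩
        have e' : ((Function.invFun f (f p)).1 : G) * (Function.invFun f (f p)).2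
            = (p.1 : G) * p.2 := congrArg Subtype.val e
        rw [← h.inter]
        refine Subgroup.mem_inf.mpr ⟨mul_mem (inv_mem (Function.invFun f (f p)).1.2) p.1.2, ?_⟩
        rw [show ((Function.invFun f (f p)).1 : G)⁻¹ * p.1
          = (Function.invFun f (f p)).2 * (p.2 : G)⁻¹ by
            rw [inv_mul_eq_iff_eq_mul, ← mul_assoc, e', mul_inv_cancel_right]]
        exact mul_mem (Function.invFun f (f p)).2.2 (inv_mem p.2.2)⟩⟩
    refine Nat.card_le_card_of_injective g fun p p' e => ?_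
    have e1 : f p = f p' := congrArg Subtype.val (congrArg Prod.fst e)
    have e2 : ((Function.invFun f (f p)).1 : G)⁻¹ * p.1
        = ((Function.invFun f (f p')).1 : G)⁻¹ * p'.1 :=
      congrArg Subtype.val (congrArg Prod.snd e)
    rw [e1] at e2
    have e3 : (p.1 : G) = p'.1 := mul_left_cancel e2
    have e4 : (p.1 : G) * p.2 = p'.1 * p'.2 := congrArg Subtype.val e1
    rw [e3] at e4
    exact Prod.ext (Subtype.ext e3) (Subtype.ext (mul_left_cancel e4))
  rw [Nat.card_prod, h.card_V, h.card_A, h.card_Z] at hle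
  have hcard : Nat.card T ≤ Nat.card (Set.range f) := by
    rw [h.card_T]
    refine Nat.le_of_mul_le_mul_right ?_ h.q_pos
    calc q * q * q * q = q * q * (q * q) := by ring
      _ ≤ _ := hle
  have htop : Set.range f = Set.univ := by
    refine Set.eq_of_subset_of_ncard_le (Set.subset_univ _) ?_
    rwa [Set.ncard_univ, ← Nat.card_coe_set_eq]
  obtain ⟨⟨v, a⟩, hva⟩ : (⟨t, ht⟩ : T) ∈ Set.range f := htop ▸ Set.mem_univ _
  exact ⟨v, v.2, a, a.2, congrArg Subtype.val hva⟩

theorem conj_mem_V {t v : G} (ht : t ∈ T) (hv : v ∈ V) : t * v * t⁻¹ ∈ V := by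
  have := mul_mem (h.Z_le_V (h.derived t ht v (h.V_le hv))) hv
  rwa [inv_mul_cancel_right] at this

theorem conj_mem_A {t a : G} (ht : t ∈ T) (ha : a ∈ A) : t * a * t⁻¹ ∈ A :=
  h.symm.conj_mem_V ht ha

theorem T_le_normalizer_V : T ≤ Subgroup.normalizer (V : Set G) := fun t ht =>
  Subgroup.mem_normalizer_iff.mpr fun v => ⟨h.conj_mem_V ht, fun hv => by
    have := h.conj_mem_V (inv_mem ht) hv
    rwa [inv_inv, show t⁻¹ * (t * v * t⁻¹) * t = v by group] at this⟩

theorem T_le_normalizer_A : T ≤ Subgroup.normalizer (A : Set G) := h.symm.T_le_normalizer_V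

theorem exists_V_not_mem [Finite G] : ∃ v ∈ V, v ∉ Z := by
  by_contra! hc
  have := Subgroup.card_le_of_le (show V ≤ Z from hc)
  rw [h.card_V, h.card_Z] at this
  nlinarith [h.one_lt]

theorem exists_A_not_mem [Finite G] : ∃ a ∈ A, a ∉ Z := h.symm.exists_V_not_mem

theorem elementary_le {E : Subgroup G} (hE : E ≤ T) (h2 : ∀ e ∈ E, e * e = 1) :
    E ≤ V ∨ E ≤ A := by
  by_contra hc
  rw [not_or, SetLike.not_le_iff_exists, SetLike.not_le_iff_exists] at hc
  obtain ⟨⟨a, ha, haV⟩, v, hv, hvA⟩ := hc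
  have ha' : a ∈ A := (h.invol a (hE ha) (h2 a ha)).resolve_left haV
  have hv' : v ∈ V := (h.invol v (hE hv) (h2 v hv)).resolve_right hvA
  rcases h.comm v hv' a ha' (commute_of_invol h2 hv ha) with e | e
  · exact hvA (h.Z_le_A e)
  · exact haV (h.Z_le_V e)

theorem eq_or_eq [Finite G] {E : Subgroup G} (hE : E ≤ T) (h2 : ∀ e ∈ E, e * e = 1)
    (hcard : q * q ≤ Nat.card E) : E = V ∨ E = A := by
  rcases h.elementary_le hE h2 with e | e
  · exact Or.inl (Subgroup.eq_of_le_of_card_ge e (by rw [h.card_V]; exact hcard))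
  · exact Or.inr (Subgroup.eq_of_le_of_card_ge e (by rw [h.card_A]; exact hcard))

theorem ne : V ≠ A := fun e => by
  have h1 := h.card_V
  rw [show V = Z by rw [← h.inter, ← e, inf_idem], h.card_Z] at h1
  nlinarith [h.one_lt]

theorem mem_Z_of_central [Finite G] {x : G} (hx : x ∈ T) (hc : ∀ t ∈ T, Commute x t) : x ∈ Z := by
  obtain ⟨v, hv, a, ha, rfl⟩ := h.exists_mul hx
  obtain ⟨v₀, hv₀, hv₀Z⟩ := h.exists_V_not_mem
  obtain ⟨a₀, ha₀, ha₀Z⟩ := h.exists_A_not_mem
  have haZ : a ∈ Z := by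
    refine (h.comm v₀ hv₀ a ha ?_).resolve_left hv₀Z
    have h1 := ((commute_of_invol h.elem_V hv hv₀).inv_left).mul_left (hc v₀ (h.V_le hv₀))
    rw [inv_mul_cancel_left] at h1
    exact h1.symm
  have hvZ : v ∈ Z := by
    refine (h.comm v hv a₀ ha₀ ?_).resolve_right ha₀Z
    have h1 := (hc a₀ (h.A_le ha₀)).mul_left ((commute_of_invol h.elem_A ha ha₀).inv_left)
    rwa [mul_inv_cancel_right] at h1
  exact mul_mem hvZ haZ

theorem mem_V_of_centralizes [Finite G] {x : G} (hx : x ∈ T) (hc : ∀ v ∈ V, Commute x v) :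
    x ∈ V := by
  obtain ⟨v, hv, a, ha, rfl⟩ := h.exists_mul hx
  obtain ⟨v₀, hv₀, hv₀Z⟩ := h.exists_V_not_mem
  refine mul_mem hv (h.Z_le_V ((h.comm v₀ hv₀ a ha ?_).resolve_left hv₀Z))
  have h1 := ((commute_of_invol h.elem_V hv hv₀).inv_left).mul_left (hc v₀ hv₀)
  rw [inv_mul_cancel_left] at h1
  exact h1.symm

theorem map {G' : Type*} [Group G'] (f : G →* G') (hf : Function.Injective f) :
    Expl (T.map f) (V.map f) (A.map f) (Z.map f) q where
  one_lt := h.one_lt
  V_le := Subgroup.map_mono h.V_le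
  A_le := Subgroup.map_mono h.A_le
  card_T := by rw [Subgroup.card_map_of_injective hf, h.card_T]
  card_V := by rw [Subgroup.card_map_of_injective hf, h.card_V]
  card_A := by rw [Subgroup.card_map_of_injective hf, h.card_A]
  card_Z := by rw [Subgroup.card_map_of_injective hf, h.card_Z]
  inter := by rw [← Subgroup.map_inf V A f hf, h.inter]
  central := by
    rintro _ ⟨z, hz, rfl⟩ _ ⟨t, ht, rfl⟩
    exact (h.central z hz t ht).map f
  elem_V := by
    rintro _ ⟨v, hv, rfl⟩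
    rw [← map_mul, h.elem_V v hv, map_one]
  elem_A := by
    rintro _ ⟨a, ha, rfl⟩
    rw [← map_mul, h.elem_A a ha, map_one]
  invol := by
    rintro _ ⟨t, ht, rfl⟩ e
    rw [← map_mul, ← map_one f] at e
    exact (h.invol t ht (hf e)).imp (fun h' => ⟨t, h', rfl⟩) (fun h' => ⟨t, h', rfl⟩)
  comm := by
    rintro _ ⟨v, hv, rfl⟩ _ ⟨a, ha, rfl⟩ e
    have e' : v * a = a * v := hf (by rw [map_mul, map_mul]; exact e.eq)
    exact (h.comm v hv a ha e').imp (fun h' => ⟨v, h', rfl⟩) (fun h' => ⟨a, h', rfl⟩)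
  derived := by
    rintro _ ⟨x, hx, rfl⟩ _ ⟨y, hy, rfl⟩
    exact ⟨_, h.derived x hx y hy, by simp⟩

end Expl

end CfsgLib.CIT
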