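import Mathlib
import Cfsg.Agent.Lib.CIT.Basic
import Cfsg.Agent.Lib.Offender.Basic
import Cfsg.Agent.Lib.Offender.BestReplacement
import Cfsg.Agent.Lib.Classical.PSLSmall
import Cfsg.Agent.Lib.SL2.PSL
import Cfsg.Agent.S1230

/-!
Offenders on modules of groups in which involution centralisers are `2`-groups: if an element of
odd order fixes no non-zero vector, the group is `SL₂(q)` acting on a module of order `q²`.
-/

set_option autoImplicit false
set_option linter.unusedSectionVars false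
set_option linter.style.haveILetI false

namespace CfsgLib.CIT

open CfsgLib.Offender
open scoped Pointwise

variable {X : Type*} [Group X] [Finite X] {V : Type*} [AddCommGroup V] [Finite V]
  {φ : X →* AddMonoid.End V}

/-- The fixed points of an element. -/
def fixEl (φ : X →* AddMonoid.End V) (x : X) : AddSubgroup V where
  carrier := {v | φ x v = v}
  zero_mem' := map_zero (φ x)
  add_mem' := fun {u v} hu hv => by
    show φ x (u + v) = u + v
    rw [map_add, hu, hv]
  neg_mem' := fun {u} hu => by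
    show φ x (-u) = -u
    rw [map_neg, hu]

theorem mem_fixEl {x : X} {v : V} : v ∈ fixEl φ x ↔ φ x v = v := Iff.rfl

/-- An element as an additive map. -/
def act (φ : X →* AddMonoid.End V) (x : X) : V →+ V := φ x

theorem act_apply (φ : X →* AddMonoid.End V) (x : X) (v : V) : act φ x v = φ x v := rfl

theorem map_mul_apply (φ : X →* AddMonoid.End V) (x y : X) (v : V) :
    φ (x * y) v = φ x (φ y v) := by
  rw [map_mul]; rfl

theorem map_one_apply (φ : X →* AddMonoid.End V) (v : V) : φ 1 v = v := by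
  rw [map_one]; rfl

theorem map_inv_apply_self (φ : X →* AddMonoid.End V) (x : X) (v : V) :
    φ x⁻¹ (φ x v) = v := by
  rw [← map_mul_apply, inv_mul_cancel, map_one_apply]

theorem map_apply_inv_self (φ : X →* AddMonoid.End V) (x : X) (v : V) :
    φ x (φ x⁻¹ v) = v := by
  rw [← map_mul_apply, mul_inv_cancel, map_one_apply]

theorem map_apply_injective (φ : X →* AddMonoid.End V) (x : X) :
    Function.Injective (φ x) := fun u v h => by
  rw [← map_inv_apply_self φ x u, h, map_inv_apply_self]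

theorem map_apply_eq_zero (φ : X →* AddMonoid.End V) {x : X} {v : V} (h : φ x v = 0) : v = 0 :=
  map_apply_injective φ x (h.trans (map_zero (φ x)).symm)

theorem fixEl_eq_range_of_card {t : X} {r : AddMonoid.End V} (hr : r = φ t - 1)
    (hsq : Nat.card (fixEl φ t) * Nat.card (fixEl φ t) = Nat.card V)
    {W : AddSubgroup V} (hW : ∀ v, φ t v - v ∈ W) (hWle : W ≤ fixEl φ t) : W = fixEl φ t := by
  let f : V →+ V := r
  have hker : f.ker = fixEl φ t := by
    ext v
    rw [AddMonoidHom.mem_ker, mem_fixEl]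
    show r v = 0 ↔ _
    rw [hr]
    exact sub_eq_zero
  have hle : f.range ≤ W := by
    rintro _ ⟨v, rfl⟩
    show r v ∈ W
    rw [hr]
    exact hW v
  have hc := f.ker.card_mul_index
  rw [AddSubgroup.index_ker, hker, ← hsq] at hc
  refine AddSubgroup.eq_of_le_of_card_ge hWle ?_
  rw [← Nat.eq_of_mul_eq_mul_left Nat.card_pos hc]
  exact AddSubgroup.card_le_of_le hle

/-- The hypotheses on the action. -/
structure Hyp (φ : X →* AddMonoid.End V) : Prop where
  two : ∀ v : V, v + v = 0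
  inj : Function.Injective φ
  fpf : ∀ x : X, Odd (orderOf x) → x ≠ 1 → ∀ v, φ x v = v → v = 0
  cit : IsCIT X
  core : Cfsg.pCore 2 X = ⊥
  off : ∃ A : Subgroup X, A ≠ ⊥ ∧ (∀ a ∈ A, a * a = 1) ∧
    Nat.card V ≤ Nat.card A * Nat.card (fixSub φ A)

/-- A quadratic subgroup of largest possible order. -/
structure Quad (φ : X →* AddMonoid.End V) (B : Subgroup X) : Prop where
  ne_bot : B ≠ ⊥
  invol : ∀ b ∈ B, b * b = 1
  card_fix : Nat.card (fixSub φ B) = Nat.card B
  card_V : Nat.card V = Nat.card B * Nat.card B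
  fix_eq : ∀ b ∈ B, b ≠ 1 → fixEl φ b = fixSub φ B

namespace Hyp

variable (h : Hyp φ)
include h

theorem neg_eq (v : V) : -v = v := neg_eq_of_add_eq_zero_left (h.two v)

theorem sub_mem_fix {t : X} (ht : t * t = 1) (v : V) : φ t v - v ∈ fixEl φ t := by
  rw [mem_fixEl, map_sub, ← map_mul_apply, ht, map_one_apply, ← neg_sub, h.neg_eq]

theorem card_fix_sq {t : X} (ht : t * t = 1) (ht1 : t ≠ 1) :
    Nat.card (fixEl φ t) * Nat.card (fixEl φ t) = Nat.card V := by
  obtain ⟨c, hc1, hco, hc⟩ := exists_inverted h.core ht ht1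
  have hti : t⁻¹ = t := inv_eq_of_mul_eq_one_right ht
  apply le_antisymm
  · have hF : fixEl φ t ⊓ (fixEl φ t).map (act φ c) = ⊥ := by
      rw [eq_bot_iff]
      rintro v ⟨hv, u, hu, rfl⟩
      have hv' : φ t (φ c u) = φ c u := hv
      have hu' : φ t u = u := hu
      rw [← map_mul_apply, show t * c = c⁻¹ * t by rw [← hc, mul_assoc, inv_mul_cancel, mul_one],
        map_mul_apply, hu'] at hv'
      have h2 : φ (c ^ 2) u = u := by
        rw [pow_two, map_mul_apply, ← hv', map_apply_inv_self]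
      have hu0 := h.fpf (c ^ 2) ?_ ?_ u h2
      · show φ c u = 0
        rw [hu0, map_zero]
      · rw [Nat.Coprime.orderOf_pow (Nat.coprime_two_right.mpr hco)]
        exact hco
      · intro e
        exact hc1 (eq_one_of_odd_two hco (k := 1) e)
    have hle := card_mul_card_le_addSubgroup (fixEl φ t) ((fixEl φ t).map (act φ c))
    rw [hF, AddSubgroup.card_bot, mul_one,
      AddSubgroup.card_map_of_injective (f := act φ c) (map_apply_injective φ c)] at hle
    exact hle.trans (AddSubgroup.card_le_card_addGroup _)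
  · let f : V →+ V := act φ t - AddMonoidHom.id V
    have hker : f.ker = fixEl φ t := by
      ext v
      rw [AddMonoidHom.mem_ker, mem_fixEl]
      exact sub_eq_zero
    have hle : f.range ≤ fixEl φ t := by
      rintro _ ⟨v, rfl⟩
      exact h.sub_mem_fix ht v
    have hc' := f.ker.card_mul_index
    rw [AddSubgroup.index_ker, hker] at hc'
    rw [← hc']
    exact Nat.mul_le_mul_left _ (AddSubgroup.card_le_of_le hle)

theorem nontrivial_V : Nontrivial V := by
  by_contra hs
  rw [not_nontrivial_iff_subsingleton] at hs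
  obtain ⟨A, hA, -⟩ := h.off
  refine hA (eq_bot_iff.mpr fun a _ => Subgroup.mem_bot.mpr (h.inj ?_))
  exact DFunLike.ext _ _ fun v => Subsingleton.elim _ _

theorem exists_quad : ∃ B : Subgroup X, Quad φ B := by
  obtain ⟨A, hA1, hA2, hoff⟩ := h.off
  haveI := h.nontrivial_V
  haveI : Fact (Nat.Prime 2) := ⟨Nat.prime_two⟩
  have hinv : ∀ a ∈ A, a⁻¹ = a := fun a ha => inv_eq_of_mul_eq_one_right (hA2 a ha)
  have hAc : ∀ a ∈ A, ∀ b ∈ A, a * b = b * a := fun a ha b hb => by
    rw [← hinv _ (mul_mem ha hb), mul_inv_rev, hinv a ha, hinv b hb]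
  have hAp : IsPGroup 2 A := fun a => ⟨1, Subtype.ext (by
    show (a : X) ^ 2 ^ 1 = 1
    rw [pow_one, pow_two]; exact hA2 a a.2)⟩
  obtain ⟨B, hBA, hB1, hBoff, -, hq⟩ := exists_quadratic (p := 2)
    (fun v => (two_nsmul v).trans (h.two v)) φ hA1 hAp hAc hoff
  have hfix : ∀ b ∈ B, b ≠ 1 → fixEl φ b = fixSub φ B := by
    intro b hb hb1
    refine (fixEl_eq_range_of_card rfl (h.card_fix_sq (hA2 b (hBA hb)) hb1) (W := fixSub φ B) (fun v c hc => hq b hb c hc v)
      fun v hv => ?_).symm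
    exact hv b hb
  obtain ⟨b, hb, hb1⟩ : ∃ b ∈ B, b ≠ 1 := by
    by_contra! hc
    exact hB1 (eq_bot_iff.mpr fun x hx => Subgroup.mem_bot.mpr (hc x hx))
  have hsq := h.card_fix_sq (hA2 b (hBA hb)) hb1
  rw [hfix b hb hb1] at hsq
  obtain ⟨v, hv⟩ : ∃ v, v ∉ fixSub φ B := by
    by_contra! hc
    refine hb1 (h.inj ?_)
    rw [map_one]
    exact DFunLike.ext _ _ fun v => hc v b hb
  have hle : Nat.card B ≤ Nat.card (fixSub φ B) := by
    refine Nat.card_le_card_of_injective
      (fun x : B => (⟨φ (x : X) v - v, fun c hc => hq x x.2 c hc v⟩ : fixSub φ B)) ?_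
    intro x y hxy
    have e : φ (x : X) v = φ (y : X) v := sub_left_inj.mp (congrArg Subtype.val hxy :)
    by_contra hne
    refine hv ?_
    have h1 : ((y : X)⁻¹ * x) ≠ 1 := fun e' => hne (Subtype.ext (inv_mul_eq_one.mp e').symm)
    rw [← hfix _ (mul_mem (inv_mem y.2) x.2) h1, mem_fixEl, map_mul_apply, e, map_inv_apply_self]
  have hge : Nat.card (fixSub φ B) ≤ Nat.card B := by
    rw [← hsq] at hBoff
    exact Nat.le_of_mul_le_mul_right hBoff Nat.card_pos
  have hcard : Nat.card (fixSub φ B) = Nat.card B := le_antisymm hge hle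
  exact ⟨B, hB1, fun x hx => hA2 x (hBA hx), hcard, by rw [← hsq, hcard], hfix⟩

end Hyp

/-- The stabiliser of the fixed space of a subgroup. -/
def stab (φ : X →* AddMonoid.End V) (B : Subgroup X) : Subgroup X where
  carrier := {x | (fixSub φ B).map (act φ x) = fixSub φ B}
  one_mem' := by
    show (fixSub φ B).map (act φ 1) = _
    rw [show act φ 1 = AddMonoidHom.id V from DFunLike.ext _ _ fun v => map_one_apply φ v]
    exact AddSubgroup.map_id _
  mul_mem' := fun {a b} ha hb => by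
    show (fixSub φ B).map (act φ (a * b)) = _
    rw [show act φ (a * b) = (act φ a).comp (act φ b) from
      DFunLike.ext _ _ fun v => map_mul_apply φ a b v, ← AddSubgroup.map_map,
      show (fixSub φ B).map (act φ b) = _ from hb, show (fixSub φ B).map (act φ a) = _ from ha]
  inv_mem' := fun {a} ha => by
    show (fixSub φ B).map (act φ a⁻¹) = _
    nth_rw 1 [← show (fixSub φ B).map (act φ a) = _ from ha]
    rw [AddSubgroup.map_map, show (act φ a⁻¹).comp (act φ a) = AddMonoidHom.id V from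
      DFunLike.ext _ _ fun v => map_inv_apply_self φ a v, AddSubgroup.map_id]

theorem apply_mem_of_mem_stab {B : Subgroup X} {x : X} (hx : x ∈ stab φ B) {v : V}
    (hv : v ∈ fixSub φ B) : φ x v ∈ fixSub φ B := by
  have : φ x v ∈ (fixSub φ B).map (act φ x) := ⟨v, hv, rfl⟩
  rwa [show (fixSub φ B).map (act φ x) = fixSub φ B from hx] at this

namespace Quad

variable (h : Hyp φ) {B : Subgroup X} (hB : Quad φ B)
include h hB

theorem isPGroup : IsPGroup 2 B := fun b => ⟨1, Subtype.ext (by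
  show (b : X) ^ 2 ^ 1 = 1
  rw [pow_one, pow_two]; exact hB.invol b b.2)⟩

theorem exists_mem : ∃ b ∈ B, b ≠ 1 := by
  by_contra! hc
  exact hB.ne_bot (eq_bot_iff.mpr fun x hx => Subgroup.mem_bot.mpr (hc x hx))

theorem one_lt_card : 1 < Nat.card B := (B.one_lt_card_iff_ne_bot).mpr hB.ne_bot

theorem card_fixEl {c : X} (hc : c * c = 1) (hc1 : c ≠ 1) :
    Nat.card (fixEl φ c) = Nat.card B := by
  have h1 := h.card_fix_sq hc hc1
  rw [hB.card_V] at h1
  exact Nat.mul_self_inj.mp h1

/-- An involution commuting with `B` has the fixed points of `B`. -/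
theorem fixEl_eq {c : X} (hc : c * c = 1) (hc1 : c ≠ 1) (hcomm : ∀ b ∈ B, Commute c b) :
    fixEl φ c = fixSub φ B := by
  have hcard := hB.card_fixEl h hc hc1
  rw [← hB.card_fix] at hcard
  by_cases hle : fixEl φ c ≤ fixSub φ B
  · exact AddSubgroup.eq_of_le_of_card_ge hle hcard.ge
  exfalso
  obtain ⟨v, hvc, hvW⟩ := SetLike.not_le_iff_exists.mp hle
  set W' := fixSub φ B ⊓ fixEl φ c with hW'
  have hinj : Nat.card B ≤ Nat.card W' := by
    refine Nat.card_le_card_of_injective (fun b : B => (⟨φ (b : X) v - v, ?_, ?_⟩ : W')) ?_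
    · obtain ⟨d, hd, hd1⟩ := hB.exists_mem h
      by_cases hb1 : (b : X) = 1
      · rw [hb1, map_one_apply, sub_self]; exact zero_mem _
      · rw [← hB.fix_eq b b.2 hb1]; exact h.sub_mem_fix (hB.invol b b.2) v
    · show φ c (φ (b : X) v - v) = φ (b : X) v - v
      rw [map_sub, ← map_mul_apply, (hcomm b b.2).eq, map_mul_apply, show φ c v = v from hvc]
    · intro x y hxy
      have e : φ (x : X) v = φ (y : X) v := sub_left_inj.mp (congrArg Subtype.val hxy :)
      by_contra hne
      refine hvW ?_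
      have h1 : ((y : X)⁻¹ * x) ≠ 1 := fun e' => hne (Subtype.ext (inv_mul_eq_one.mp e').symm)
      rw [← hB.fix_eq _ (mul_mem (inv_mem y.2) x.2) h1, mem_fixEl, map_mul_apply, e,
        map_inv_apply_self]
  have heq : W' = fixSub φ B :=
    AddSubgroup.eq_of_le_of_card_ge inf_le_left (hB.card_fix.le.trans hinj)
  refine hle (le_of_eq (AddSubgroup.eq_of_le_of_card_ge ?_ hcard.le).symm)
  rw [← heq]; exact inf_le_right

theorem sylow_le_stab (T : Sylow 2 X) (hT : B ≤ (T : Subgroup X)) :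
    (T : Subgroup X) ≤ stab φ B := by
  obtain ⟨c, hc, hc2, hc1, hcc⟩ := exists_central_invol T.2
    (fun e => hB.ne_bot (le_bot_iff.mp (hT.trans e.le)))
  have hfix := hB.fixEl_eq h hc2 hc1 fun b hb => hcc b (hT hb)
  intro t ht
  refine AddSubgroup.eq_of_le_of_card_ge ?_ (by
    rw [AddSubgroup.card_map_of_injective (f := act φ t) (map_apply_injective φ t)])
  rintro _ ⟨v, hv, rfl⟩
  rw [← hfix] at hv ⊢
  show φ c (φ t v) = φ t v
  rw [← map_mul_apply, (hcc t ht).eq, map_mul_apply, show φ c v = v from hv]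

/-- The fixed spaces of the conjugates of `B` meet trivially. -/
theorem mem_stab_of_apply_mem {x : X} {w : V} (hw : w ∈ fixSub φ B) (hw0 : w ≠ 0)
    (hx : φ x w ∈ fixSub φ B) : x ∈ stab φ B := by
  haveI : Fact (Nat.Prime 2) := ⟨Nat.prime_two⟩
  let P : Subgroup X :=
    { carrier := {y | φ y (φ x w) = φ x w}
      one_mem' := map_one_apply φ _
      mul_mem' := fun {a b} ha hb => by
        show φ (a * b) (φ x w) = φ x w
        rw [map_mul_apply, hb, ha]
      inv_mem' := fun {a} ha => by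
        show φ a⁻¹ (φ x w) = φ x w
        conv_lhs => rw [← ha]
        exact map_inv_apply_self φ a _ }
  have hP : IsPGroup 2 P := isPGroup_two_of_forall fun y hy => by
    rw [← Subgroup.orderOf_coe] at hy
    by_contra hne
    exact hw0 (map_apply_eq_zero φ
      (h.fpf y hy (fun e => hne (Subtype.ext e)) _ y.2))
  obtain ⟨T, hT⟩ := hP.exists_le_sylow
  have hBT : B ≤ (T : Subgroup X) := fun b hb => hT (hx b hb)
  obtain ⟨c, hc, hc2, hc1, hcc⟩ := exists_central_invol T.2
    (fun e => hB.ne_bot (le_bot_iff.mp (hBT.trans e.le)))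
  have hconj : ∀ b ∈ B, x * b * x⁻¹ ∈ (T : Subgroup X) := fun b hb => hT (by
    show φ (x * b * x⁻¹) (φ x w) = φ x w
    rw [map_mul_apply, map_inv_apply_self, map_mul_apply, hw b hb])
  have hfix := hB.fixEl_eq h hc2 hc1 fun b hb => hcc b (hBT hb)
  -- the fixed space of the conjugate of `c` is the fixed space of `B` as well
  have hfix' : fixEl φ (x⁻¹ * c * x) = fixSub φ B := by
    refine hB.fixEl_eq h ?_ ?_ fun b hb => ?_
    · rw [show x⁻¹ * c * x * (x⁻¹ * c * x) = x⁻¹ * (c * c) * x by group, hc2]; group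
    · intro e
      exact hc1 (by rw [show c = x * (x⁻¹ * c * x) * x⁻¹ by group, e]; group)
    · show x⁻¹ * c * x * b = b * (x⁻¹ * c * x)
      rw [show x⁻¹ * c * x * b = x⁻¹ * (c * (x * b * x⁻¹)) * x by group,
        (hcc _ (hconj b hb)).eq]
      group
  refine AddSubgroup.eq_of_le_of_card_ge ?_ (by
    rw [AddSubgroup.card_map_of_injective (f := act φ x) (map_apply_injective φ x)])
  rintro _ ⟨v, hv, rfl⟩
  rw [← hfix'] at hv
  rw [← hfix]
  have hv' : φ (x⁻¹ * c * x) v = v := hv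
  show φ c (φ x v) = φ x v
  conv_rhs => rw [← hv']
  rw [map_mul_apply, map_mul_apply, map_apply_inv_self]

theorem le_stab : B ≤ stab φ B := fun b hb => by
  refine AddSubgroup.eq_of_le_of_card_ge ?_ (by
    rw [AddSubgroup.card_map_of_injective (f := act φ b) (map_apply_injective φ b)])
  rintro _ ⟨v, hv, rfl⟩
  show φ b v ∈ fixSub φ B
  rwa [hv b hb]

theorem normalizer_le_stab : Subgroup.normalizer (B : Set X) ≤ stab φ B := by
  intro x hx
  refine AddSubgroup.eq_of_le_of_card_ge ?_ (by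
    rw [AddSubgroup.card_map_of_injective (f := act φ x) (map_apply_injective φ x)])
  rintro _ ⟨v, hv, rfl⟩ b hb
  have hb' : x⁻¹ * b * x ∈ B := by
    have := (Subgroup.mem_normalizer_iff.mp (inv_mem hx) b).mp hb
    rwa [inv_inv] at this
  show φ b (φ x v) = φ x v
  rw [← map_mul_apply, show b * x = x * (x⁻¹ * b * x) by group, map_mul_apply, hv _ hb']

/-- `B` is the kernel of the action of the stabiliser on the fixed space and the quotient by it. -/
theorem mem_of_trivial {x : X} (h1 : ∀ v ∈ fixSub φ B, φ x v = v)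
    (h2 : ∀ v, φ x v - v ∈ fixSub φ B) : x ∈ B := by
  let K : Subgroup X :=
    { carrier := {y | (∀ v ∈ fixSub φ B, φ y v = v) ∧ ∀ v, φ y v - v ∈ fixSub φ B}
      one_mem' := ⟨fun v _ => map_one_apply φ v, fun v => by
        rw [map_one_apply, sub_self]; exact zero_mem _⟩
      mul_mem' := fun {a b} ha hb => ⟨fun v hv => by rw [map_mul_apply, hb.1 v hv, ha.1 v hv],
        fun v => by
          rw [map_mul_apply, show φ a (φ b v) - v = (φ a (φ b v) - φ b v) + (φ b v - v) by abel]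
          exact add_mem (ha.2 _) (hb.2 v)⟩
      inv_mem' := fun {a} ha => ⟨fun v hv => by
          conv_lhs => rw [← ha.1 v hv]
          exact map_inv_apply_self φ a v,
        fun v => by
          have := ha.2 (φ a⁻¹ v)
          rw [map_apply_inv_self] at this
          rw [← neg_sub]
          exact neg_mem this⟩ }
  have hBK : B ≤ K := fun b hb => ⟨fun v hv => hv b hb, fun v => by
    by_cases hb1 : b = 1
    · rw [hb1, map_one_apply, sub_self]; exact zero_mem _
    · rw [← hB.fix_eq b hb hb1]; exact h.sub_mem_fix (hB.invol b hb) v⟩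
  have hfixK : ∀ y ∈ K, y ≠ 1 → fixEl φ y = fixSub φ B := by
    intro y hy hy1
    have hy2 : y * y = 1 := h.inj (DFunLike.ext _ _ fun v => by
      rw [map_mul_apply, map_one_apply]
      have e := hy.1 _ (hy.2 v)
      rw [map_sub] at e
      rw [show φ y (φ y v) = (φ y (φ y v) - φ y v) + φ y v by abel, e,
        show φ y v - v + φ y v = (φ y v + φ y v) - v by abel, h.two, zero_sub, h.neg_eq])
    exact (AddSubgroup.eq_of_le_of_card_ge (fun v hv => hy.1 v hv)
      (by rw [hB.card_fixEl h hy2 hy1, hB.card_fix])).symm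
  obtain ⟨b, hb, hb1⟩ := hB.exists_mem h
  obtain ⟨v, hv⟩ : ∃ v, v ∉ fixSub φ B := by
    by_contra! hc
    refine hb1 (h.inj ?_)
    rw [map_one]
    exact DFunLike.ext _ _ fun v => hc v b hb
  have hle : Nat.card K ≤ Nat.card B := by
    rw [← hB.card_fix]
    refine Nat.card_le_card_of_injective
      (fun x : K => (⟨φ (x : X) v - v, x.2.2 v⟩ : fixSub φ B)) ?_
    intro x y hxy
    have e : φ (x : X) v = φ (y : X) v := sub_left_inj.mp (congrArg Subtype.val hxy :)
    by_contra hne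
    refine hv ?_
    have h1 : ((y : X)⁻¹ * x) ≠ 1 := fun e' => hne (Subtype.ext (inv_mul_eq_one.mp e').symm)
    rw [← hfixK _ (mul_mem (inv_mem y.2) x.2) h1, mem_fixEl, map_mul_apply, e, map_inv_apply_self]
  rw [Subgroup.eq_of_le_of_card_ge hBK hle]
  exact ⟨h1, h2⟩

theorem conj_mem {x b : X} (hx : x ∈ stab φ B) (hb : b ∈ B) : x * b * x⁻¹ ∈ B := by
  refine hB.mem_of_trivial h (fun v hv => ?_) fun v => ?_
  · rw [map_mul_apply, map_mul_apply, apply_mem_of_mem_stab (inv_mem hx) hv b hb,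
      map_apply_inv_self]
  · rw [map_mul_apply, map_mul_apply]
    nth_rw 2 [← map_apply_inv_self φ x v]
    rw [← map_sub]
    refine apply_mem_of_mem_stab hx ?_
    by_cases hb1 : b = 1
    · rw [hb1, map_one_apply, sub_self]; exact zero_mem _
    · rw [← hB.fix_eq b hb hb1]; exact h.sub_mem_fix (hB.invol b hb) _

theorem stab_eq_normalizer : stab φ B = Subgroup.normalizer (B : Set X) := by
  refine le_antisymm (fun x hx => Subgroup.mem_normalizer_iff.mpr fun b => ?_)
    (hB.normalizer_le_stab h)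
  refine ⟨fun hb => hB.conj_mem h hx hb, fun hb => ?_⟩
  have := hB.conj_mem h (inv_mem hx) hb
  rwa [inv_inv, show x⁻¹ * (x * b * x⁻¹) * x = b by group] at this

theorem stab_ne_top : stab φ B ≠ ⊤ := by
  intro e
  rw [hB.stab_eq_normalizer h, Subgroup.normalizer_eq_top_iff] at e
  exact hB.ne_bot (le_bot_iff.mp (h.core ▸ Fitting.le_pCore e (hB.isPGroup h)))

/-- Elements of `B` fix no other point. -/
theorem semiregular {b g : X} (hb : b ∈ B) (hg : g ∉ stab φ B)
    (hbg : g⁻¹ * b * g ∈ stab φ B) : b = 1 := by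
  by_contra hb1
  obtain ⟨w, hw, hw0⟩ : ∃ w ∈ fixSub φ B, w ≠ 0 := by
    by_contra! hc
    have := hB.one_lt_card h
    rw [← hB.card_fix, AddSubgroup.one_lt_card_iff_ne_bot] at this
    exact this ((AddSubgroup.eq_bot_iff_forall _).mpr hc)
  have hbu : φ b (φ g w) = φ g (φ (g⁻¹ * b * g) w) := by
    rw [← map_mul_apply, ← map_mul_apply, show g * (g⁻¹ * b * g) = b * g by group]
  obtain ⟨u, hu, hu0, hub⟩ : ∃ u ∈ fixSub φ B, u ≠ 0 ∧ φ b (φ g u) = φ g u := by
    by_cases e : φ (g⁻¹ * b * g) w = w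
    · exact ⟨w, hw, hw0, by rw [hbu, e]⟩
    · refine ⟨φ (g⁻¹ * b * g) w - w, sub_mem (apply_mem_of_mem_stab hbg hw) hw,
        sub_ne_zero.mpr e, ?_⟩
      rw [map_sub, ← hbu]
      exact h.sub_mem_fix (hB.invol b hb) _
  refine hg (hB.mem_stab_of_apply_mem h hu hu0 ?_)
  rw [← hB.fix_eq b hb hb1]
  exact hub

theorem card_stab_index : (stab φ B).index = Nat.card B + 1 := by
  classical
  obtain ⟨g, hg⟩ : ∃ g, g ∉ stab φ B := by
    by_contra! hc
    exact hB.stab_ne_top h (eq_top_iff.mpr fun x _ => hc x)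
  have hlow : Nat.card B < (stab φ B).index := by
    let f : Option B → X ⧸ stab φ B := fun o => o.elim ((1 : X) : X ⧸ stab φ B)
      fun b => ((((b : X) * g : X)) : X ⧸ stab φ B)
    have hf : Function.Injective f := by
      have h1 : ∀ b : B, ((1 : X) : X ⧸ stab φ B) ≠ (((b : X) * g : X) : X ⧸ stab φ B) := by
        intro b e
        rw [QuotientGroup.eq, inv_one, one_mul] at e
        exact hg ((mul_mem_cancel_left (hB.le_stab h b.2)).mp e)
      rintro (_ | a) (_ | b) e
      · rfl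
      · exact absurd e (h1 b)
      · exact absurd e.symm (h1 a)
      · have e' : ((a : X) * g)⁻¹ * ((b : X) * g) ∈ stab φ B := QuotientGroup.eq.mp e
        rw [show ((a : X) * g)⁻¹ * ((b : X) * g) = g⁻¹ * ((a : X)⁻¹ * b) * g by group] at e'
        rw [Subtype.ext (inv_mul_eq_one.mp (hB.semiregular h (mul_mem (inv_mem a.2) b.2) hg e'))]
    have := Nat.card_le_card_of_injective f hf
    rw [Finite.card_option] at this
    exact this
  have hup : (stab φ B).index * (Nat.card B - 1) ≤ Nat.card B * Nat.card B - 1 := by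
    have e1 : Nat.card {v : fixSub φ B // v ≠ 0} = Nat.card B - 1 := by
      rw [← hB.card_fix]
      haveI := Fintype.ofFinite (fixSub φ B)
      rw [Nat.card_eq_fintype_card, Nat.card_eq_fintype_card, Fintype.card_subtype_compl,
        Fintype.card_subtype_eq]
    have e2 : Nat.card {v : V // v ≠ 0} = Nat.card B * Nat.card B - 1 := by
      rw [← hB.card_V]
      haveI := Fintype.ofFinite V
      rw [Nat.card_eq_fintype_card, Nat.card_eq_fintype_card, Fintype.card_subtype_compl,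
        Fintype.card_subtype_eq]
    rw [← e1, ← e2, Subgroup.index_eq_card, ← Nat.card_prod]
    refine Nat.card_le_card_of_injective
      (fun p : (X ⧸ stab φ B) × {v : fixSub φ B // v ≠ 0} => (⟨φ p.1.out ((p.2.1 : fixSub φ B) : V),
        fun e => p.2.2 (Subtype.ext (map_apply_eq_zero φ e))⟩ : {v : V // v ≠ 0})) ?_
    rintro ⟨x, u, hu⟩ ⟨y, v, hv⟩ e
    have e' : φ x.out (u : V) = φ y.out (v : V) := congrArg Subtype.val e
    have hxy : x = y := by
      rw [← QuotientGroup.out_eq' x, ← QuotientGroup.out_eq' y, QuotientGroup.eq]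
      refine hB.mem_stab_of_apply_mem h v.2 (fun e0 => hv (Subtype.ext e0)) ?_
      rw [map_mul_apply, ← e', map_inv_apply_self]
      exact u.2
    subst hxy
    rw [Prod.mk.injEq]
    exact ⟨rfl, Subtype.ext (Subtype.ext (map_apply_injective φ _ e'))⟩
  have hq := hB.one_lt_card h
  refine le_antisymm ?_ hlow
  refine Nat.le_of_mul_le_mul_right (hup.trans ?_) (show 0 < Nat.card B - 1 by omega)
  obtain ⟨m, hm⟩ : ∃ m, Nat.card B = m + 1 := ⟨_, (Nat.sub_add_cancel hq.le).symm⟩
  rw [hm, Nat.add_sub_cancel]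
  apply le_of_eq
  rw [Nat.sub_eq_iff_eq_add (by nlinarith)]
  ring

theorem exists_translate {g k : X} (hg : g ∉ stab φ B) (hk : k ∉ stab φ B) :
    ∃ b ∈ B, (b * g)⁻¹ * k ∈ stab φ B := by
  classical
  let f : B → {x : X ⧸ stab φ B // x ≠ ((1 : X) : X ⧸ stab φ B)} := fun b =>
    ⟨(((b : X) * g : X) : X ⧸ stab φ B), fun e => by
      rw [QuotientGroup.eq, mul_one, inv_mem_iff] at e
      exact hg ((mul_mem_cancel_left (hB.le_stab h b.2)).mp e)⟩
  have hf : Function.Injective f := by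
    intro a b e
    have e' : ((a : X) * g)⁻¹ * ((b : X) * g) ∈ stab φ B :=
      QuotientGroup.eq.mp (congrArg Subtype.val e)
    rw [show ((a : X) * g)⁻¹ * ((b : X) * g) = g⁻¹ * ((a : X)⁻¹ * b) * g by group] at e'
    exact Subtype.ext (inv_mul_eq_one.mp (hB.semiregular h (mul_mem (inv_mem a.2) b.2) hg e'))
  have hc : Nat.card {x : X ⧸ stab φ B // x ≠ ((1 : X) : X ⧸ stab φ B)} = Nat.card B := by
    haveI := Fintype.ofFinite (X ⧸ stab φ B)
    rw [Nat.card_eq_fintype_card, Fintype.card_subtype_compl, Fintype.card_subtype_eq,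
      ← Nat.card_eq_fintype_card, ← Subgroup.index_eq_card, hB.card_stab_index h,
      Nat.add_sub_cancel]
  obtain ⟨b, hb⟩ := ((Nat.bijective_iff_injective_and_card f).mpr ⟨hf, hc.symm⟩).2
    ⟨((k : X) : X ⧸ stab φ B), fun e => hk (by
      rw [QuotientGroup.eq, mul_one, inv_mem_iff] at e
      exact e)⟩
  exact ⟨b, b.2, QuotientGroup.eq.mp (congrArg Subtype.val hb)⟩

/-- The stabiliser of a pair of points. -/
def torus (φ : X →* AddMonoid.End V) (B : Subgroup X) (g : X) : Subgroup X :=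
  stab φ B ⊓ (stab φ B).comap (MulAut.conj g⁻¹).toMonoidHom

omit h hB in
theorem mem_torus {g x : X} :
    x ∈ torus φ B g ↔ x ∈ stab φ B ∧ g⁻¹ * x * g ∈ stab φ B := by
  unfold torus
  rw [Subgroup.mem_inf, Subgroup.mem_comap]
  show _ ∧ g⁻¹ * x * g⁻¹⁻¹ ∈ _ ↔ _
  rw [inv_inv]

theorem torus_odd {g : X} (hg : g ∉ stab φ B) : Odd (Nat.card (torus φ B g)) := by
  -- an involution fixing two points has its centraliser in both stabilisers
  have key : ∀ d : X, d * d = 1 → d ≠ 1 → d ∈ stab φ B → ∀ k, k ∉ stab φ B →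
      k⁻¹ * d * k ∈ stab φ B →
      ∃ b ∈ B, b ≠ 1 ∧ Commute d b ∧ ∀ c, Commute d c → c ∈ stab φ B := by
    intro d hd hd1 hdM k hk hdk
    have hdB : d ∉ B := fun e => hd1 (hB.semiregular h e hk hdk)
    obtain ⟨b, hb, hb1, hdb⟩ : ∃ b ∈ B, b ≠ 1 ∧ Commute d b := by
      obtain ⟨b₀, hb₀, hb₀1⟩ := hB.exists_mem h
      set b₁ := b₀ * (d * b₀ * d⁻¹) with hb₁
      have hd' : d⁻¹ = d := inv_eq_of_mul_eq_one_right hd
      have hconj : d * b₀ * d⁻¹ ∈ B := hB.conj_mem h hdM hb₀
      by_cases e : b₁ = 1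
      · refine ⟨b₀, hb₀, hb₀1, ?_⟩
        have e' : d * b₀ * d⁻¹ = b₀ := by
          rw [hb₁, mul_eq_one_iff_inv_eq, inv_eq_of_mul_eq_one_right (hB.invol b₀ hb₀)] at e
          exact e.symm
        exact mul_inv_eq_iff_eq_mul.mp e'
      · refine ⟨b₁, mul_mem hb₀ hconj, e, ?_⟩
        have hcomm : b₀ * (d * b₀ * d⁻¹) = (d * b₀ * d⁻¹) * b₀ := by
          rw [← inv_eq_of_mul_eq_one_right (hB.invol _ (mul_mem hb₀ hconj)), mul_inv_rev,
            inv_eq_of_mul_eq_one_right (hB.invol _ hconj),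
            inv_eq_of_mul_eq_one_right (hB.invol _ hb₀)]
        show d * b₁ = b₁ * d
        calc d * b₁ = (d * b₀ * d⁻¹) * (d * (d * b₀ * d⁻¹)) := by rw [hb₁]; group
          _ = (d * b₀ * d⁻¹) * (d * d * b₀ * d⁻¹) := by group
          _ = (d * b₀ * d⁻¹) * b₀ * d := by rw [hd, hd']; group
          _ = b₁ * d := by rw [← hcomm, hb₁]
    refine ⟨b, hb, hb1, hdb, fun c hc => ?_⟩
    set C := Subgroup.centralizer ({d} : Set X) with hC
    have hbC : b ∈ C := Subgroup.mem_centralizer_singleton_iff.mpr hdb.symm.eq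
    have hcC : c ∈ C := Subgroup.mem_centralizer_singleton_iff.mpr hc.symm.eq
    have hCp : IsPGroup 2 C := h.cit d (orderOf_two hd hd1)
    -- `b` has no fixed point on the non-trivial cosets of the stabiliser in `C`
    set S := (stab φ B).subgroupOf C with hS
    by_contra hcM
    have hne : S ≠ ⊤ := fun e => hcM (Subgroup.mem_subgroupOf.mp
      (show (⟨c, hcC⟩ : C) ∈ S by rw [e]; trivial))
    haveI : Fact (Nat.Prime 2) := ⟨Nat.prime_two⟩
    obtain ⟨j, hj⟩ := hCp.index S
    have hj0 : j ≠ 0 := fun e => hne (Subgroup.index_eq_one.mp (by rw [hj, e, pow_zero]))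
    have hfixed : MulAction.fixedPoints (Subgroup.zpowers (⟨b, hbC⟩ : C)) (C ⧸ S)
        = {((1 : C) : C ⧸ S)} := by
      refine Set.eq_singleton_iff_unique_mem.mpr ⟨fun y => ?_, fun y hy => ?_⟩
      · obtain ⟨_, i, rfl⟩ := y
        show (((⟨b, hbC⟩ : C) ^ i * 1 : C) : C ⧸ S) = _
        rw [QuotientGroup.eq, mul_one, mul_one, inv_mem_iff, hS, Subgroup.mem_subgroupOf]
        exact zpow_mem (show (b : X) ∈ stab φ B from hB.le_stab h hb) i
      · induction y using QuotientGroup.induction_on with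
        | _ y =>
          have hy' : (((⟨b, hbC⟩ : C) * y : C) : C ⧸ S) = ((y : C) : C ⧸ S) :=
            hy ⟨_, Subgroup.mem_zpowers _⟩
          rw [QuotientGroup.eq, hS, Subgroup.mem_subgroupOf] at hy'
          rw [QuotientGroup.eq, mul_one, inv_mem_iff, hS, Subgroup.mem_subgroupOf]
          by_contra hyM
          refine hb1 (hB.semiregular h hb hyM ?_)
          have := inv_mem hy'
          simpa [mul_assoc] using this
    have hbp : IsPGroup 2 (Subgroup.zpowers (⟨b, hbC⟩ : C)) := hCp.to_subgroup _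
    have hm := hbp.card_modEq_card_fixedPoints (C ⧸ S)
    rw [hfixed, Nat.card_coe_set_eq, Set.ncard_singleton, ← Subgroup.index_eq_card, hj] at hm
    have : 2 ∣ 2 ^ j := dvd_pow_self 2 hj0
    simp [Nat.ModEq, Nat.mod_eq_zero_of_dvd this] at hm
  rw [← Nat.not_even_iff_odd, even_iff_two_dvd]
  intro h2
  haveI : Fact (Nat.Prime 2) := ⟨Nat.prime_two⟩
  obtain ⟨⟨d, hd⟩, ho⟩ := exists_prime_orderOf_dvd_card' (G := torus φ B g) 2 h2
  rw [Subgroup.orderOf_mk] at ho
  have hd2 : d * d = 1 := by rw [← pow_two, ← ho, pow_orderOf_eq_one]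
  have hd1 : d ≠ 1 := fun e => by simp [e] at ho
  obtain ⟨hdM, hdg⟩ := mem_torus.mp hd
  obtain ⟨b, hb, hb1, hdb, -⟩ := key d hd2 hd1 hdM g hg hdg
  obtain ⟨-, -, -, -, hall⟩ := key (g⁻¹ * d * g)
    (by rw [show g⁻¹ * d * g * (g⁻¹ * d * g) = g⁻¹ * (d * d) * g by group, hd2]; group)
    (fun e => hd1 (by rw [show d = g * (g⁻¹ * d * g) * g⁻¹ by group, e]; group))
    hdg g⁻¹ (fun e => hg (by simpa using inv_mem e)) (by
      rw [show g⁻¹⁻¹ * (g⁻¹ * d * g) * g⁻¹ = d by group]; exact hdM)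
  refine hb1 (hB.semiregular h hb hg (hall _ ?_))
  show g⁻¹ * d * g * (g⁻¹ * b * g) = g⁻¹ * b * g * (g⁻¹ * d * g)
  rw [show g⁻¹ * d * g * (g⁻¹ * b * g) = g⁻¹ * (d * b) * g by group, hdb.eq]
  group

theorem eq_one_of_torus_commute {g d b : X} (hg : g ∉ stab φ B) (hd : d ∈ torus φ B g)
    (hb : b ∈ B) (hb1 : b ≠ 1) (hc : Commute d b) : d = 1 :=
  h.cit.eq_one (hB.invol b hb) hb1 hc
    ((hB.torus_odd h hg).of_dvd_nat ((torus φ B g).orderOf_dvd_natCard hd))

theorem card_stab {g : X} (hg : g ∉ stab φ B) :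
    Nat.card (stab φ B) = Nat.card B * Nat.card (torus φ B g) := by
  rw [← Nat.card_prod]
  refine (Nat.card_congr (Equiv.ofBijective
    (fun p : B × torus φ B g => (⟨(p.1 : X) * p.2, mul_mem (hB.le_stab h p.1.2)
      (mem_torus.mp p.2.2).1⟩ : stab φ B)) ⟨?_, ?_⟩)).symm
  · rintro ⟨a, x⟩ ⟨b, y⟩ e
    have e' : (a : X) * x = b * y := congrArg Subtype.val e
    have hab : a = b := by
      refine Subtype.ext (inv_mul_eq_one.mp (hB.semiregular h
        (mul_mem (inv_mem a.2) b.2) hg ?_))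
      rw [show (a : X)⁻¹ * b = x * (y : X)⁻¹ by
        rw [inv_mul_eq_iff_eq_mul, ← mul_assoc, e', mul_inv_cancel_right]]
      have h1 := mem_torus.mp x.2
      have h2 := mem_torus.mp y.2
      have := mul_mem h1.2 (inv_mem h2.2)
      rwa [show g⁻¹ * (x : X) * g * (g⁻¹ * (y : X) * g)⁻¹ = g⁻¹ * ((x : X) * (y : X)⁻¹) * g
        by group] at this
    subst hab
    exact Prod.ext rfl (Subtype.ext (mul_left_cancel e'))
  · rintro ⟨m, hm⟩
    obtain ⟨b, hb, hbm⟩ := hB.exists_translate h hg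
      (k := m * g) (fun e => hg ((mul_mem_cancel_left hm).mp e))
    refine ⟨⟨⟨b, hb⟩, ⟨b⁻¹ * m, mem_torus.mpr ⟨mul_mem (inv_mem (hB.le_stab h hb)) hm, ?_⟩⟩⟩,
      Subtype.ext (mul_inv_cancel_left b m)⟩
    rwa [show g⁻¹ * (b⁻¹ * m) * g = (b * g)⁻¹ * (m * g) by group]

theorem card_torus_le {g : X} (hg : g ∉ stab φ B) :
    Nat.card (torus φ B g) ≤ Nat.card B - 1 := by
  classical
  obtain ⟨b, hb, hb1⟩ := hB.exists_mem h
  have hc : Nat.card {x : B // x ≠ 1} = Nat.card B - 1 := by
    haveI := Fintype.ofFinite B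
    rw [Nat.card_eq_fintype_card, Fintype.card_subtype_compl, Fintype.card_subtype_eq,
      Nat.card_eq_fintype_card]
  rw [← hc]
  refine Nat.card_le_card_of_injective (fun d : torus φ B g =>
    (⟨⟨(d : X) * b * (d : X)⁻¹, hB.conj_mem h (mem_torus.mp d.2).1 hb⟩, fun e => hb1 (by
      have e' : (d : X) * b * (d : X)⁻¹ = 1 := congrArg Subtype.val e
      rwa [mul_inv_eq_one, mul_eq_left] at e')⟩ : {x : B // x ≠ 1})) ?_
  intro x y e
  have e' : (x : X) * b * (x : X)⁻¹ = y * b * (y : X)⁻¹ :=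
    congrArg (fun z : {x : B // x ≠ 1} => ((z : B) : X)) e
  refine Subtype.ext (inv_mul_eq_one.mp (hB.eq_one_of_torus_commute h hg
    (mul_mem (inv_mem x.2) y.2) hb hb1 ?_))
  show (x : X)⁻¹ * y * b = b * ((x : X)⁻¹ * y)
  calc (x : X)⁻¹ * y * b = (x : X)⁻¹ * (y * b * (y : X)⁻¹) * y := by group
    _ = (x : X)⁻¹ * (x * b * (x : X)⁻¹) * y := by rw [e']
    _ = b * ((x : X)⁻¹ * y) := by group

theorem exists_sylow : ∃ T : Sylow 2 X, (T : Subgroup X) = B := by
  haveI : Fact (Nat.Prime 2) := ⟨Nat.prime_two⟩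
  obtain ⟨T, hT⟩ := (hB.isPGroup h).exists_le_sylow
  refine ⟨T, le_antisymm ?_ hT⟩
  obtain ⟨g, hg⟩ : ∃ g, g ∉ stab φ B := by
    by_contra! hc
    exact hB.stab_ne_top h (eq_top_iff.mpr fun x _ => hc x)
  have hle := hB.sylow_le_stab h T hT
  have hd : Nat.card (T : Subgroup X) ∣ Nat.card B * Nat.card (torus φ B g) := by
    rw [← hB.card_stab h hg]
    exact Subgroup.card_dvd_of_le hle
  obtain ⟨j, hj⟩ := T.2.exists_card_eq
  have hcop : Nat.Coprime (Nat.card (T : Subgroup X)) (Nat.card (torus φ B g)) := by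
    rw [hj]
    exact (Nat.coprime_two_left.mpr (hB.torus_odd h hg)).pow_left _
  exact (Subgroup.eq_of_le_of_card_ge hT
    (Nat.le_of_dvd Nat.card_pos (hcop.dvd_of_dvd_mul_right hd))).ge

theorem centralizer_eq {t : X} (ht : t ∈ B) (ht1 : t ≠ 1) :
    Subgroup.centralizer ({t} : Set X) = B := by
  obtain ⟨T, hT⟩ := hB.exists_sylow h
  have hBC : B ≤ Subgroup.centralizer ({t} : Set X) := fun b hb => by
    rw [Subgroup.mem_centralizer_singleton_iff]
    have e := hB.invol _ (mul_mem hb ht)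
    rw [← inv_eq_of_mul_eq_one_right e, mul_inv_rev,
      inv_eq_of_mul_eq_one_right (hB.invol b hb), inv_eq_of_mul_eq_one_right (hB.invol t ht)]
  rw [← hT]
  exact T.3 (h.cit t (orderOf_two (hB.invol t ht) ht1)) (hT ▸ hBC)

/-- All Sylow `2`-subgroups are quadratic. -/
theorem of_sylow (T : Sylow 2 X) : Quad φ (T : Subgroup X) := by
  haveI : Fact (Nat.Prime 2) := ⟨Nat.prime_two⟩
  obtain ⟨T₀, hT₀⟩ := hB.exists_sylow h
  obtain ⟨x, rfl⟩ := MulAction.exists_smul_eq X T₀ T
  rw [Sylow.coe_subgroup_smul, hT₀]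
  set B' := MulAut.conj x • B with hB'
  have hmem : ∀ y, y ∈ B' ↔ x⁻¹ * y * x ∈ B := fun y => by
    rw [hB', Subgroup.mem_pointwise_smul_iff_inv_smul_mem]
    simp [MulAut.smul_def]
  have hc : Nat.card B' = Nat.card B := (Nat.card_congr (Subgroup.equivSMul (MulAut.conj x) B).toEquiv).symm
  have hf : fixSub φ B' = (fixSub φ B).map (act φ x) := by
    ext v
    constructor
    · intro hv
      refine ⟨φ x⁻¹ v, fun b hb => ?_, map_apply_inv_self φ x v⟩
      have := hv (x * b * x⁻¹) ((hmem _).mpr (by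
        rwa [show x⁻¹ * (x * b * x⁻¹) * x = b by group]))
      rw [map_mul_apply, map_mul_apply] at this
      conv_rhs => rw [← this]
      exact (map_inv_apply_self φ x _).symm
    · rintro ⟨u, hu, rfl⟩ y hy
      show φ y (φ x u) = φ x u
      rw [← map_mul_apply, show y * x = x * (x⁻¹ * y * x) by group, map_mul_apply,
        hu _ ((hmem y).mp hy)]
  refine ⟨fun e => ?_, fun y hy => ?_, ?_, by rw [hc, hB.card_V], fun y hy hy1 => ?_⟩
  · have := hB.one_lt_card h
    rw [← hc, e, Subgroup.card_bot] at this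
    omega
  · have := hB.invol _ ((hmem y).mp hy)
    rw [show y * y = x * (x⁻¹ * y * x * (x⁻¹ * y * x)) * x⁻¹ by group, this]
    group
  · rw [hf, AddSubgroup.card_map_of_injective (f := act φ x) (map_apply_injective φ x), hB.card_fix, hc]
  · rw [hf, ← hB.fix_eq _ ((hmem y).mp hy) (fun e => hy1 (by
      rw [show y = x * (x⁻¹ * y * x) * x⁻¹ by group, e]; group))]
    ext v
    constructor
    · intro hv
      refine ⟨φ x⁻¹ v, ?_, map_apply_inv_self φ x v⟩
      show φ (x⁻¹ * y * x) (φ x⁻¹ v) = φ x⁻¹ v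
      rw [map_mul_apply, map_apply_inv_self, map_mul_apply, show φ y v = v from hv]
    · rintro ⟨u, hu, rfl⟩
      show φ y (φ x u) = φ x u
      rw [← map_mul_apply, show y * x = x * (x⁻¹ * y * x) by group, map_mul_apply,
        show φ (x⁻¹ * y * x) u = u from hu]

theorem exists_psl : ∃ (F : Type) (_ : Field F) (_ : Fintype F),
    Fintype.card F = Nat.card B ∧
      Nonempty (X ≃* Matrix.ProjectiveSpecialLinearGroup (Fin 2) F) := by
  classical
  haveI : Fact (Nat.Prime 2) := ⟨Nat.prime_two⟩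
  obtain ⟨T, hT⟩ := hB.exists_sylow h
  obtain ⟨j, hj⟩ := (hB.isPGroup h).exists_card_eq
  have hq := hB.one_lt_card h
  by_cases hq2 : Nat.card B = 2
  · obtain ⟨g, hg⟩ : ∃ g, g ∉ stab φ B := by
      by_contra! hc
      exact hB.stab_ne_top h (eq_top_iff.mpr fun x _ => hc x)
    have hX : Nat.card X = 6 := by
      rw [← (stab φ B).card_mul_index, hB.card_stab_index h, hB.card_stab h hg, hq2]
      have h1 := hB.card_torus_le h hg
      have h2 : 0 < Nat.card (torus φ B g) := Nat.card_pos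
      rw [show Nat.card (torus φ B g) = 1 by omega]
    refine ⟨ZMod 2, inferInstance, inferInstance, by rw [ZMod.card, hq2], ?_⟩
    have hS : Nat.card (Equiv.Perm (Fin 3)) = 6 := by
      rw [Nat.card_perm, Nat.card_fin]; rfl
    have hP : Nat.card (Matrix.ProjectiveSpecialLinearGroup (Fin 2) (ZMod 2)) = 6 := by
      have e := CfsgLib.SL2.card_PSL (F := ZMod 2)
      simpa [Nat.card_eq_fintype_card (α := ZMod 2)] using e
    -- both groups are the symmetric group on three points
    let P := {v : V // v ≠ 0}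
    have hP3 : Nat.card P = 3 := by
      haveI := Fintype.ofFinite V
      rw [Nat.card_eq_fintype_card, Fintype.card_subtype_compl, Fintype.card_subtype_eq,
        ← Nat.card_eq_fintype_card, hB.card_V, hq2]
    let ρ : X →* Equiv.Perm P :=
      { toFun := fun x =>
          { toFun := fun v => ⟨φ x v.1, fun e => v.2 (map_apply_eq_zero φ e)⟩
            invFun := fun v => ⟨φ x⁻¹ v.1, fun e => v.2 (map_apply_eq_zero φ e)⟩
            left_inv := fun v => Subtype.ext (map_inv_apply_self φ x v.1)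
            right_inv := fun v => Subtype.ext (map_apply_inv_self φ x v.1) }
        map_one' := Equiv.ext fun v => Subtype.ext (map_one_apply φ v.1)
        map_mul' := fun a b => Equiv.ext fun v => Subtype.ext (map_mul_apply φ a b v.1) }
    have hρ : Function.Injective ρ := fun a b e => h.inj (DFunLike.ext _ _ fun v => by
      rcases eq_or_ne v 0 with rfl | hv
      · rw [map_zero, map_zero]
      · exact congrArg Subtype.val (Equiv.congr_fun e ⟨v, hv⟩ :))
    let e : P ≃ Fin 3 := (Finite.equivFin P).trans (finCongr hP3)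
    obtain ⟨f, hf⟩ := CfsgLib.Classical.exists_PSL_two_to_perm (F := ZMod 2)
    let eP : Fin (Fintype.card (ZMod 2) + 1) ≃ Fin 3 := finCongr (by rw [ZMod.card])
    have h1 : Function.Bijective (e.permCongrHom.toMonoidHom.comp ρ) :=
      (Nat.bijective_iff_injective_and_card _).mpr
        ⟨e.permCongrHom.injective.comp hρ, by rw [hX, hS]⟩
    have h2 : Function.Bijective (eP.permCongrHom.toMonoidHom.comp f) :=
      (Nat.bijective_iff_injective_and_card _).mpr
        ⟨eP.permCongrHom.injective.comp hf, by rw [hP, hS]⟩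
    exact ⟨(MulEquiv.ofBijective _ h1).trans (MulEquiv.ofBijective _ h2).symm⟩
  have hnc : ¬ IsCyclic (T : Subgroup X) := by
    rw [hT]
    intro hc
    obtain ⟨z, hz⟩ := hc.exists_generator
    have := orderOf_eq_card_of_forall_mem_zpowers hz
    have h2 : orderOf z ∣ 2 := orderOf_dvd_of_pow_eq_one (Subtype.ext (by
      show (z : X) ^ 2 = 1
      rw [pow_two]; exact hB.invol z z.2))
    have := Nat.le_of_dvd (by norm_num) h2
    omega
  have hnn : ¬ (T : Subgroup X).Normal := by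
    intro hn
    exact hB.ne_bot (le_bot_iff.mp (h.core ▸ (hT ▸ Fitting.le_pCore hn T.2)))
  have hC : ∀ t : X, orderOf t = 2 → IsMulCommutative (Subgroup.centralizer ({t} : Set X)) ∧
      ∀ c ∈ Subgroup.centralizer ({t} : Set X), c ^ 2 = 1 := by
    intro t ht
    obtain ⟨T', hT'⟩ := (IsPGroup.of_card (p := 2) (n := 1) (G := Subgroup.zpowers t)
      (by rw [Nat.card_zpowers, ht, pow_one])).exists_le_sylow
    have hB' := hB.of_sylow h T'
    have hc := hB'.centralizer_eq h (hT' (Subgroup.mem_zpowers t))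
      (fun e => by simp [e] at ht)
    rw [hc]
    refine ⟨⟨⟨fun a b => Subtype.ext ?_⟩⟩, fun c hcT => by rw [pow_two]; exact hB'.invol c hcT⟩
    show (a : X) * b = b * a
    rw [← inv_eq_of_mul_eq_one_right (hB'.invol _ (mul_mem a.2 b.2)), mul_inv_rev,
      inv_eq_of_mul_eq_one_right (hB'.invol _ a.2), inv_eq_of_mul_eq_one_right (hB'.invol _ b.2)]
  obtain ⟨F, iF, iFt, hF, hiso⟩ := Cfsg.Agent.S1230.result T hnc hnn hC
  exact ⟨F, iF, iFt, by rw [hF, hT], hiso⟩

theorem card_group : Nat.card X = Nat.card B * ((Nat.card B - 1) * (Nat.card B + 1)) := by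
  obtain ⟨F, iF, iFt, hF, ⟨e⟩⟩ := hB.exists_psl h
  haveI : Fact (Nat.Prime 2) := ⟨Nat.prime_two⟩
  obtain ⟨j, hj⟩ := (hB.isPGroup h).exists_card_eq
  have hp := CfsgLib.SL2.card_PSL (F := F)
  rw [Nat.card_eq_fintype_card (α := F), hF, ← Nat.card_congr e.toEquiv] at hp
  have hj0 : j ≠ 0 := fun e' => by
    have := hB.one_lt_card h
    rw [hj, e', pow_zero] at this
    omega
  have h2 : Nat.gcd 2 (Nat.card B - 1) = 1 := by
    refine Nat.coprime_two_left.mpr ?_
    rw [hj]
    obtain ⟨k, hk⟩ : 2 ∣ 2 ^ j := dvd_pow_self 2 hj0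
    have hpos : 0 < 2 ^ j := pow_pos (by norm_num) _
    exact ⟨k - 1, by omega⟩
  rwa [h2, one_mul] at hp

theorem card_stab_eq : Nat.card (stab φ B) = Nat.card B * (Nat.card B - 1) := by
  have h1 := (stab φ B).card_mul_index
  rw [hB.card_stab_index h, hB.card_group h] at h1
  exact Nat.eq_of_mul_eq_mul_right (Nat.succ_pos _) (h1.trans (mul_assoc _ _ _).symm)

theorem card_torus {g : X} (hg : g ∉ stab φ B) : Nat.card (torus φ B g) = Nat.card B - 1 :=
  Nat.eq_of_mul_eq_mul_left (Nat.card_pos (α := B))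
    ((hB.card_stab h hg).symm.trans (hB.card_stab_eq h))

/-- The torus and the involution inverting it. -/
theorem exists_torus : ∃ (D : Subgroup X) (w : X),
    Nat.card D = Nat.card B - 1 ∧ Odd (Nat.card D) ∧
    D ≤ Subgroup.normalizer (B : Set X) ∧ w * w = 1 ∧ w ≠ 1 ∧
    (∀ d ∈ D, w * d * w⁻¹ = d⁻¹) ∧
    (∀ v ∈ fixSub φ B, φ w v ∈ fixSub φ B → v = 0) ∧
    ∀ u ∈ fixSub φ B, u ≠ 0 → ∀ v ∈ fixSub φ B, v ≠ 0 → ∃ d ∈ D, φ d u = v := by
  classical
  obtain ⟨g, hg⟩ : ∃ g, g ∉ stab φ B := by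
    by_contra! hc
    exact hB.stab_ne_top h (eq_top_iff.mpr fun x _ => hc x)
  -- an element exchanging the two points
  obtain ⟨b, hb, hbm⟩ := hB.exists_translate h hg (k := g⁻¹) (fun e => hg (inv_mem_iff.mp e))
  set k := g * b with hk
  have hbm' : k * g ∈ stab φ B := by
    have h1 := inv_mem hbm
    rw [show ((b * g)⁻¹ * g⁻¹)⁻¹ = g * b * g by group] at h1
    exact h1
  have hkg : g⁻¹ * k ∈ stab φ B := by
    rw [hk, inv_mul_cancel_left]; exact hB.le_stab h hb
  have hk2 : k * k ∈ torus φ B g := by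
    refine mem_torus.mpr ⟨?_, ?_⟩
    · rw [show k * k = k * g * (g⁻¹ * k) by group]
      exact mul_mem hbm' hkg
    · rw [show g⁻¹ * (k * k) * g = g⁻¹ * k * (k * g) by group]
      exact mul_mem hkg hbm'
  have hodd := hB.torus_odd h hg
  set m := orderOf (k * k) with hm
  have hmodd : Odd m := hodd.of_dvd_nat ((torus φ B g).orderOf_dvd_natCard hk2)
  obtain ⟨r, hr⟩ := hmodd
  set w := k ^ m with hw
  have hwk : w = (k * k) ^ r * k := by
    rw [hw, hr, pow_succ, pow_mul, pow_two]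
  have hwM : w ∉ stab φ B := by
    intro e
    rw [hwk, mul_mem_cancel_left (pow_mem (mem_torus.mp hk2).1 r)] at e
    refine hg ?_
    have := mul_mem e (inv_mem hkg)
    rwa [show k * (g⁻¹ * k)⁻¹ = g by group] at this
  have hw2 : w * w = 1 := by
    rw [hw, ← (Commute.refl k).mul_pow, hm, pow_orderOf_eq_one]
  have hw1 : w ≠ 1 := fun e => hwM (e ▸ one_mem _)
  have hwn : ∀ d ∈ torus φ B g, w * d * w⁻¹ ∈ torus φ B g := by
    intro d hd
    have hk' : k * d * k⁻¹ ∈ torus φ B g := by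
      obtain ⟨d1, d2⟩ := mem_torus.mp hd
      refine mem_torus.mpr ⟨?_, ?_⟩
      · rw [show k * d * k⁻¹ = (k * g) * (g⁻¹ * d * g) * (k * g)⁻¹ by group]
        exact mul_mem (mul_mem hbm' d2) (inv_mem hbm')
      · rw [show g⁻¹ * (k * d * k⁻¹) * g = (g⁻¹ * k) * d * (g⁻¹ * k)⁻¹ by group]
        exact mul_mem (mul_mem hkg d1) (inv_mem hkg)
    rw [hwk, show (k * k) ^ r * k * d * ((k * k) ^ r * k)⁻¹
      = (k * k) ^ r * (k * d * k⁻¹) * ((k * k) ^ r)⁻¹ by group]
    exact mul_mem (mul_mem (pow_mem hk2 r) hk') (inv_mem (pow_mem hk2 r))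
  refine ⟨torus φ B g, w, hB.card_torus h hg, hodd, ?_, hw2, hw1,
    fun d hd => h.cit.inverts hw2 hw1 hodd hwn hd, fun v hv hwv => ?_, fun u hu hu0 v hv hv0 => ?_⟩
  · rw [← hB.stab_eq_normalizer h]; exact fun d hd => (mem_torus.mp hd).1
  · by_contra hv0
    exact hwM (hB.mem_stab_of_apply_mem h hv hv0 hwv)
  · let f : torus φ B g → {v : fixSub φ B // v ≠ 0} := fun d =>
      ⟨⟨φ (d : X) u, apply_mem_of_mem_stab (mem_torus.mp d.2).1 hu⟩,
        fun e => hu0 (map_apply_eq_zero φ (congrArg Subtype.val e))⟩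
    have hf : Function.Injective f := by
      intro x y e
      have e' : φ (x : X) u = φ (y : X) u :=
        congrArg (fun z : {v : fixSub φ B // v ≠ 0} => ((z : fixSub φ B) : V)) e
      refine Subtype.ext (inv_mul_eq_one.mp ?_)
      by_contra hne
      refine hu0 (h.fpf _ (hodd.of_dvd_nat
        ((torus φ B g).orderOf_dvd_natCard (mul_mem (inv_mem x.2) y.2))) hne u ?_)
      rw [map_mul_apply, ← e', map_inv_apply_self]
    have hc : Nat.card {v : fixSub φ B // v ≠ 0} = Nat.card (torus φ B g) := by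
      haveI := Fintype.ofFinite (fixSub φ B)
      rw [Nat.card_eq_fintype_card, Fintype.card_subtype_compl, Fintype.card_subtype_eq,
        ← Nat.card_eq_fintype_card, hB.card_fix, hB.card_torus h hg]
    obtain ⟨d, hd⟩ := ((Nat.bijective_iff_injective_and_card f).mpr ⟨hf, hc.symm⟩).2
      ⟨⟨v, hv⟩, fun e => hv0 (congrArg Subtype.val e)⟩
    exact ⟨d, d.2, congrArg (fun z : {v : fixSub φ B // v ≠ 0} => ((z : fixSub φ B) : V)) hd⟩

theorem transitive {u v : V} (hu : u ≠ 0) (hv : v ≠ 0) : ∃ x, φ x u = v := by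
  classical
  obtain ⟨w₀, hw₀, hw₀0⟩ : ∃ w ∈ fixSub φ B, w ≠ 0 := by
    by_contra! hc
    have := hB.one_lt_card h
    rw [← hB.card_fix, AddSubgroup.one_lt_card_iff_ne_bot] at this
    exact this ((AddSubgroup.eq_bot_iff_forall _).mpr hc)
  obtain ⟨D, w, -, -, -, -, -, -, -, hD⟩ := hB.exists_torus h
  let f : (X ⧸ stab φ B) × {v : fixSub φ B // v ≠ 0} → {v : V // v ≠ 0} := fun p =>
    ⟨φ p.1.out ((p.2.1 : fixSub φ B) : V), fun e => p.2.2 (Subtype.ext (map_apply_eq_zero φ e))⟩
  have hf : Function.Injective f := by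
    rintro ⟨x, u, hu'⟩ ⟨y, v, hv'⟩ e
    have e' : φ x.out (u : V) = φ y.out (v : V) := congrArg Subtype.val e
    have hxy : x = y := by
      rw [← QuotientGroup.out_eq' x, ← QuotientGroup.out_eq' y, QuotientGroup.eq]
      refine hB.mem_stab_of_apply_mem h v.2 (fun e0 => hv' (Subtype.ext e0)) ?_
      rw [map_mul_apply, ← e', map_inv_apply_self]
      exact u.2
    subst hxy
    rw [Prod.mk.injEq]
    exact ⟨rfl, Subtype.ext (Subtype.ext (map_apply_injective φ _ e'))⟩
  have hc : Nat.card ((X ⧸ stab φ B) × {v : fixSub φ B // v ≠ 0})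
      = Nat.card {v : V // v ≠ 0} := by
    haveI := Fintype.ofFinite V
    haveI := Fintype.ofFinite (fixSub φ B)
    rw [Nat.card_prod, ← Subgroup.index_eq_card, hB.card_stab_index h,
      Nat.card_eq_fintype_card (α := {v : fixSub φ B // v ≠ 0}),
      Nat.card_eq_fintype_card (α := {v : V // v ≠ 0}), Fintype.card_subtype_compl,
      Fintype.card_subtype_eq, Fintype.card_subtype_compl, Fintype.card_subtype_eq,
      ← Nat.card_eq_fintype_card, ← Nat.card_eq_fintype_card, hB.card_fix, hB.card_V,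
      ← Nat.mul_self_sub_mul_self_eq, one_mul]
  have hsurj := ((Nat.bijective_iff_injective_and_card f).mpr ⟨hf, hc⟩).2
  have key : ∀ z : V, z ≠ 0 → ∃ x, φ x w₀ = z := by
    intro z hz
    obtain ⟨⟨y, a, ha⟩, he⟩ := hsurj ⟨z, hz⟩
    obtain ⟨d, -, hd⟩ := hD w₀ hw₀ hw₀0 a a.2 fun e => ha (Subtype.ext e)
    refine ⟨y.out * d, ?_⟩
    rw [map_mul_apply, hd]
    exact congrArg Subtype.val he
  obtain ⟨x, hx⟩ := key u hu
  obtain ⟨y, hy⟩ := key v hv
  exact ⟨y * x⁻¹, by rw [map_mul_apply, ← hx, map_inv_apply_self, hy]⟩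

/-- Two Sylow `2`-subgroups generate. -/
theorem generates {x : X} (hx : x ∉ Subgroup.normalizer (B : Set X)) :
    B ⊔ B.map (MulAut.conj x).toMonoidHom = ⊤ := by
  haveI : Fact (Nat.Prime 2) := ⟨Nat.prime_two⟩
  rw [← hB.stab_eq_normalizer h] at hx
  set H := B ⊔ B.map (MulAut.conj x).toMonoidHom with hH
  set B₁ := B.map (MulAut.conj x).toMonoidHom with hB₁
  obtain ⟨T, hT⟩ := hB.exists_sylow h
  have hT₁ : ∃ T₁ : Sylow 2 X, (T₁ : Subgroup X) = B₁ :=
    ⟨x • T, by rw [Sylow.coe_subgroup_smul, hT, hB₁]; rfl⟩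
  obtain ⟨T₁, hT₁⟩ := hT₁
  have hle : B ≤ H := le_sup_left
  have hle₁ : B₁ ≤ H := le_sup_right
  have hcore : Cfsg.pCore 2 H = ⊥ := by
    rw [eq_bot_iff]
    intro y hy
    have key : ∀ (S : Sylow 2 X), (S : Subgroup X) ≤ H → ((y : H) : X) ∈ (S : Subgroup X) := by
      intro S hS
      have hQ := (Fitting.pCore_isPGroup (G := H) 2)
      haveI := Fitting.pCore_normal (G := H) 2
      let S' : Sylow 2 H := S.subtype hS
      have := (S'.3 (hQ.to_sup_of_normal_left S'.2) le_sup_right).le (Subgroup.mem_sup_left hy)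
      exact Subgroup.mem_subgroupOf.mp this
    have h1 : ((y : H) : X) ∈ B := hT ▸ key T (hT.le.trans hle)
    have h2 : ((y : H) : X) ∈ B₁ := hT₁ ▸ key T₁ (hT₁.le.trans hle₁)
    obtain ⟨c, hc, hce⟩ := h2
    rw [Subgroup.mem_bot]
    refine Subtype.ext (hB.semiregular h h1 hx ?_)
    rw [← hce]
    show x⁻¹ * (x * c * x⁻¹) * x ∈ _
    rw [show x⁻¹ * (x * c * x⁻¹) * x = c by group]
    exact hB.le_stab h hc
  have hB' : Nat.card (B.subgroupOf H) = Nat.card B :=
    Nat.card_congr (Subgroup.subgroupOfEquivOfLe hle).toEquiv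
  have hfixB : fixSub (φ.comp H.subtype) (B.subgroupOf H) = fixSub φ B := by
    ext v
    exact ⟨fun hv b hb => hv ⟨b, hle hb⟩ hb, fun hv b hb => hv b hb⟩
  have hne : B.subgroupOf H ≠ ⊥ := by
    rw [← Subgroup.one_lt_card_iff_ne_bot, hB']
    exact hB.one_lt_card h
  have hH' : Hyp (φ.comp H.subtype) :=
    { two := h.two
      inj := h.inj.comp H.subtype_injective
      fpf := fun y hy hy1 v hv => h.fpf y (by rwa [Subgroup.orderOf_coe])
        (fun e => hy1 (Subtype.ext e)) v hv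
      cit := h.cit.subgroup H
      core := hcore
      off := ⟨B.subgroupOf H, hne, fun a ha => Subtype.ext (hB.invol a ha), by
        rw [hfixB, hB.card_fix, hB', hB.card_V]⟩ }
  have hQ : Quad (φ.comp H.subtype) (B.subgroupOf H) :=
    ⟨hne, fun a ha => Subtype.ext (hB.invol a ha), by rw [hfixB, hB.card_fix, hB'],
      by rw [hB', hB.card_V], fun b hb hb1 => by
        rw [hfixB, ← hB.fix_eq b hb fun e => hb1 (Subtype.ext e)]
        rfl⟩
  refine Subgroup.eq_top_of_card_eq H ?_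
  rw [hQ.card_group hH', hB', hB.card_group h]

end Quad

end CfsgLib.CIT
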