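import Mathlib
import Cfsg.Agent.Lib.CIT.Module
import Cfsg.Agent.S0002

/-!
Subgroups of odd order in the group acting on the module: those of order `q - 1` in the
stabiliser are tori, and there is none of order `q² - 1`.
-/

set_option autoImplicit false
set_option linter.unusedSectionVars false
set_option linter.style.haveILetI false

namespace CfsgLib.CIT

open CfsgLib.Offender
open scoped Pointwise

variable {X : Type*} [Group X] [Finite X] {V : Type*} [AddCommGroup V] [Finite V]
  {φ : X →* AddMonoid.End V}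

namespace Quad

variable (h : Hyp φ) {B : Subgroup X} (hB : Quad φ B)
include h hB

/-- An element of a torus fixes no third point. -/
theorem eq_one_of_torus_fix {g k d : X} (hg : g ∉ stab φ B) (hd : d ∈ torus φ B g)
    (hk : k ∉ stab φ B) (hdk : k⁻¹ * d * k ∈ stab φ B) (hne : g⁻¹ * k ∉ stab φ B) : d = 1 := by
  obtain ⟨hdM, hdg⟩ := mem_torus.mp hd
  obtain ⟨b, hb, hbk⟩ := hB.exists_translate h hg hk
  have hb1 : b ≠ 1 := by
    rintro rfl
    exact hne (by rwa [one_mul] at hbk)
  refine hB.eq_one_of_torus_commute h hg hd hb hb1 ?_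
  -- both `b` and its conjugate by `d` carry the second point to the third
  set m := (b * g)⁻¹ * k with hm
  have hbg : (b * g)⁻¹ * d * (b * g) ∈ stab φ B := by
    have := mul_mem (mul_mem hbk hdk) (inv_mem hbk)
    rwa [show m * (k⁻¹ * d * k) * m⁻¹ = (b * g)⁻¹ * d * (b * g) by rw [hm]; group] at this
  have hc : d * b * d⁻¹ * b⁻¹ ∈ B := mul_mem (hB.conj_mem h hdM hb) (inv_mem hb)
  have hc' : b⁻¹ * (d * b * d⁻¹) ∈ B := mul_mem (inv_mem hb) (hB.conj_mem h hdM hb)
  have e : b⁻¹ * (d * b * d⁻¹) = 1 := by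
    refine hB.semiregular h hc' hg ?_
    have := mul_mem hbg (inv_mem hdg)
    rwa [show (b * g)⁻¹ * d * (b * g) * (g⁻¹ * d * g)⁻¹
      = g⁻¹ * (b⁻¹ * (d * b * d⁻¹)) * g by group] at this
  have e' : d * b * d⁻¹ = b := (inv_mul_eq_one.mp e).symm
  exact mul_inv_eq_iff_eq_mul.mp e'

/-- A subgroup of order `q - 1` of the stabiliser is a torus. -/
theorem exists_torus_eq {D : Subgroup X} (hD : D ≤ stab φ B) (ho : Odd (Nat.card D))
    (hc : Nat.card D = Nat.card B - 1) : ∃ g, g ∉ stab φ B ∧ D = torus φ B g := by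
  classical
  haveI : Fact (Nat.Prime 2) := ⟨Nat.prime_two⟩
  obtain ⟨g, hg⟩ : ∃ g, g ∉ stab φ B := by
    by_contra! hc
    exact hB.stab_ne_top h (eq_top_iff.mpr fun x _ => hc x)
  set M := stab φ B with hM
  set D₀ := torus φ B g with hD₀
  set A := B.subgroupOf M with hA
  haveI : A.Normal := ⟨fun a ha x => hB.conj_mem h x.2 ha⟩
  haveI : IsMulCommutative A := ⟨⟨fun a b => Subtype.ext (Subtype.ext (by
    show ((a : M) : X) * (b : M) = (b : M) * (a : M)
    have e := hB.invol (((a : M) : X) * ((b : M) : X)) (mul_mem a.2 b.2)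
    rw [← inv_eq_of_mul_eq_one_right e, mul_inv_rev,
      inv_eq_of_mul_eq_one_right (hB.invol ((a : M) : X) a.2), inv_eq_of_mul_eq_one_right (hB.invol ((b : M) : X) b.2)]))⟩⟩
  have hcA : Nat.card A = Nat.card B :=
    Nat.card_congr (Subgroup.subgroupOfEquivOfLe (hB.le_stab h)).toEquiv
  have hidx : A.index = Nat.card B - 1 := by
    have := A.card_mul_index
    rw [hcA, show Nat.card M = _ from hB.card_stab_eq h] at this
    exact Nat.eq_of_mul_eq_mul_left Nat.card_pos this
  obtain ⟨j, hj⟩ := (hB.isPGroup h).exists_card_eq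
  have hcop : (Nat.card A).Coprime A.index := by
    rw [hcA, hidx]
    nth_rw 1 [hj]
    exact (Nat.coprime_two_left.mpr (hc ▸ ho)).pow_left _
  have compl : ∀ K : Subgroup X, K ≤ M → Nat.card K = Nat.card B - 1 →
      Subgroup.IsComplement' A (K.subgroupOf M) := by
    intro K hK hKc
    refine Subgroup.isComplement'_of_card_mul_and_disjoint ?_ (Subgroup.disjoint_of_coprime_natCard ?_)
    · rw [hcA, Nat.card_congr (Subgroup.subgroupOfEquivOfLe hK).toEquiv, hKc,
        show Nat.card M = _ from hB.card_stab_eq h]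
    · rw [Nat.card_congr (Subgroup.subgroupOfEquivOfLe hK).toEquiv, hKc, ← hidx]
      exact hcop
  obtain ⟨a, ha, hconj⟩ := Cfsg.Agent.S0002.result A hcop _ _
    (compl D₀ (fun x hx => (mem_torus.mp hx).1) (hB.card_torus h hg)) (compl D hD hc)
  set b : X := (a : X) with hb
  have hbB : b ∈ B := ha
  have hbM : b ∈ M := a.2
  refine ⟨b * g, fun e => hg ((mul_mem_cancel_left hbM).mp e), ?_⟩
  have key : ∀ x : X, x ∈ D ↔ b⁻¹ * x * b ∈ D₀ := by
    intro x
    constructor
    · intro hx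
      have : (⟨x, hD hx⟩ : M) ∈ MulAut.conj a • D₀.subgroupOf M := hconj ▸ hx
      rw [Subgroup.mem_pointwise_smul_iff_inv_smul_mem] at this
      simpa [MulAut.smul_def, Subgroup.mem_subgroupOf, hb] using this
    · intro hx
      have hxM : x ∈ M := by
        have := mul_mem (mul_mem hbM (mem_torus.mp hx).1) (inv_mem hbM)
        rwa [show b * (b⁻¹ * x * b) * b⁻¹ = x by group] at this
      have : (⟨x, hxM⟩ : M) ∈ D.subgroupOf M := by
        rw [← hconj, Subgroup.mem_pointwise_smul_iff_inv_smul_mem]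
        simpa [MulAut.smul_def, Subgroup.mem_subgroupOf, hb] using hx
      exact this
  ext x
  rw [key, mem_torus, mem_torus, show (b * g)⁻¹ * x * (b * g) = g⁻¹ * (b⁻¹ * x * b) * g by group]
  refine and_congr_left fun _ => ?_
  rw [mul_mem_cancel_right hbM, mul_mem_cancel_left (inv_mem hbM)]

/-- A subgroup of order `q - 1` of the stabiliser is inverted by an element moving the fixed
space off itself. -/
theorem exists_inverting {D : Subgroup X} (hD : D ≤ stab φ B) (ho : Odd (Nat.card D))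
    (hc : Nat.card D = Nat.card B - 1) :
    ∃ w : X, (∀ d ∈ D, w * d * w⁻¹ = d⁻¹) ∧
      ∀ v ∈ fixSub φ B, φ w v ∈ fixSub φ B → v = 0 := by
  obtain ⟨g, hg, rfl⟩ := hB.exists_torus_eq h hD ho hc
  -- an element exchanging the two points
  obtain ⟨b, hb, hbm⟩ := hB.exists_translate h hg (k := g⁻¹) (fun e => hg (inv_mem_iff.mp e))
  set k := g * b with hk
  have hbm' : k * g ∈ stab φ B := by
    have h1 := inv_mem hbm
    rw [show ((b * g)⁻¹ * g⁻¹)⁻¹ = g * b * g by group] at h1
    exact h1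
  have hkg : g⁻¹ * k ∈ stab φ B := by
    rw [hk, inv_mul_cancel_left]; exact hB.le_stab h hb
  have hk2 : k * k ∈ torus φ B g := by
    refine mem_torus.mpr ⟨?_, ?_⟩
    · rw [show k * k = k * g * (g⁻¹ * k) by group]
      exact mul_mem hbm' hkg
    · rw [show g⁻¹ * (k * k) * g = g⁻¹ * k * (k * g) by group]
      exact mul_mem hkg hbm'
  have hkn : ∀ d ∈ torus φ B g, k * d * k⁻¹ ∈ torus φ B g := by
    intro d hd
    obtain ⟨d1, d2⟩ := mem_torus.mp hd
    refine mem_torus.mpr ⟨?_, ?_⟩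
    · rw [show k * d * k⁻¹ = (k * g) * (g⁻¹ * d * g) * (k * g)⁻¹ by group]
      exact mul_mem (mul_mem hbm' d2) (inv_mem hbm')
    · rw [show g⁻¹ * (k * d * k⁻¹) * g = (g⁻¹ * k) * d * (g⁻¹ * k)⁻¹ by group]
      exact mul_mem (mul_mem hkg d1) (inv_mem hkg)
  obtain ⟨r, hr⟩ : Odd (orderOf (k * k)) := ho.of_dvd_nat ((torus φ B g).orderOf_dvd_natCard hk2)
  set w := k ^ orderOf (k * k) with hw
  have hwk : w = (k * k) ^ r * k := by
    rw [hw, hr, pow_succ, pow_mul, pow_two]
  have hwM : w ∉ stab φ B := by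
    intro e
    rw [hwk, mul_mem_cancel_left (pow_mem (mem_torus.mp hk2).1 r)] at e
    refine hg ?_
    have := mul_mem e (inv_mem hkg)
    rwa [show k * (g⁻¹ * k)⁻¹ = g by group] at this
  have hw2 : w * w = 1 := by
    rw [hw, ← (Commute.refl k).mul_pow, pow_orderOf_eq_one]
  have hw1 : w ≠ 1 := fun e => hwM (e ▸ one_mem _)
  refine ⟨w, fun d hd => h.cit.inverts hw2 hw1 ho (fun d hd => ?_) hd, fun v hv hwv => ?_⟩
  · rw [hwk, show (k * k) ^ r * k * d * ((k * k) ^ r * k)⁻¹
      = (k * k) ^ r * (k * d * k⁻¹) * ((k * k) ^ r)⁻¹ by group]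
    exact mul_mem (mul_mem (pow_mem hk2 r) (hkn d hd)) (inv_mem (pow_mem hk2 r))
  · by_contra hv0
    exact hwM (hB.mem_stab_of_apply_mem h hv hv0 hwv)

/-- There is no subgroup of odd order `q² - 1` when `q > 2`. -/
theorem no_odd_card (hq : 2 < Nat.card B) (D : Subgroup X) (ho : Odd (Nat.card D))
    (hc : Nat.card D = Nat.card B * Nat.card B - 1) : False := by
  classical
  set M := stab φ B with hM
  set q := Nat.card B with hq'
  haveI : Fact (Nat.Prime 2) := ⟨Nat.prime_two⟩
  obtain ⟨j, hj⟩ := (hB.isPGroup h).exists_card_eq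
  let Ω := X ⧸ M
  have hΩ : Nat.card Ω = q + 1 := by
    rw [← Subgroup.index_eq_card, hM, hB.card_stab_index h]
  let K : Ω → Subgroup X := fun x => D ⊓ MulAction.stabilizer X x
  have hstab : ∀ (g x : X), x ∈ MulAction.stabilizer X ((g : X) : Ω) ↔ g⁻¹ * x * g ∈ M := by
    intro g x
    rw [MulAction.mem_stabilizer_iff]
    show (((x * g : X)) : Ω) = _ ↔ _
    rw [eq_comm, QuotientGroup.eq, ← mul_assoc]
  have hK : ∀ x : Ω, Nat.card (K x) = q - 1 := by
    intro x
    obtain ⟨g, rfl⟩ := QuotientGroup.mk_surjective x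
    set K' := (K (g : Ω)).map (MulAut.conj g⁻¹).toMonoidHom with hK'
    have hc' : Nat.card K' = Nat.card (K (g : Ω)) :=
      Subgroup.card_map_of_injective (MulEquiv.injective _)
    have hK'M : K' ≤ M := by
      rintro _ ⟨y, hy, rfl⟩
      show g⁻¹ * y * g⁻¹⁻¹ ∈ M
      rw [inv_inv]
      exact (hstab g y).mp hy.2
    have hdvd : Nat.card (K (g : Ω)) ∣ q * (q - 1) := by
      rw [← hc', ← hB.card_stab_eq h]
      exact Subgroup.card_dvd_of_le hK'M
    have hodd : Odd (Nat.card (K (g : Ω))) :=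
      ho.of_dvd_nat (Subgroup.card_dvd_of_le inf_le_left)
    have hle : Nat.card (K (g : Ω)) ≤ q - 1 := by
      refine Nat.le_of_dvd (by omega) (Nat.Coprime.dvd_of_dvd_mul_left ?_ hdvd)
      rw [hq', hj]
      exact ((Nat.coprime_two_right.mpr hodd)).pow_right _
    -- orbit of the point
    have horb : Nat.card D ≤ (q + 1) * Nat.card (K (g : Ω)) := by
      rw [← hΩ, ← Nat.card_prod]
      let f : D → Ω × K (g : Ω) := fun d =>
        ⟨(d : X) • (g : Ω), ⟨((Function.invFun (fun e : D => (e : X) • (g : Ω))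
          ((d : X) • (g : Ω)) : D) : X)⁻¹ * d, by
          have e := Function.invFun_eq (f := fun e : D => (e : X) • (g : Ω)) ⟨d, rfl⟩
          refine Subgroup.mem_inf.mpr ⟨mul_mem (inv_mem (SetLike.coe_mem _)) d.2, ?_⟩
          rw [MulAction.mem_stabilizer_iff, mul_smul, inv_smul_eq_iff]
          exact e.symm⟩⟩
      refine Nat.card_le_card_of_injective f fun d d' e => ?_
      have e1 : (d : X) • (g : Ω) = (d' : X) • (g : Ω) := congrArg Prod.fst e
      have e2 := congrArg Subtype.val (congrArg Prod.snd e)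
      simp only [f, e1] at e2
      exact Subtype.ext (mul_left_cancel e2)
    rw [hc] at horb
    refine le_antisymm hle (Nat.le_of_mul_le_mul_left (c := q + 1) ?_ (Nat.succ_pos q))
    refine le_trans (le_of_eq ?_) horb
    obtain ⟨m, hm⟩ : ∃ m, q = m + 1 := ⟨q - 1, by omega⟩
    rw [hm, Nat.add_sub_cancel]
    symm
    rw [Nat.sub_eq_iff_eq_add (by nlinarith)]
    ring
  -- each of these fixes exactly one further point
  have htwo : ∀ x : Ω, ∃! y, y ≠ x ∧ ∀ d ∈ K x, d • y = y := by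
    intro x
    obtain ⟨g, rfl⟩ := QuotientGroup.mk_surjective x
    set K' := (K (g : Ω)).map (MulAut.conj g⁻¹).toMonoidHom with hK'
    have hc' : Nat.card K' = q - 1 := by
      rw [hK', Subgroup.card_map_of_injective (MulEquiv.injective _), hK]
    have hK'M : K' ≤ M := by
      rintro _ ⟨y, hy, rfl⟩
      show g⁻¹ * y * g⁻¹⁻¹ ∈ M
      rw [inv_inv]
      exact (hstab g y).mp hy.2
    have hodd : Odd (Nat.card K') := by
      rw [hc', ← hK (g : Ω)]
      exact ho.of_dvd_nat (Subgroup.card_dvd_of_le inf_le_left)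
    obtain ⟨u, hu, hKu⟩ := hB.exists_torus_eq h hK'M hodd hc'
    have hmem : ∀ d ∈ K (g : Ω), g⁻¹ * d * g ∈ torus φ B u := fun d hd =>
      hKu ▸ ⟨d, hd, by simp⟩
    refine ⟨((g * u : X) : Ω), ⟨fun e => hu ?_, fun d hd => ?_⟩, ?_⟩
    · have h1 := inv_mem (QuotientGroup.eq.mp e)
      rwa [show ((g * u)⁻¹ * g)⁻¹ = g⁻¹ * (g * u) by group, inv_mul_cancel_left] at h1
    · rw [← MulAction.mem_stabilizer_iff, hstab, show (g * u)⁻¹ * d * (g * u)
        = u⁻¹ * (g⁻¹ * d * g) * u by group]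
      exact (mem_torus.mp (hmem d hd)).2
    · intro y
      obtain ⟨k, rfl⟩ := QuotientGroup.mk_surjective y
      rintro ⟨hne, hfix⟩
      have hk : g⁻¹ * k ∉ M := fun e => hne (by
        rw [QuotientGroup.eq]
        have := inv_mem e
        rwa [mul_inv_rev, inv_inv] at this)
      by_contra hcon
      have hku : u⁻¹ * (g⁻¹ * k) ∉ M := fun e => hcon (by
        symm
        rw [QuotientGroup.eq, show (g * u)⁻¹ * k = u⁻¹ * (g⁻¹ * k) by group]
        exact e)
      obtain ⟨d, hd, hd1⟩ : ∃ d ∈ K (g : Ω), d ≠ 1 := by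
        by_contra! hall
        have hbot : K (g : Ω) = ⊥ := eq_bot_iff.mpr fun d hd => Subgroup.mem_bot.mpr (hall d hd)
        have := hK (g : Ω)
        rw [hbot, Subgroup.card_bot] at this
        omega
      have h1 := (hstab k d).mp (MulAction.mem_stabilizer_iff.mpr (hfix d hd))
      have := hB.eq_one_of_torus_fix h hu (hmem d hd) hk (by
        rwa [show (g⁻¹ * k)⁻¹ * (g⁻¹ * d * g) * (g⁻¹ * k) = k⁻¹ * d * k by group]) hku
      exact hd1 (by rw [show d = g * (g⁻¹ * d * g) * g⁻¹ by group, this]; group)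
  choose σ hσ hσu using fun x => (htwo x)
  have hinv : ∀ x, σ (σ x) = x := by
    intro x
    refine (hσu (σ x) x ⟨(hσ x).1.symm, fun d hd => ?_⟩).symm
    have heq : K x = K (σ x) := by
      refine Subgroup.eq_of_le_of_card_ge (fun d hd => ⟨hd.1, ?_⟩) (by rw [hK, hK])
      exact MulAction.mem_stabilizer_iff.mpr ((hσ x).2 d hd)
    rw [← heq] at hd
    exact MulAction.mem_stabilizer_iff.mp hd.2
  haveI := Fintype.ofFinite Ω
  have hnd : ¬ 2 ∣ Fintype.card Ω := by
    rw [← Nat.card_eq_fintype_card, hΩ]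
    intro h2
    have hj0 : j ≠ 0 := fun e => by rw [e, pow_zero] at hj; omega
    have : 2 ∣ q := hq' ▸ hj ▸ dvd_pow_self 2 hj0
    omega
  obtain ⟨a, ha⟩ := Equiv.Perm.exists_fixed_point_of_prime (p := 2) (n := 1) hnd
    (σ := Function.Involutive.toPerm σ hinv)
    (Equiv.ext fun x => by rw [pow_one, pow_two]; exact hinv x)
  exact (hσ a).1 ha

end Quad

end CfsgLib.CIT
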