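import Mathlib
import Cfsg.Agent.Lib.CIT.Defs
import Cfsg.Agent.Lib.CIT.Module
import Cfsg.Agent.Lib.CIT.Torus
import Cfsg.Agent.Lib.Transfer.ThompsonJ
import Cfsg.Agent.Lib.Fitting.Basic

/-!
A group in which involution centralisers are `2`-groups, with a non-trivial `2`-core and a
Sylow `2`-subgroup whose Thompson subgroup is not normal.
-/

set_option autoImplicit false
set_option linter.unusedSectionVars false
set_option linter.style.haveILetI false

namespace CfsgLib.CIT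

open CfsgLib.Offender
open CfsgLib.Transfer (thompsonJ maxAbExp IsAbExp)
open scoped Pointwise

universe u

section Basic

variable {G : Type u} [Group G]

theorem isAbExp_two {A : Subgroup G} (h : ∀ a ∈ A, a * a = 1) : IsAbExp 2 A :=
  ⟨⟨⟨fun a b => Subtype.ext (commute_of_invol h a.2 b.2).eq⟩⟩, fun a ha => by
    rw [pow_two]; exact h a ha⟩

theorem invol_of_isAbExp {A : Subgroup G} (h : IsAbExp 2 A) {a : G} (ha : a ∈ A) : a * a = 1 := by
  rw [← pow_two]; exact h.2 a ha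

/-- `Ω₁(Z(J(P)))` lies in every maximal elementary abelian subgroup. -/
theorem omegaCenter_thompsonJ_le [Finite G] {P B : Subgroup G} (hB : B ∈ maxAbExp 2 P) :
    omegaCenter (thompsonJ 2 P) ≤ B := by
  set U := omegaCenter (thompsonJ 2 P) with hU
  have hBJ : B ≤ thompsonJ 2 P := le_sSup hB
  have hcomm : ∀ u ∈ U, ∀ b ∈ B, Commute u b := fun u hu b hb => hu.2.2 b (hBJ hb)
  let C : Subgroup G :=
    { carrier := {x | ∃ u ∈ U, ∃ b ∈ B, u * b = x}
      one_mem' := ⟨1, one_mem _, 1, one_mem _, one_mul 1⟩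
      mul_mem' := by
        rintro _ _ ⟨u, hu, b, hb, rfl⟩ ⟨v, hv, c, hc, rfl⟩
        refine ⟨u * v, mul_mem hu hv, b * c, mul_mem hb hc, ?_⟩
        rw [show u * b * (v * c) = u * (b * v) * c by group, ← (hcomm v hv b hb).eq]
        group
      inv_mem' := by
        rintro _ ⟨u, hu, b, hb, rfl⟩
        refine ⟨u⁻¹, inv_mem hu, b⁻¹, inv_mem hb, ?_⟩
        rw [(hcomm u⁻¹ (inv_mem hu) b⁻¹ (inv_mem hb)).eq, mul_inv_rev] }
  have hC2 : ∀ x ∈ C, x * x = 1 := by
    rintro _ ⟨u, hu, b, hb, rfl⟩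
    rw [show u * b * (u * b) = u * (b * u) * b by group, ← (hcomm u hu b hb).eq,
      show u * (u * b) * b = u * u * (b * b) by group, omegaCenter_invol hu,
      invol_of_isAbExp hB.2.1 hb, one_mul]
  have hCP : C ≤ P := by
    rintro _ ⟨u, hu, b, hb, rfl⟩
    exact mul_mem (Transfer.thompsonJ_le 2 P (omegaCenter_le _ hu)) (hB.1 hb)
  have hBC : B ≤ C := fun b hb => ⟨1, one_mem _, b, hb, one_mul b⟩
  have hle := hB.2.2 C hCP (isAbExp_two hC2)
  rw [Subgroup.eq_of_le_of_card_ge hBC hle]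
  exact fun u hu => ⟨u, hu, 1, one_mem _, mul_one u⟩

end Basic

variable {H : Type u} [Group H] [Finite H]

instance pCore_two_normal : (Cfsg.pCore 2 H).Normal := Fitting.pCore_normal 2

instance omegaCenter_pCore_normal : (omegaCenter (Cfsg.pCore 2 H)).Normal := by
  rw [← Subgroup.normalizer_eq_top_iff, eq_top_iff]
  refine le_trans ?_ (normalizer_le_normalizer_omegaCenter _)
  rw [Subgroup.normalizer_eq_top]

instance commGroupOmegaCenter (P : Subgroup H) : CommGroup (omegaCenter P) :=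
  { (inferInstance : Group (omegaCenter P)) with
    mul_comm := fun a b => Subtype.ext (a.2.2.2 b b.2.1).eq }

/-- The module `Ω₁(Z(O₂(H)))`. -/
abbrev Mod (H : Type u) [Group H] : Type u := Additive (omegaCenter (Cfsg.pCore 2 H))

/-- The action of `H` on the module by conjugation. -/
noncomputable def conjRep : H →* AddMonoid.End (Mod H) where
  toFun g :=
    { toFun := fun v => Additive.ofMul ⟨g * (Additive.toMul v : omegaCenter _) * g⁻¹,
        (inferInstance : (omegaCenter (Cfsg.pCore 2 H)).Normal).conj_mem _ (Additive.toMul v).2 g⟩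
      map_zero' := congrArg Additive.ofMul (Subtype.ext (by simp))
      map_add' := fun u v => congrArg Additive.ofMul (Subtype.ext (by simp [mul_assoc])) }
  map_one' := by
    refine DFunLike.ext _ _ fun v => Additive.toMul.injective (Subtype.ext ?_)
    show (1 : H) * ((Additive.toMul v : omegaCenter (Cfsg.pCore 2 H)) : H) * (1 : H)⁻¹ =
      ((Additive.toMul v : omegaCenter (Cfsg.pCore 2 H)) : H)
    group
  map_mul' g k := by
    refine DFunLike.ext _ _ fun v => Additive.toMul.injective (Subtype.ext ?_)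
    show g * k * ((Additive.toMul v : omegaCenter (Cfsg.pCore 2 H)) : H) * (g * k)⁻¹ =
      g * (k * ((Additive.toMul v : omegaCenter (Cfsg.pCore 2 H)) : H) * k⁻¹) * g⁻¹
    group

theorem conjRep_apply (g : H) (v : Mod H) :
    ((Additive.toMul (conjRep g v) : omegaCenter (Cfsg.pCore 2 H)) : H) =
      g * (Additive.toMul v : omegaCenter (Cfsg.pCore 2 H)) * g⁻¹ := rfl

theorem le_ker_conjRep : Cfsg.pCore 2 H ≤ (conjRep (H := H)).ker := fun g hg => by
  refine DFunLike.ext _ _ fun v => Additive.toMul.injective (Subtype.ext ?_)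
  rw [conjRep_apply]
  rw [← ((Additive.toMul v).2.2.2 g hg).eq, mul_inv_cancel_right]
  rfl

/-- The action of `H / O₂(H)` on the module. -/
noncomputable def modRep : H ⧸ Cfsg.pCore 2 H →* AddMonoid.End (Mod H) :=
  QuotientGroup.lift _ conjRep le_ker_conjRep

theorem modRep_apply (g : H) (v : Mod H) :
    ((Additive.toMul (modRep (g : H ⧸ Cfsg.pCore 2 H) v) : omegaCenter (Cfsg.pCore 2 H)) : H) =
      g * (Additive.toMul v : omegaCenter (Cfsg.pCore 2 H)) * g⁻¹ := rfl

theorem modRep_eq_self_iff (g : H) (v : omegaCenter (Cfsg.pCore 2 H)) :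
    modRep (g : H ⧸ Cfsg.pCore 2 H) (Additive.ofMul v) = Additive.ofMul v ↔ Commute g (v : H) := by
  rw [← Additive.toMul.injective.eq_iff, Subtype.ext_iff, modRep_apply]
  exact mul_inv_eq_iff_eq_mul

theorem exists_odd_lift {Q : Subgroup H} [Q.Normal] {x : H ⧸ Q} (hx : Odd (orderOf x)) :
    ∃ g : H, Odd (orderOf g) ∧ (g : H ⧸ Q) = x := by
  obtain ⟨g, rfl⟩ := QuotientGroup.mk_surjective x
  set a := (orderOf g).factorization 2 with ha
  have hcop : (2 ^ a).Coprime (orderOf (g : H ⧸ Q)) := (Nat.coprime_two_left.mpr hx).pow_left _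
  obtain ⟨m, hm⟩ := exists_pow_eq_self_of_coprime hcop
  refine ⟨(g ^ 2 ^ a) ^ m, ?_, by rw [QuotientGroup.mk_pow, QuotientGroup.mk_pow]; exact hm⟩
  refine Odd.of_dvd_nat ?_ (orderOf_pow_dvd m)
  rw [orderOf_pow' g (pow_ne_zero _ two_ne_zero), ha,
    Nat.gcd_eq_right (Nat.ordProj_dvd _ 2)]
  exact Nat.odd_iff.mpr (Nat.two_dvd_ne_zero.mp
    (Nat.not_dvd_ordCompl Nat.prime_two (orderOf_pos g).ne'))

theorem pCore_quotient_eq_bot : Cfsg.pCore 2 (H ⧸ Cfsg.pCore 2 H) = ⊥ := by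
  set π := QuotientGroup.mk' (Cfsg.pCore 2 H)
  haveI := Fitting.pCore_normal (G := H ⧸ Cfsg.pCore 2 H) 2
  have hp2 : IsPGroup 2 ((Cfsg.pCore 2 (H ⧸ Cfsg.pCore 2 H)).comap π) :=
    (Fitting.pCore_isPGroup 2).comap_of_ker_isPGroup π (by
      rw [QuotientGroup.ker_mk']; exact Fitting.pCore_isPGroup 2)
  have hle := Fitting.le_pCore
    (inferInstance : ((Cfsg.pCore 2 (H ⧸ Cfsg.pCore 2 H)).comap π).Normal) hp2
  rw [eq_bot_iff]
  intro x hx
  obtain ⟨g, rfl⟩ := QuotientGroup.mk_surjective x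
  rw [Subgroup.mem_bot, QuotientGroup.eq_one_iff]
  exact hle hx

section Main

variable (hcit : IsCIT H) (hQ : Cfsg.pCore 2 H ≠ ⊥)
include hcit hQ

theorem omega_pCore_ne_bot : omegaCenter (Cfsg.pCore 2 H) ≠ ⊥ :=
  omegaCenter_ne_bot (Fitting.pCore_isPGroup 2) hQ

theorem centralizer_omega_pCore :
    Subgroup.centralizer (omegaCenter (Cfsg.pCore 2 H) : Set H) = Cfsg.pCore 2 H := by
  set C := Subgroup.centralizer (omegaCenter (Cfsg.pCore 2 H) : Set H)
  haveI : C.Normal := inferInstance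
  refine le_antisymm (Fitting.le_pCore inferInstance ?_) fun q hq v hv => (hv.2.2 q hq).eq
  exact hcit.centralizer_isPGroup ((Fitting.pCore_isPGroup 2).to_le (omegaCenter_le _))
    (omega_pCore_ne_bot hcit hQ)

theorem cit_quotient : IsCIT (H ⧸ Cfsg.pCore 2 H) := by
  haveI : Fact (Nat.Prime 2) := ⟨Nat.prime_two⟩
  intro t ht
  refine isPGroup_two_of_forall fun x hx => ?_
  by_contra hx1
  rw [← Subgroup.orderOf_coe] at hx
  have hx0 : orderOf (x : H ⧸ Cfsg.pCore 2 H) ≠ 1 := fun e =>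
    hx1 (Subtype.ext (orderOf_eq_one_iff.mp e))
  obtain ⟨p, hp, hpd⟩ := Nat.exists_prime_and_dvd hx0
  haveI := Fact.mk hp
  have hp2 : p ≠ 2 := fun e => by
    exact absurd (hx.of_dvd_nat hpd) (by rw [e]; decide)
  set n := orderOf (x : H ⧸ Cfsg.pCore 2 H) / p
  set y := (x : H ⧸ Cfsg.pCore 2 H) ^ n with hy
  have hyo : orderOf y = p := by
    rw [hy, orderOf_pow_orderOf_div (orderOf_pos _).ne' hpd]
  obtain ⟨g, hg, hgy⟩ := exists_odd_lift (x := y) (hyo ▸ hp.odd_of_ne_two hp2)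
  have hgp : g ^ p = 1 := by
    refine eq_one_of_odd_mem (Fitting.pCore_isPGroup 2) ?_ (hg.of_dvd_nat (orderOf_pow_dvd p))
    rw [← QuotientGroup.eq_one_iff, QuotientGroup.mk_pow, hgy, ← hyo, pow_orderOf_eq_one]
  obtain ⟨s, hs⟩ := QuotientGroup.mk_surjective t
  -- the coset of the involution has a point fixed by the lift
  let f : MulAut H := MulAut.conj g
  have hyt : Commute y t := by
    have hc : Commute (x : H ⧸ Cfsg.pCore 2 H) t :=
      Subgroup.mem_centralizer_singleton_iff.mp x.2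
    exact hc.pow_left n
  let S : Set H := {z | (z : H ⧸ Cfsg.pCore 2 H) = t}
  have hmap : ∀ (e : Subgroup.zpowers g) (z : H), (z : H ⧸ Cfsg.pCore 2 H) = t →
      (((e : H) * z * (e : H)⁻¹ : H) : H ⧸ Cfsg.pCore 2 H) = t := by
    rintro ⟨_, i, rfl⟩ z hz
    show ((g ^ i * z * (g ^ i)⁻¹ : H) : H ⧸ Cfsg.pCore 2 H) = t
    rw [QuotientGroup.mk_mul, QuotientGroup.mk_mul, QuotientGroup.mk_inv, QuotientGroup.mk_zpow,
      hgy, hz, (hyt.zpow_left i).eq, mul_inv_cancel_right]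
  letI : MulAction (Subgroup.zpowers g) S :=
    { smul := fun e z => ⟨(e : H) * z * (e : H)⁻¹, hmap e z z.2⟩
      one_smul := fun z => Subtype.ext (by show (1 : H) * z * (1 : H)⁻¹ = z; group)
      mul_smul := fun e e' z => Subtype.ext (by
        show (e : H) * e' * z * ((e : H) * e')⁻¹ = e * (e' * z * (e' : H)⁻¹) * (e : H)⁻¹
        group) }
  have hS : Nat.card S = Nat.card (Cfsg.pCore 2 H) := by
    refine Nat.card_congr
      { toFun := fun z => ⟨s⁻¹ * z, QuotientGroup.eq.mp (hs.trans z.2.symm)⟩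
        invFun := fun q => ⟨s * q, by
          show ((s * q : H) : H ⧸ Cfsg.pCore 2 H) = t
          rw [QuotientGroup.mk_mul, hs, (QuotientGroup.eq_one_iff (q : H)).mpr q.2, mul_one]⟩
        left_inv := fun z => Subtype.ext (mul_inv_cancel_left s z)
        right_inv := fun q => Subtype.ext (inv_mul_cancel_left s q) }
  have hgP : IsPGroup p (Subgroup.zpowers g) := by
    rintro ⟨_, i, rfl⟩
    exact ⟨1, Subtype.ext (by
      show (g ^ i) ^ p ^ 1 = 1
      rw [pow_one, ← zpow_natCast, ← zpow_mul, mul_comm, zpow_mul, zpow_natCast, hgp, one_zpow])⟩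
  obtain ⟨k, hk⟩ := (Fitting.pCore_isPGroup (G := H) 2).exists_card_eq
  have hnd : ¬ p ∣ Nat.card S := by
    rw [hS, hk]
    intro hd
    exact hp2 ((Nat.prime_dvd_prime_iff_eq hp Nat.prime_two).mp (hp.dvd_of_dvd_pow hd))
  obtain ⟨z, hz⟩ := hgP.nonempty_fixed_point_of_prime_not_dvd_card S hnd
  have hgz : Commute g (z : H) := by
    have := congrArg Subtype.val (hz ⟨g, Subgroup.mem_zpowers g⟩)
    exact mul_inv_eq_iff_eq_mul.mp this
  have hzP : IsPGroup 2 ((Subgroup.zpowers t).comap (QuotientGroup.mk' (Cfsg.pCore 2 H))) := by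
    refine (IsPGroup.of_card (n := 1) ?_).comap_of_ker_isPGroup _ ?_
    · rw [Nat.card_zpowers, ht, pow_one]
    · rw [QuotientGroup.ker_mk']; exact Fitting.pCore_isPGroup 2
  have hzmem : (z : H) ∈ (Subgroup.zpowers t).comap (QuotientGroup.mk' (Cfsg.pCore 2 H)) := by
    show ((z : H) : H ⧸ Cfsg.pCore 2 H) ∈ Subgroup.zpowers t
    rw [z.2]; exact Subgroup.mem_zpowers t
  have hz1 : Subgroup.zpowers (z : H) ≠ ⊥ := by
    rw [Ne, Subgroup.zpowers_eq_bot]
    intro e
    have h2 := z.2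
    rw [Set.mem_ofPred_eq, e, QuotientGroup.mk_one] at h2
    rw [← h2, orderOf_one] at ht
    omega
  have := hcit.eq_one_of_centralizes (hzP.to_le (Subgroup.zpowers_le.mpr hzmem)) hz1 hg
    (fun q hq => by
      obtain ⟨i, rfl⟩ := hq
      exact hgz.zpow_right i)
  rw [this, QuotientGroup.mk_one] at hgy
  rw [← hgy, orderOf_one] at hyo
  exact hp.ne_one hyo.symm

variable (T : Sylow 2 H) (hJ : ¬ (thompsonJ 2 (T : Subgroup H)).Normal)
include hJ

theorem not_normal : ¬ (T : Subgroup H).Normal := by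
  intro hn
  refine hJ (Subgroup.normalizer_eq_top_iff.mp (eq_top_iff.mpr ?_))
  rw [← Subgroup.normalizer_eq_top_iff.mpr hn]
  exact Transfer.normalizer_le_normalizer_thompsonJ 2 _

omit hcit hQ hJ in
theorem pCore_le_sylow : Cfsg.pCore 2 H ≤ (T : Subgroup H) :=
  le_sup_left.trans (T.3 ((Fitting.pCore_isPGroup 2).to_sup_of_normal_left T.2) le_sup_right).le

omit hcit hQ in
theorem exists_max_not_le :
    ∃ A ∈ maxAbExp 2 (T : Subgroup H), ¬ A ≤ Cfsg.pCore 2 H := by
  by_contra! hne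
  refine hJ ?_
  have hQT := pCore_le_sylow T
  have hJ' : thompsonJ 2 (T : Subgroup H) = thompsonJ 2 (Cfsg.pCore 2 H) := by
    unfold thompsonJ
    congr 1
    ext B
    refine ⟨fun hB => ⟨hne B hB, hB.2.1, fun C hC => hB.2.2 C (hC.trans hQT)⟩, fun hB => ?_⟩
    obtain ⟨C, hC⟩ := Transfer.thompsonJ_nonempty 2 (T : Subgroup H)
    exact ⟨hB.1.trans hQT, hB.2.1, fun D hD hDe =>
      (hC.2.2 D hD hDe).trans (hB.2.2 C (hne C hC) hC.2.1)⟩
  rw [hJ', ← Subgroup.normalizer_eq_top_iff, eq_top_iff,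
    ← Subgroup.normalizer_eq_top (Cfsg.pCore 2 H)]
  exact Transfer.normalizer_le_normalizer_thompsonJ 2 _

omit hJ in
theorem offender_bound {A : Subgroup H} (hA : A ∈ maxAbExp 2 (T : Subgroup H)) :
    Nat.card ↥(omegaCenter (Cfsg.pCore 2 H)) * Nat.card ↥(A ⊓ Cfsg.pCore 2 H) =
      Nat.card ↥(omegaCenter (Cfsg.pCore 2 H) ⊔ (A ⊓ Cfsg.pCore 2 H)) *
        Nat.card ↥(omegaCenter (Cfsg.pCore 2 H) ⊓ A) ∧
    Nat.card ↥(omegaCenter (Cfsg.pCore 2 H) ⊔ (A ⊓ Cfsg.pCore 2 H)) ≤ Nat.card A ∧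
    Nat.card (A.map (QuotientGroup.mk' (Cfsg.pCore 2 H))) * Nat.card ↥(A ⊓ Cfsg.pCore 2 H) =
      Nat.card A ∧
    Nat.card ↥(omegaCenter (Cfsg.pCore 2 H) ⊓ A) ≤
      Nat.card (fixSub (modRep (H := H)) (A.map (QuotientGroup.mk' (Cfsg.pCore 2 H)))) ∧
    ∀ x ∈ omegaCenter (Cfsg.pCore 2 H) ⊔ (A ⊓ Cfsg.pCore 2 H), x * x = 1 := by
  set Q := Cfsg.pCore 2 H with hQdef
  set V := omegaCenter Q with hV
  have hVQ : V ≤ Q := omegaCenter_le Q
  have hAT : A ≤ (T : Subgroup H) := hA.1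
  have hinv : ∀ x ∈ V ⊔ (A ⊓ Q), x * x = 1 := by
    intro x hx
    obtain ⟨v, hv, a, ha, rfl⟩ := Subgroup.mem_sup_of_normal_left.mp hx
    rw [show v * a * (v * a) = v * (a * v) * a by group, ← (hv.2.2 a ha.2).eq,
      show v * (v * a) * a = v * v * (a * a) by group, hv.2.1, invol_of_isAbExp hA.2.1 ha.1,
      one_mul]
  refine ⟨?_, ?_, ?_, ?_, hinv⟩
  · have hW := Coprime.card_sup_mul_card_inf (K := V) (S := A ⊓ Q)
      Subgroup.le_normalizer_of_normal
    rw [← hW, show V ⊓ (A ⊓ Q) = V ⊓ A from le_antisymm (inf_le_inf_left V inf_le_left)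
      (le_inf inf_le_left (le_inf inf_le_right (inf_le_left.trans hVQ)))]
  · exact hA.2.2 _ (sup_le (hVQ.trans (pCore_le_sylow T)) (inf_le_left.trans hAT))
      (isAbExp_two hinv)
  · let g : A →* H ⧸ Q := (QuotientGroup.mk' Q).comp A.subtype
    have h1 := g.ker.card_mul_index
    rw [Subgroup.index_ker, show g.range = A.map (QuotientGroup.mk' Q) by
      rw [MonoidHom.range_comp, Subgroup.range_subtype], mul_comm] at h1
    rw [← h1]
    congr 1
    refine Nat.card_congr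
      { toFun := fun x => ⟨⟨x, x.2.1⟩, (QuotientGroup.eq_one_iff _).mpr x.2.2⟩
        invFun := fun x => ⟨(x : A), (x : A).2, (QuotientGroup.eq_one_iff _).mp x.2⟩
        left_inv := fun _ => rfl
        right_inv := fun _ => rfl }
  · refine Nat.card_le_card_of_injective (fun v : ↥(V ⊓ A) =>
      (⟨Additive.ofMul (⟨(v : H), v.2.1⟩ : V), ?_⟩ : fixSub (modRep (H := H))
        (A.map (QuotientGroup.mk' Q)))) fun v w e => ?_
    · rintro _ ⟨a, ha, rfl⟩
      exact (modRep_eq_self_iff a _).mpr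
        (commute_of_invol (fun a ha => invol_of_isAbExp hA.2.1 ha) ha v.2.2)
    · exact Subtype.ext (congrArg (fun z : V => (z : H))
        (Additive.ofMul.injective (congrArg Subtype.val e :)))

theorem modRep_hyp : Hyp (modRep (H := H)) := by
  obtain ⟨A, hA, hAQ⟩ := exists_max_not_le T hJ
  obtain ⟨e1, e2, e3, e4, -⟩ := offender_bound hcit hQ T hA
  refine ⟨fun v => Additive.toMul.injective (Subtype.ext (Additive.toMul v).2.2.1), ?_,
    fun x hx hx1 v hv => ?_, cit_quotient hcit hQ, pCore_quotient_eq_bot,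
    A.map (QuotientGroup.mk' _), ?_, ?_, ?_⟩
  · rw [← MonoidHom.ker_eq_bot_iff, eq_bot_iff]
    intro x hx
    obtain ⟨g, rfl⟩ := QuotientGroup.mk_surjective x
    rw [Subgroup.mem_bot, QuotientGroup.eq_one_iff, ← centralizer_omega_pCore hcit hQ]
    intro v hv
    exact ((modRep_eq_self_iff g ⟨v, hv⟩).mp (by rw [MonoidHom.mem_ker.mp hx]; rfl)).symm.eq
  · obtain ⟨g, hg, rfl⟩ := exists_odd_lift hx
    by_contra hv0
    have hv' : (Additive.toMul v : omegaCenter (Cfsg.pCore 2 H)) ≠ 1 := fun e =>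
      hv0 (Additive.toMul.injective e)
    have hc := (modRep_eq_self_iff g (Additive.toMul v)).mp hv
    exact hx1 (by rw [hcit.eq_one (Additive.toMul v).2.2.1 (fun e => hv' (Subtype.ext e)) hc hg,
      QuotientGroup.mk_one])
  · rw [Ne, Subgroup.map_eq_bot_iff, QuotientGroup.ker_mk']
    exact hAQ
  · rintro _ ⟨a, ha, rfl⟩
    rw [← map_mul, invol_of_isAbExp hA.2.1 ha, map_one]
  · rw [show Nat.card (Mod H) = Nat.card (omegaCenter (Cfsg.pCore 2 H)) from
      Nat.card_congr Additive.toMul]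
    refine Nat.le_of_mul_le_mul_right (c := Nat.card ↥(A ⊓ Cfsg.pCore 2 H)) ?_ Nat.card_pos
    rw [e1, mul_right_comm, e3]
    exact Nat.mul_le_mul e2 e4

omit hcit hQ hJ in
/-- The image of the Sylow subgroup. -/
noncomputable def sylowBar : Sylow 2 (H ⧸ Cfsg.pCore 2 H) :=
  haveI : Fact (Nat.Prime 2) := ⟨Nat.prime_two⟩
  T.mapSurjective (QuotientGroup.mk'_surjective _)

omit hcit hQ hJ in
theorem coe_sylowBar : (sylowBar T : Subgroup (H ⧸ Cfsg.pCore 2 H)) =
    (T : Subgroup H).map (QuotientGroup.mk' (Cfsg.pCore 2 H)) := by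
  haveI : Fact (Nat.Prime 2) := ⟨Nat.prime_two⟩
  exact Sylow.coe_mapSurjective _ _

theorem quad_sylowBar : Quad (modRep (H := H)) (sylowBar T : Subgroup (H ⧸ Cfsg.pCore 2 H)) := by
  have hH := modRep_hyp hcit hQ T hJ
  obtain ⟨B, hB⟩ := hH.exists_quad
  exact hB.of_sylow hH (sylowBar T)

/-- The order `q` attached to the configuration. -/
theorem main_data : ∃ (A : Subgroup H) (q : ℕ),
    A ∈ maxAbExp 2 (T : Subgroup H) ∧ ¬ A ≤ Cfsg.pCore 2 H ∧
    Nat.card (sylowBar T : Subgroup (H ⧸ Cfsg.pCore 2 H)) = q ∧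
    Nat.card (omegaCenter (Cfsg.pCore 2 H)) = q * q ∧
    Nat.card ↥(omegaCenter (Cfsg.pCore 2 H) ⊓ A) = q ∧
    Nat.card ↥(omegaCenter (Cfsg.pCore 2 H) ⊔ (A ⊓ Cfsg.pCore 2 H)) = Nat.card A ∧
    A ⊔ Cfsg.pCore 2 H = (T : Subgroup H) := by
  have hH := modRep_hyp hcit hQ T hJ
  have hB := quad_sylowBar hcit hQ T hJ
  obtain ⟨A, hA, hAQ⟩ := exists_max_not_le T hJ
  obtain ⟨e1, e2, e3, e4, -⟩ := offender_bound hcit hQ T hA
  set π := QuotientGroup.mk' (Cfsg.pCore 2 H) with hπ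
  set B := (sylowBar T : Subgroup (H ⧸ Cfsg.pCore 2 H)) with hBdef
  set Ab := A.map π with hAb
  have hAbB : Ab ≤ B := by
    rw [hBdef, coe_sylowBar]; exact Subgroup.map_mono hA.1
  have hV : Nat.card (omegaCenter (Cfsg.pCore 2 H)) = Nat.card B * Nat.card B := by
    rw [← hB.card_V]; exact (Nat.card_congr Additive.toMul).symm
  obtain ⟨b, hb, hb1⟩ : ∃ b ∈ Ab, b ≠ 1 := by
    by_contra! hc
    have : Ab = ⊥ := eq_bot_iff.mpr fun x hx => Subgroup.mem_bot.mpr (hc x hx)
    rw [hAb, Subgroup.map_eq_bot_iff, hπ, QuotientGroup.ker_mk'] at this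
    exact hAQ this
  have hfix : Nat.card (fixSub (modRep (H := H)) Ab) ≤ Nat.card B := by
    rw [← hB.card_fix, ← hB.fix_eq b (hAbB hb) hb1]
    exact AddSubgroup.card_le_of_le fun v hv => hv b hb
  have hq := hB.one_lt_card hH
  have h1 : Nat.card Ab ≤ Nat.card B := Subgroup.card_le_of_le hAbB
  have h2 : Nat.card B * Nat.card B ≤
      Nat.card Ab * Nat.card ↥(omegaCenter (Cfsg.pCore 2 H) ⊓ A) := by
    refine Nat.le_of_mul_le_mul_right (c := Nat.card ↥(A ⊓ Cfsg.pCore 2 H)) ?_ Nat.card_pos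
    rw [← hV, e1, mul_right_comm, e3]
    exact Nat.mul_le_mul_right _ e2
  have h3 : Nat.card ↥(omegaCenter (Cfsg.pCore 2 H) ⊓ A) ≤ Nat.card B := e4.trans hfix
  have hAbc : Nat.card Ab = Nat.card B := by nlinarith
  have hVA : Nat.card ↥(omegaCenter (Cfsg.pCore 2 H) ⊓ A) = Nat.card B := by nlinarith
  refine ⟨A, Nat.card B, hA, hAQ, rfl, hV, hVA, ?_, ?_⟩
  · rw [hV, hVA] at e1
    rw [← e3, hAbc]
    exact Nat.eq_of_mul_eq_mul_right (lt_of_lt_of_le one_pos hq.le) (by rw [← e1]; ring)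
  · refine le_antisymm (sup_le hA.1 (pCore_le_sylow T)) fun t ht => ?_
    have hAbe : Ab = B := Subgroup.eq_of_le_of_card_ge hAbB hAbc.ge
    have : (t : H ⧸ Cfsg.pCore 2 H) ∈ A.map π := by
      rw [← hAb, hAbe, hBdef, coe_sylowBar]; exact ⟨t, ht, rfl⟩
    obtain ⟨a, ha, hat⟩ := this
    have h4 : a⁻¹ * t ∈ Cfsg.pCore 2 H := QuotientGroup.eq.mp hat
    have := mul_mem (Subgroup.mem_sup_left (T := Cfsg.pCore 2 H) ha)
      (Subgroup.mem_sup_right (S := A) h4)
    rwa [mul_inv_cancel_left] at this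

theorem comap_normalizer :
    (Subgroup.normalizer ((sylowBar T : Subgroup (H ⧸ Cfsg.pCore 2 H)) :
      Set (H ⧸ Cfsg.pCore 2 H))).comap (QuotientGroup.mk' (Cfsg.pCore 2 H)) =
        Subgroup.normalizer ((T : Subgroup H) : Set H) := by
  set π := QuotientGroup.mk' (Cfsg.pCore 2 H) with hπ
  have hc : ((sylowBar T : Subgroup (H ⧸ Cfsg.pCore 2 H))).comap π = (T : Subgroup H) := by
    rw [coe_sylowBar, Subgroup.comap_map_eq, hπ, QuotientGroup.ker_mk', sup_eq_left]
    exact pCore_le_sylow T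
  rw [← hc]
  exact Subgroup.comap_normalizer_eq_of_surjective _ (QuotientGroup.mk'_surjective _)

theorem normalizer_ne_top : Subgroup.normalizer ((T : Subgroup H) : Set H) ≠ ⊤ :=
  fun e => not_normal hcit hQ T hJ (Subgroup.normalizer_eq_top_iff.mp e)

/-- Two Sylow `2`-subgroups generate. -/
theorem generates {x : H} (hx : x ∉ Subgroup.normalizer ((T : Subgroup H) : Set H)) :
    (T : Subgroup H) ⊔ (T : Subgroup H).map (MulAut.conj x).toMonoidHom = ⊤ := by
  set π := QuotientGroup.mk' (Cfsg.pCore 2 H) with hπ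
  have hB := quad_sylowBar hcit hQ T hJ
  rw [← comap_normalizer hcit hQ T hJ, Subgroup.mem_comap] at hx
  have hgen := hB.generates (modRep_hyp hcit hQ T hJ) hx
  rw [coe_sylowBar, Subgroup.map_map] at hgen
  rw [← hπ, show (MulAut.conj (π x)).toMonoidHom.comp π = π.comp (MulAut.conj x).toMonoidHom from
    MonoidHom.ext fun y => by simp, ← Subgroup.map_map, ← Subgroup.map_sup] at hgen
  have hker : π.ker ≤ (T : Subgroup H) ⊔ (T : Subgroup H).map (MulAut.conj x).toMonoidHom := by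
    rw [hπ, QuotientGroup.ker_mk']
    exact (pCore_le_sylow T).trans le_sup_left
  rw [← sup_eq_left.mpr hker, ← Subgroup.comap_map_eq, hgen, Subgroup.comap_top]

/-- `H / O₂(H)` is a two-dimensional linear group. -/
theorem exists_psl_quotient :
    ∃ (K : Subgroup H) (_ : K.Normal) (F : Type) (_ : Field F) (_ : Fintype F) (n : ℕ),
      1 ≤ n ∧ Fintype.card F = 2 ^ n ∧
        Nonempty (H ⧸ K ≃* Matrix.ProjectiveSpecialLinearGroup (Fin 2) F) := by
  haveI : Fact (Nat.Prime 2) := ⟨Nat.prime_two⟩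
  have hH := modRep_hyp hcit hQ T hJ
  have hB := quad_sylowBar hcit hQ T hJ
  obtain ⟨F, iF, iFt, hF, hiso⟩ := hB.exists_psl hH
  obtain ⟨n, hn⟩ := (hB.isPGroup hH).exists_card_eq
  have := hB.one_lt_card hH
  refine ⟨Cfsg.pCore 2 H, inferInstance, F, iF, iFt, n, ?_, hF.trans hn, hiso⟩
  rcases n with _ | n
  · rw [hn, pow_zero] at this; omega
  · omega

/-- The centre of the Thompson subgroup is centralised by the Sylow subgroup. -/
theorem omega_thompsonJ_central {u : H}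
    (hu : u ∈ omegaCenter (thompsonJ 2 (T : Subgroup H))) :
    ∀ t ∈ (T : Subgroup H), Commute u t := by
  obtain ⟨A, q, hA, -, hq, hV, hVA, hE, hAQT⟩ := main_data hcit hQ T hJ
  obtain ⟨-, -, -, -, hinv⟩ := offender_bound hcit hQ T hA
  set Q := Cfsg.pCore 2 H with hQdef
  set V := omegaCenter Q with hVdef
  have hVQ : V ≤ Q := omegaCenter_le Q
  set E := V ⊔ (A ⊓ Q) with hEdef
  have hQT := pCore_le_sylow T
  have hEQ : E ≤ Q := sup_le hVQ inf_le_right
  have hEmax : E ∈ maxAbExp 2 Q :=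
    ⟨hEQ, isAbExp_two hinv, fun C hC hCe => hE ▸ hA.2.2 C (hC.trans hQT) hCe⟩
  have hEmaxT : E ∈ maxAbExp 2 (T : Subgroup H) :=
    ⟨hEQ.trans hQT, isAbExp_two hinv, fun C hC hCe => hE ▸ hA.2.2 C hC hCe⟩
  have hJle : thompsonJ 2 Q ≤ thompsonJ 2 (T : Subgroup H) := sSup_le fun C hC => le_sSup
    ⟨hC.1.trans hQT, hC.2.1, fun D hD hDe =>
      (hA.2.2 D hD hDe).trans (hE ▸ hC.2.2 E hEQ (isAbExp_two hinv))⟩
  set U₁ := omegaCenter (thompsonJ 2 Q) with hU₁
  have hVU : V ≤ U₁ := fun v hv => ⟨le_sSup (α := Subgroup H) hEmax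
    (Subgroup.mem_sup_left (T := A ⊓ Q) hv), hv.2.1,
    fun y hy => hv.2.2 y (Transfer.thompsonJ_le 2 Q hy)⟩
  haveI hU₁n : U₁.Normal := by
    rw [← Subgroup.normalizer_eq_top_iff, eq_top_iff]
    refine le_trans ?_ (normalizer_le_normalizer_omegaCenter _)
    refine le_trans ?_ (Transfer.normalizer_le_normalizer_thompsonJ 2 _)
    rw [Subgroup.normalizer_eq_top]
  have hU₁E : U₁ ≤ E := omegaCenter_thompsonJ_le hEmax
  have hU₁V : U₁ = V := by
    have hsplit : U₁ = V ⊔ (U₁ ⊓ A) := by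
      refine le_antisymm (fun y hy => ?_) (sup_le hVU inf_le_left)
      obtain ⟨v, hv, a, ha, rfl⟩ := Subgroup.mem_sup_of_normal_left.mp (hU₁E hy)
      refine mul_mem (Subgroup.mem_sup_left hv) (Subgroup.mem_sup_right ⟨?_, ha.1⟩)
      have := mul_mem (inv_mem (hVU hv)) hy
      rwa [inv_mul_cancel_left] at this
    have hc := Coprime.card_sup_mul_card_inf (K := V) (S := U₁ ⊓ A)
      Subgroup.le_normalizer_of_normal
    rw [← hsplit, show V ⊓ (U₁ ⊓ A) = V ⊓ A from le_antisymm (inf_le_inf_left V inf_le_right)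
      (le_inf inf_le_left (le_inf (inf_le_left.trans hVU) inf_le_right)), hVA, hV] at hc
    obtain ⟨x, hx⟩ : ∃ x, x ∉ Subgroup.normalizer ((T : Subgroup H) : Set H) := by
      by_contra! hc'
      exact normalizer_ne_top hcit hQ T hJ (eq_top_iff.mpr fun x _ => hc' x)
    set c := (MulAut.conj x).toMonoidHom with hcdef
    have hcU : (U₁ ⊓ A).map c ≤ U₁ := by
      rintro _ ⟨y, hy, rfl⟩
      exact hU₁n.conj_mem y hy.1 x
    have hdis : (U₁ ⊓ A) ⊓ (U₁ ⊓ A).map c = ⊥ := by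
      rw [eq_bot_iff]
      rintro y ⟨hy, a, ha, hay⟩
      rw [Subgroup.mem_bot]
      by_contra hy1
      have hy2 : y * y = 1 := omegaCenter_invol hy.1
      have hinvA : ∀ b ∈ A, b * b = 1 := fun b hb => invol_of_isAbExp hA.2.1 hb
      set C := Subgroup.centralizer ({y} : Set H) with hC
      have hAC : A ≤ C := fun b hb => Subgroup.mem_centralizer_singleton_iff.mpr
        (commute_of_invol hinvA hb hy.2).eq
      have hAC' : A.map c ≤ C := by
        rintro _ ⟨b, hb, rfl⟩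
        refine Subgroup.mem_centralizer_singleton_iff.mpr ?_
        rw [← hay, ← map_mul, ← map_mul, (commute_of_invol hinvA hb ha.2).eq]
      have hp : IsPGroup 2 ↥(Q ⊔ (A ⊔ A.map c)) :=
        (Fitting.pCore_isPGroup 2).to_sup_of_normal_left
          ((hcit y (orderOf_two hy2 hy1)).to_le (sup_le hAC hAC'))
      have htop : Q ⊔ (A ⊔ A.map c) = ⊤ := by
        rw [eq_top_iff, ← generates hcit hQ T hJ hx, ← hAQT]
        refine sup_le (sup_le (le_sup_left.trans le_sup_right) le_sup_left) ?_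
        rw [Subgroup.map_sup]
        refine sup_le (le_sup_right.trans le_sup_right) (le_trans ?_ le_sup_left)
        rintro _ ⟨b, hb, rfl⟩
        exact (pCore_two_normal (H := H)).conj_mem b hb x
      rw [htop] at hp
      refine not_normal hcit hQ T hJ ?_
      rw [← T.3 hp le_top]
      infer_instance
    have hcard : Nat.card ↥(U₁ ⊓ A) * Nat.card ↥(U₁ ⊓ A) ≤ Nat.card U₁ := by
      have h1 := card_mul_card_le_subgroup (U₁ ⊓ A) ((U₁ ⊓ A).map c)
      rw [hdis, Subgroup.card_bot, mul_one, hcdef,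
        Subgroup.card_map_of_injective (MulEquiv.injective _)] at h1
      exact h1.trans (Subgroup.card_le_of_le (sup_le inf_le_left hcU))
    have hqpos : 0 < q := by rw [← hq]; exact Nat.card_pos
    refine (Subgroup.eq_of_le_of_card_ge hVU ?_).symm
    rw [hV]
    have e : Nat.card U₁ = q * Nat.card ↥(U₁ ⊓ A) :=
      Nat.eq_of_mul_eq_mul_right hqpos (hc.trans (by ring))
    rw [e] at hcard ⊢
    exact Nat.mul_le_mul_left _ (Nat.le_of_mul_le_mul_right hcard Nat.card_pos)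
  have huE : u ∈ E := omegaCenter_thompsonJ_le hEmaxT hu
  have huA : u ∈ A := omegaCenter_thompsonJ_le hA hu
  have huU₁ : u ∈ U₁ := ⟨le_sSup (α := Subgroup H) hEmax huE, hu.2.1,
    fun y hy => hu.2.2 y (hJle hy)⟩
  rw [hU₁V] at huU₁
  intro t ht
  have hle : (T : Subgroup H) ≤ Subgroup.centralizer ({u} : Set H) := by
    rw [← hAQT]
    exact sup_le (fun a ha => Subgroup.mem_centralizer_singleton_iff.mpr
      (commute_of_invol (fun b hb => invol_of_isAbExp hA.2.1 hb) ha huA).eq)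
      fun b hb => Subgroup.mem_centralizer_singleton_iff.mpr (huU₁.2.2 b hb).symm.eq
  exact (Subgroup.mem_centralizer_singleton_iff.mp (hle ht)).symm

variable (hexc : Exc (T : Subgroup H))
include hexc

theorem pCore_eq_omega : Cfsg.pCore 2 H = omegaCenter (Cfsg.pCore 2 H) := by
  set Q := Cfsg.pCore 2 H with hQdef
  have hQT := pCore_le_sylow T
  let K : Subgroup H :=
    { carrier := {g | ∀ x ∈ Q, g * x * g⁻¹ * x⁻¹ ∈ omegaCenter Q}
      one_mem' := fun x _ => by simp [one_mem]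
      mul_mem' := fun {g k} hg hk x hx => by
        rw [show g * k * x * (g * k)⁻¹ * x⁻¹
          = g * (k * x * k⁻¹ * x⁻¹) * g⁻¹ * (g * x * g⁻¹ * x⁻¹) by group]
        exact mul_mem (omegaCenter_pCore_normal.conj_mem _ (hk x hx) g) (hg x hx)
      inv_mem' := fun {g} hg x hx => by
        have hx' : g⁻¹ * x * g ∈ Q := by simpa using pCore_two_normal.conj_mem x hx g⁻¹
        have h := inv_mem (hg _ hx')
        rwa [show (g * (g⁻¹ * x * g) * g⁻¹ * (g⁻¹ * x * g)⁻¹)⁻¹ = g⁻¹ * x * g⁻¹⁻¹ * x⁻¹ by group]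
          at h }
  have hTK : (T : Subgroup H) ≤ K := fun t ht x hx =>
    ⟨mul_mem (pCore_two_normal.conj_mem x hx t) (inv_mem hx),
      (hexc t ht x (hQT hx)).2, fun y hy => (hexc t ht x (hQT hx)).1 y (hQT hy)⟩
  have hconj : ∀ g : H, (T : Subgroup H).map (MulAut.conj g).toMonoidHom ≤ K := by
    rintro g _ ⟨t, ht, rfl⟩ x hx
    show g * t * g⁻¹ * x * (g * t * g⁻¹)⁻¹ * x⁻¹ ∈ _
    have hx' : g⁻¹ * x * g ∈ Q := by simpa using pCore_two_normal.conj_mem x hx g⁻¹
    have h := omegaCenter_pCore_normal.conj_mem _ (hTK ht _ hx') g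
    rwa [show g * (t * (g⁻¹ * x * g) * t⁻¹ * (g⁻¹ * x * g)⁻¹) * g⁻¹
      = g * t * g⁻¹ * x * (g * t * g⁻¹)⁻¹ * x⁻¹ by group] at h
  obtain ⟨x₀, hx₀⟩ : ∃ x, x ∉ Subgroup.normalizer ((T : Subgroup H) : Set H) := by
    by_contra! hc
    exact normalizer_ne_top hcit hQ T hJ (eq_top_iff.mpr fun x _ => hc x)
  have hK : ∀ g : H, g ∈ K := fun g => by
    have : (⊤ : Subgroup H) ≤ K := generates hcit hQ T hJ hx₀ ▸ sup_le hTK (hconj x₀)
    exact this (Subgroup.mem_top g)
  obtain ⟨r, hro, hr1⟩ : ∃ r : H, Odd (orderOf r) ∧ r ≠ 1 := by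
    by_contra! hc
    refine not_normal hcit hQ T hJ ?_
    rw [← T.3 ((isPGroup_two_of_forall hc).to_subgroup ⊤) le_top]
    infer_instance
  refine le_antisymm (fun x hx => ?_) (omegaCenter_le Q)
  let V := omegaCenter Q
  have hVn : V.Normal := omegaCenter_pCore_normal
  let f : V → V := fun v =>
    ⟨r * v * r⁻¹ * (v : H)⁻¹, mul_mem (hVn.conj_mem _ v.2 r) (inv_mem v.2)⟩
  have hf : Function.Injective f := by
    intro v w e
    have e' : r * v * r⁻¹ * (v : H)⁻¹ = r * w * r⁻¹ * (w : H)⁻¹ := congrArg Subtype.val e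
    by_contra hne
    have hc : Commute r ((w : H)⁻¹ * v) := by
      refine mul_inv_eq_iff_eq_mul.mp ?_
      calc r * ((w : H)⁻¹ * v) * r⁻¹
          = (r * w * r⁻¹)⁻¹ * (r * v * r⁻¹ * (v : H)⁻¹) * v := by group
        _ = (r * w * r⁻¹)⁻¹ * (r * w * r⁻¹ * (w : H)⁻¹) * v := by rw [e']
        _ = (w : H)⁻¹ * v := by group
    have hm : (w : H)⁻¹ * v ∈ V := mul_mem (inv_mem w.2) v.2
    exact hr1 (hcit.eq_one hm.2.1
      (fun h1 => hne (Subtype.ext (inv_mul_eq_one.mp h1).symm)) hc hro)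
  obtain ⟨v, hv⟩ := Finite.surjective_of_injective hf ⟨_, hK r x hx⟩
  have hv' : r * v * r⁻¹ * (v : H)⁻¹ = r * x * r⁻¹ * x⁻¹ := congrArg Subtype.val hv
  have hc : Commute r ((v : H)⁻¹ * x) := by
    refine mul_inv_eq_iff_eq_mul.mp ?_
    calc r * ((v : H)⁻¹ * x) * r⁻¹
        = (r * v * r⁻¹)⁻¹ * (r * x * r⁻¹ * x⁻¹) * x := by group
      _ = (r * v * r⁻¹)⁻¹ * (r * v * r⁻¹ * (v : H)⁻¹) * x := by rw [hv']
      _ = (v : H)⁻¹ * x := by group
  have hmem : (v : H)⁻¹ * x ∈ Q := mul_mem (inv_mem v.2.1) hx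
  by_cases h1 : (v : H)⁻¹ * x = 1
  · rw [← inv_mul_eq_one.mp h1]; exact v.2
  · refine absurd (hcit.eq_one_of_centralizes ((Fitting.pCore_isPGroup 2).to_le
      (Subgroup.zpowers_le.mpr hmem)) ?_ hro fun y hy => ?_) hr1
    · rwa [Ne, Subgroup.zpowers_eq_bot]
    · obtain ⟨i, rfl⟩ := hy
      exact hc.zpow_right i

/-- The exceptional configuration. -/
theorem exceptional : ∃ (V A Z : Subgroup H) (q : ℕ),
    Expl (T : Subgroup H) V A Z q ∧ V.Normal ∧ V = Cfsg.pCore 2 H ∧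
    Subgroup.centralizer (V : Set H) = V ∧
    Nat.card H = q * q * (q * ((q - 1) * (q + 1))) ∧
    Nat.card (Subgroup.normalizer ((T : Subgroup H) : Set H)) = q * q * q * (q - 1) ∧
    (∀ u ∈ V, u ≠ 1 → ∀ v ∈ V, v ≠ 1 → ∃ g, g * u * g⁻¹ = v) ∧
    (∀ D : Subgroup H, D ≤ Subgroup.normalizer ((T : Subgroup H) : Set H) →
      Odd (Nat.card D) → Nat.card D = q - 1 →
      ∃ w, (∀ d ∈ D, w * d * w⁻¹ * d ∈ V) ∧ ∀ z ∈ Z, w * z * w⁻¹ ∈ Z → z = 1) ∧
    (2 < q → ∀ D : Subgroup H, Odd (Nat.card D) → Nat.card D ≠ q * q - 1) ∧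
    ∀ x, x ∉ Subgroup.normalizer ((T : Subgroup H) : Set H) →
      A ⊔ A.map (MulAut.conj x).toMonoidHom = ⊤ := by
  classical
  have hH := modRep_hyp hcit hQ T hJ
  have hB := quad_sylowBar hcit hQ T hJ
  obtain ⟨A, q, hA, hAQ, hq, hV, hVA, hE, hAQT⟩ := main_data hcit hQ T hJ
  have hQV := pCore_eq_omega hcit hQ T hJ hexc
  set Q := Cfsg.pCore 2 H with hQdef
  set V := omegaCenter Q with hVdef
  set π := QuotientGroup.mk' Q with hπ
  set B := (sylowBar T : Subgroup (H ⧸ Q)) with hBdef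
  have hcQ : Nat.card Q = q * q := (Nat.card_congr (Equiv.setCongr (by rw [← hQV]))).trans hV
  have hq1 : 1 < q := hq ▸ hB.one_lt_card hH
  have hinvA : ∀ a ∈ A, a * a = 1 := fun a ha => invol_of_isAbExp hA.2.1 ha
  have hcA : Nat.card A = q * q := by
    rw [← hE, ← hV, sup_eq_left.mpr (inf_le_right.trans hQV.le)]
  have hmemB : ∀ t ∈ (T : Subgroup H), (t : H ⧸ Q) ∈ B := fun t ht => by
    rw [hBdef, coe_sylowBar]; exact ⟨t, ht, rfl⟩
  have hcT : Nat.card (T : Subgroup H) = q * q * q := by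
    have hQT : Q ≤ (T : Subgroup H) := pCore_le_sylow T
    have h1 := (π.comp (T : Subgroup H).subtype).ker.card_mul_index
    rw [Subgroup.index_ker, MonoidHom.range_comp, Subgroup.range_subtype, ← coe_sylowBar,
      ← hBdef, hq] at h1
    rw [← h1, show (π.comp (T : Subgroup H).subtype).ker = Q.subgroupOf (T : Subgroup H) by
      rw [← MonoidHom.comap_ker, hπ, QuotientGroup.ker_mk']; rfl,
      Nat.card_congr (Subgroup.subgroupOfEquivOfLe hQT).toEquiv, hcQ]
  have hfixB : ∀ v : V, Additive.ofMul v ∈ fixSub (modRep (H := H)) B → (v : H) ∈ A := by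
    let f : ↥(V ⊓ A) → fixSub (modRep (H := H)) B := fun z =>
      ⟨Additive.ofMul (⟨(z : H), z.2.1⟩ : V), fun b hb => by
        rw [hBdef, coe_sylowBar] at hb
        obtain ⟨t, ht, rfl⟩ := hb
        refine (modRep_eq_self_iff t _).mpr ?_
        have hle : (T : Subgroup H) ≤ Subgroup.centralizer ({(z : H)} : Set H) := by
          rw [← hAQT]
          exact sup_le (fun a ha => Subgroup.mem_centralizer_singleton_iff.mpr
            (commute_of_invol hinvA ha z.2.2).eq)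
            fun b hb => Subgroup.mem_centralizer_singleton_iff.mpr (z.2.1.2.2 b hb).symm.eq
        exact Subgroup.mem_centralizer_singleton_iff.mp (hle ht)⟩
    have hf : Function.Injective f := fun z w e => Subtype.ext (congrArg (fun x : V => (x : H))
      (Additive.ofMul.injective (congrArg Subtype.val e :)))
    intro v hv
    obtain ⟨z, hz⟩ := ((Nat.bijective_iff_injective_and_card f).mpr
      ⟨hf, by rw [hVA, hB.card_fix, hq]⟩).2 ⟨_, hv⟩
    have : (⟨(z : H), z.2.1⟩ : V) = v := Additive.ofMul.injective (congrArg Subtype.val hz :)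
    rw [← this]
    exact z.2.2
  have hcomm : ∀ v ∈ V, ∀ a ∈ A, Commute v a → v ∈ V ⊓ A ∨ a ∈ V ⊓ A := by
    intro v hv a ha hc
    by_cases haV : a ∈ V
    · exact Or.inr ⟨haV, ha⟩
    refine Or.inl ⟨hv, hfixB ⟨v, hv⟩ ?_⟩
    have hb1 : (a : H ⧸ Q) ≠ 1 := fun e => haV (hQV ▸ (QuotientGroup.eq_one_iff a).mp e)
    rw [← hB.fix_eq _ (hmemB a (hA.1 ha)) hb1]
    exact (modRep_eq_self_iff a ⟨v, hv⟩).mpr hc.symm
  have hVT : V ≤ (T : Subgroup H) := (omegaCenter_le Q).trans (pCore_le_sylow T)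
  have hdecomp : ∀ t ∈ (T : Subgroup H), ∃ v ∈ V, ∃ a ∈ A, v * a = t := by
    intro t ht
    rw [← hAQT, sup_comm] at ht
    obtain ⟨v, hv, a, ha, e⟩ := Subgroup.mem_sup_of_normal_left.mp ht
    exact ⟨v, hQV ▸ hv, a, ha, e⟩
  have hinvol : ∀ t ∈ (T : Subgroup H), t * t = 1 → t ∈ V ∨ t ∈ A := by
    intro t ht ht2
    obtain ⟨v, hv, a, ha, rfl⟩ := hdecomp t ht
    have hc : Commute v a := by
      show v * a = a * v
      rw [← inv_eq_self ht2, mul_inv_rev, inv_eq_self (hinvA a ha), inv_eq_self hv.2.1]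
    rcases hcomm v hv a ha hc with e | e
    · exact Or.inr (mul_mem e.2 ha)
    · exact Or.inl (mul_mem hv e.1)
  have hexpl : Expl (T : Subgroup H) V A (V ⊓ A) q :=
    { one_lt := hq1
      V_le := hVT
      A_le := hA.1
      card_T := hcT
      card_V := hV
      card_A := hcA
      card_Z := hVA
      inter := rfl
      central := fun z hz t ht => by
        obtain ⟨v, hv, a, ha, rfl⟩ := hdecomp t ht
        exact ((hz.1).2.2 v hv.1).mul_right (commute_of_invol hinvA hz.2 ha)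
      elem_V := fun v hv => hv.2.1
      elem_A := hinvA
      invol := hinvol
      comm := hcomm
      derived := fun x hx y hy => by
        obtain ⟨hc, hc2⟩ := hexc x hx y hy
        have hcT' : x * y * x⁻¹ * y⁻¹ ∈ (T : Subgroup H) :=
          mul_mem (mul_mem (mul_mem hx hy) (inv_mem hx)) (inv_mem hy)
        rcases hinvol _ hcT' hc2 with hcv | hca
        · obtain ⟨a, ha, haV⟩ : ∃ a ∈ A, a ∉ V := by
            by_contra! hc'
            exact hAQ fun a ha => hQV ▸ hc' a ha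
          exact (hcomm _ hcv a ha (hc a (hA.1 ha))).resolve_right fun e => haV e.1
        · obtain ⟨v, hv, hvA⟩ : ∃ v ∈ V, v ∉ A := by
            by_contra! hc'
            have hle := Subgroup.card_le_of_le (show V ≤ V ⊓ A from fun v hv => ⟨hv, hc' v hv⟩)
            rw [hV, hVA] at hle
            nlinarith
          exact (hcomm v hv _ hca (hc v (hVT hv)).symm).resolve_left fun e => hvA e.2 }
  have hcX := hB.card_group hH
  rw [hq] at hcX
  have hcH : Nat.card H = q * q * (q * ((q - 1) * (q + 1))) := by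
    rw [← Q.card_mul_index, hcQ, Subgroup.index_eq_card, hcX]
  have hN : Nat.card (Subgroup.normalizer ((T : Subgroup H) : Set H)) = q * q * q * (q - 1) := by
    have h1 := (Subgroup.normalizer ((T : Subgroup H) : Set H)).card_mul_index
    rw [show (Subgroup.normalizer ((T : Subgroup H) : Set H)).index = q + 1 by
      rw [← comap_normalizer hcit hQ T hJ, Subgroup.index_comap_of_surjective _
        (QuotientGroup.mk'_surjective _), ← hB.stab_eq_normalizer hH, hB.card_stab_index hH,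
        hq], hcH] at h1
    exact Nat.eq_of_mul_eq_mul_right (show 0 < q + 1 by omega) (h1.trans (by ring))
  have hCV : Subgroup.centralizer (V : Set H) = V := by
    rw [centralizer_omega_pCore hcit hQ]; exact hQV
  have htrans : ∀ u ∈ V, u ≠ 1 → ∀ v ∈ V, v ≠ 1 → ∃ g, g * u * g⁻¹ = v := by
    intro u hu hu1 v hv hv1
    obtain ⟨x, hx⟩ := hB.transitive hH (u := Additive.ofMul (⟨u, hu⟩ : V))
      (v := Additive.ofMul (⟨v, hv⟩ : V)) (fun e => hu1 (congrArg (fun z : V => (z : H))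
        (Additive.ofMul.injective (e.trans ofMul_one.symm))))
      (fun e => hv1 (congrArg (fun z : V => (z : H))
        (Additive.ofMul.injective (e.trans ofMul_one.symm))))
    obtain ⟨g, rfl⟩ := QuotientGroup.mk_surjective x
    exact ⟨g, (modRep_apply g _).symm.trans (congrArg (fun z : Mod H =>
      ((Additive.toMul z : V) : H)) hx)⟩
  have hodd_inj : ∀ D : Subgroup H, Odd (Nat.card D) → Nat.card (D.map π) = Nat.card D := by
    intro D hD
    refine Transfer.card_map_of_injOn π fun x hx y hy e => ?_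
    have h1 : x⁻¹ * y ∈ Q := QuotientGroup.eq.mp e
    exact inv_mul_eq_one.mp (eq_one_of_odd_mem (Fitting.pCore_isPGroup 2) h1
      (hD.of_dvd_nat (D.orderOf_dvd_natCard (mul_mem (inv_mem hx) hy))))
  refine ⟨V, A, V ⊓ A, q, hexpl, omegaCenter_pCore_normal, hQV.symm, hCV, hcH, hN, htrans,
    fun D hDN hDo hDc => ?_, fun hq2 D hDo hDc => ?_, fun x hx => ?_⟩
  · have hDle : D.map π ≤ stab (modRep (H := H)) B := by
      rw [hB.stab_eq_normalizer hH]
      rintro _ ⟨d, hd, rfl⟩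
      have := hDN hd
      rwa [← comap_normalizer hcit hQ T hJ, Subgroup.mem_comap] at this
    obtain ⟨w₀, hw, hwW⟩ := hB.exists_inverting hH hDle (hodd_inj D hDo ▸ hDo)
      (by rw [hodd_inj D hDo, hDc, hq])
    obtain ⟨w, rfl⟩ := QuotientGroup.mk_surjective w₀
    refine ⟨w, fun d hd => ?_, fun z hz hwz => ?_⟩
    · have e := hw _ ⟨d, hd, rfl⟩
      rw [← hQV, ← QuotientGroup.eq_one_iff, QuotientGroup.mk_mul, QuotientGroup.mk_mul,
        QuotientGroup.mk_mul, QuotientGroup.mk_inv]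
      rw [hπ, QuotientGroup.mk'_apply] at e
      rw [e, inv_mul_cancel]
    · have hmem : ∀ y : V, (y : H) ∈ A → Additive.ofMul y ∈ fixSub (modRep (H := H)) B := by
        intro y hy b hb
        rw [hBdef, coe_sylowBar] at hb
        obtain ⟨t, ht, rfl⟩ := hb
        exact (modRep_eq_self_iff t y).mpr (hexpl.central y ⟨y.2, hy⟩ t ht).symm
      have hwz' : modRep (w : H ⧸ Q) (Additive.ofMul (⟨z, hz.1⟩ : V))
          ∈ fixSub (modRep (H := H)) B := by
        have := hmem ⟨w * z * w⁻¹, omegaCenter_pCore_normal.conj_mem z hz.1 w⟩ hwz.2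
        exact this
      have h0 := hwW _ (hmem ⟨z, hz.1⟩ hz.2) hwz'
      exact congrArg (fun y : V => (y : H)) (Additive.ofMul.injective (h0.trans ofMul_one.symm))
  · exact hB.no_odd_card hH (by rw [hq]; exact hq2) (D.map π) (hodd_inj D hDo ▸ hDo)
      (by rw [hodd_inj D hDo, hDc, hq])
  · set R := A ⊔ A.map (MulAut.conj x).toMonoidHom with hR
    have hRQ : Q ⊔ R = ⊤ := by
      rw [eq_top_iff, ← generates hcit hQ T hJ hx, ← hAQT]
      refine sup_le (sup_le (le_sup_left.trans le_sup_right) le_sup_left) ?_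
      rw [Subgroup.map_sup]
      refine sup_le (le_sup_right.trans le_sup_right) (le_trans ?_ le_sup_left)
      rintro _ ⟨b, hb, rfl⟩
      exact (pCore_two_normal (H := H)).conj_mem b hb x
    have hdec : ∀ g : H, ∃ v ∈ Q, ∃ r ∈ R, v * r = g := fun g =>
      Subgroup.mem_sup_of_normal_left.mp (hRQ.symm ▸ Subgroup.mem_top g)
    obtain ⟨z, hz, hz1⟩ : ∃ z ∈ V ⊓ A, z ≠ 1 := by
      by_contra! hc
      have hle := Subgroup.card_le_of_le (show V ⊓ A ≤ ⊥ from fun z hz =>
        Subgroup.mem_bot.mpr (hc z hz))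
      rw [hVA, Subgroup.card_bot] at hle
      omega
    have hVR : V ≤ R := by
      intro v hv
      by_cases hv1 : v = 1
      · rw [hv1]; exact one_mem R
      obtain ⟨g, hg⟩ := htrans z hz.1 hz1 v hv hv1
      obtain ⟨u, hu, r, hr, rfl⟩ := hdec g
      have hzR : z ∈ R := Subgroup.mem_sup_left hz.2
      have hy : r * z * r⁻¹ ∈ R := mul_mem (mul_mem hr hzR) (inv_mem hr)
      have hyV : r * z * r⁻¹ ∈ V := omegaCenter_pCore_normal.conj_mem z hz.1 r
      rw [← hg, show u * r * z * (u * r)⁻¹ = u * (r * z * r⁻¹) * u⁻¹ by group,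
        ← (hyV.2.2 u hu).eq, mul_inv_cancel_right]
      exact hy
    rw [← hRQ]
    exact (sup_eq_right.mpr (hQV ▸ hVR : Q ≤ R)).symm

end Main

end CfsgLib.CIT
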