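import Mathlib
import Cfsg.Agent.Lib.CIT.Local
import Cfsg.Agent.Lib.PSolvable.Core
import Cfsg.Agent.S0012
import Cfsg.Agent.S2808

/-!
The local structure inside the ambient group, and pushing up: outside the exceptional case a
non-trivial characteristic subgroup of the Sylow subgroup is normal in every such local subgroup.
-/

set_option autoImplicit false
set_option linter.unusedSectionVars false
set_option linter.style.haveILetI false

namespace CfsgLib.CIT

open CfsgLib.Transfer (thompsonJ)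
open scoped commutatorElement

universe u

variable {G : Type u} [Group G] [Finite G]

theorem map_conj_mem {A : Subgroup G} {x y : G} :
    y ∈ A.map (MulAut.conj x).toMonoidHom ↔ x⁻¹ * y * x ∈ A := by
  constructor
  · rintro ⟨a, ha, rfl⟩
    show x⁻¹ * (x * a * x⁻¹) * x ∈ A
    rwa [show x⁻¹ * (x * a * x⁻¹) * x = a by group]
  · intro h
    exact ⟨_, h, show x * (x⁻¹ * y * x) * x⁻¹ = y by group⟩

/-- A subgroup with Sylow `2`-subgroup `T` and non-trivial `2`-core, not normalising `J(T)`. -/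
structure LocalCtx (L T : Subgroup G) : Prop where
  le : T ≤ L
  isP : IsPGroup 2 T
  max : ∀ P : Subgroup G, P ≤ L → IsPGroup 2 P → T ≤ P → P = T
  core : ∃ N : Subgroup G, N ≠ ⊥ ∧ IsPGroup 2 N ∧ N ≤ L ∧ L ≤ Subgroup.normalizer (N : Set G)
  notJ : ¬ L ≤ Subgroup.normalizer (thompsonJ 2 T : Set G)

/-- The structure of an exceptional local subgroup. -/
structure LocalData (L T V A Z : Subgroup G) (q : ℕ) : Prop where
  expl : Expl T V A Z q
  le : T ≤ L
  norm : L ≤ Subgroup.normalizer (V : Set G)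
  largest : ∀ N : Subgroup G, N ≤ L → IsPGroup 2 N → L ≤ Subgroup.normalizer (N : Set G) → N ≤ V
  cent : ∀ g ∈ L, (∀ v ∈ V, Commute g v) → g ∈ V
  card_L : Nat.card L = q * q * (q * ((q - 1) * (q + 1)))
  card_N : Nat.card ↥(L ⊓ Subgroup.normalizer (T : Set G)) = q * q * q * (q - 1)
  trans : ∀ u ∈ V, u ≠ 1 → ∀ v ∈ V, v ≠ 1 → ∃ g ∈ L, g * u * g⁻¹ = v
  inverting : ∀ D : Subgroup G, D ≤ L → D ≤ Subgroup.normalizer (T : Set G) →
    Odd (Nat.card D) → Nat.card D = q - 1 →
      ∃ w ∈ L, (∀ d ∈ D, w * d * w⁻¹ * d ∈ V) ∧ ∀ z ∈ Z, w * z * w⁻¹ ∈ Z → z = 1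
  no_odd : 2 < q → ∀ D : Subgroup G, D ≤ L → Odd (Nat.card D) → Nat.card D ≠ q * q - 1
  gen : ∀ x ∈ L, x ∉ Subgroup.normalizer (T : Set G) → A ⊔ A.map (MulAut.conj x).toMonoidHom = L

namespace LocalCtx

variable {L T : Subgroup G} (c : LocalCtx L T)
include c

/-- The Sylow subgroup of the local subgroup. -/
def sylow : Sylow 2 L where
  toSubgroup := T.subgroupOf L
  isPGroup' := c.isP.of_equiv (Subgroup.subgroupOfEquivOfLe c.le).symm
  is_maximal' := fun {Q} hQ hle => by
    have h1 : T ≤ Q.map L.subtype := fun t ht => ⟨⟨t, c.le ht⟩, hle ht, rfl⟩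
    have h2 := c.max _ (Subgroup.map_subtype_le Q) (hQ.map _) h1
    ext x
    rw [Subgroup.mem_subgroupOf, ← h2]
    exact ⟨fun hx => ⟨x, hx, rfl⟩, fun ⟨y, hy, e⟩ => Subtype.ext e ▸ hy⟩

theorem coe_sylow : (c.sylow : Subgroup L) = T.subgroupOf L := rfl

theorem pCore_ne : Cfsg.pCore 2 L ≠ ⊥ := by
  obtain ⟨N, hN1, hN2, hNL, hNn⟩ := c.core
  have hn : (N.subgroupOf L).Normal := (Subgroup.normal_subgroupOf_iff_le_normalizer hNL).mpr hNn
  have hle := Fitting.le_pCore hn (hN2.of_equiv (Subgroup.subgroupOfEquivOfLe hNL).symm)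
  intro e
  rw [e, le_bot_iff, Subgroup.subgroupOf_eq_bot] at hle
  exact hN1 (disjoint_self.mp (hle.mono_right hNL))

theorem notJ' : ¬ (thompsonJ 2 (c.sylow : Subgroup L)).Normal := by
  intro hn
  refine c.notJ ?_
  have hmap : (thompsonJ 2 (c.sylow : Subgroup L)).map L.subtype = thompsonJ 2 T := by
    rw [Transfer.map_thompsonJ 2 L.subtype L.subtype_injective.injOn, coe_sylow,
      Subgroup.map_subgroupOf_eq_of_le c.le]
  have hle : thompsonJ 2 T ≤ L := (Transfer.thompsonJ_le 2 T).trans c.le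
  refine (Subgroup.normal_subgroupOf_iff_le_normalizer hle).mp ?_
  have : (thompsonJ 2 T).subgroupOf L = thompsonJ 2 (c.sylow : Subgroup L) := by
    rw [← hmap, Subgroup.subgroupOf, Subgroup.comap_map_eq_self_of_injective L.subtype_injective]
  rw [this]
  exact hn

variable (hcit : IsCIT G)
include hcit

theorem omega_central {u : G} (hu : u ∈ omegaCenter (thompsonJ 2 T)) :
    ∀ t ∈ T, Commute u t := by
  intro t ht
  have hmap : (thompsonJ 2 (c.sylow : Subgroup L)).map L.subtype = thompsonJ 2 T := by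
    rw [Transfer.map_thompsonJ 2 L.subtype L.subtype_injective.injOn, coe_sylow,
      Subgroup.map_subgroupOf_eq_of_le c.le]
  have huJ : u ∈ thompsonJ 2 T := omegaCenter_le _ hu
  rw [← hmap] at huJ
  obtain ⟨u', hu', rfl⟩ := huJ
  have hu'' : u' ∈ omegaCenter (thompsonJ 2 (c.sylow : Subgroup L)) := by
    refine ⟨hu', Subtype.ext hu.2.1, fun y hy => Subtype.ext ?_⟩
    exact (hu.2.2 y (hmap ▸ ⟨y, hy, rfl⟩)).eq
  have := omega_thompsonJ_central (hcit.subgroup L) c.pCore_ne c.sylow c.notJ' hu''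
    ⟨t, c.le ht⟩ ht
  exact congrArg Subtype.val this.eq

theorem exceptional (hexc : Exc T) :
    ∃ (V A Z : Subgroup G) (q : ℕ), LocalData L T V A Z q := by
  have hexc' : Exc (c.sylow : Subgroup L) := fun x hx y hy =>
    ⟨fun t ht => Subtype.ext ((hexc x hx y hy).1 t ht).eq, Subtype.ext (hexc x hx y hy).2⟩
  obtain ⟨V, A, Z, q, he, hVn, hVQ, hCV, hcL, hcN, htr, hinv, hno, hgen⟩ :=
    CIT.exceptional (hcit.subgroup L) c.pCore_ne c.sylow c.notJ' hexc'
  have he' := he.map L.subtype L.subtype_injective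
  rw [coe_sylow, Subgroup.map_subgroupOf_eq_of_le c.le] at he'
  haveI := hVn
  have hnorm : L ≤ Subgroup.normalizer (V.map L.subtype : Set G) := by
    refine (Subgroup.normal_subgroupOf_iff_le_normalizer (Subgroup.map_subtype_le V)).mp ?_
    rwa [Subgroup.subgroupOf, Subgroup.comap_map_eq_self_of_injective L.subtype_injective]
  have hNT : ∀ x : L, x ∈ Subgroup.normalizer ((c.sylow : Subgroup L) : Set L) ↔
      (x : G) ∈ Subgroup.normalizer (T : Set G) := by
    intro x
    rw [Subgroup.mem_normalizer_iff, Subgroup.mem_normalizer_iff, coe_sylow]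
    refine ⟨fun hx g => ⟨fun hg => (hx ⟨g, c.le hg⟩).mp hg, fun hg => ?_⟩, fun hx g => hx g⟩
    have hgL : g ∈ L := by
      have := mul_mem (mul_mem (inv_mem x.2) (c.le hg)) x.2
      rwa [show (x : G)⁻¹ * (x * g * (x : G)⁻¹) * x = g by group] at this
    exact (hx ⟨g, hgL⟩).mpr hg
  refine ⟨V.map L.subtype, A.map L.subtype, Z.map L.subtype, q, he', c.le, hnorm,
    fun N hNL hN hNn => ?_, fun g hg hgc => ?_, hcL, ?_, ?_, fun D hDL hDN hDo hDc => ?_,
    fun hq D hDL hDo => ?_, fun x hx hxN => ?_⟩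
  · have hn : (N.subgroupOf L).Normal :=
      (Subgroup.normal_subgroupOf_iff_le_normalizer hNL).mpr hNn
    have hle := Fitting.le_pCore hn (hN.of_equiv (Subgroup.subgroupOfEquivOfLe hNL).symm)
    rw [← Subgroup.map_subgroupOf_eq_of_le hNL, hVQ]
    exact Subgroup.map_mono hle
  · have : (⟨g, hg⟩ : L) ∈ Subgroup.centralizer (V : Set L) :=
      fun v hv => Subtype.ext (hgc v ⟨v, hv, rfl⟩).symm.eq
    rw [hCV] at this
    exact ⟨⟨g, hg⟩, this, rfl⟩
  · rw [← hcN]
    exact Nat.card_congr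
      { toFun := fun x => ⟨⟨x, x.2.1⟩, (hNT ⟨x, x.2.1⟩).mpr x.2.2⟩
        invFun := fun x => ⟨(x : L), (x : L).2, (hNT x).mp x.2⟩
        left_inv := fun _ => rfl
        right_inv := fun _ => rfl }
  · rintro _ ⟨u, hu, rfl⟩ hu1 _ ⟨v, hv, rfl⟩ hv1
    obtain ⟨g, hg⟩ := htr u hu (fun e => hu1 (by rw [e]; rfl)) v hv (fun e => hv1 (by rw [e]; rfl))
    exact ⟨g, g.2, congrArg Subtype.val hg⟩
  · obtain ⟨w, hw, hwZ⟩ := hinv (D.subgroupOf L) (fun d hd => (hNT d).mpr (hDN hd))
      (by rwa [Nat.card_congr (Subgroup.subgroupOfEquivOfLe hDL).toEquiv])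
      (by rwa [Nat.card_congr (Subgroup.subgroupOfEquivOfLe hDL).toEquiv])
    refine ⟨w, w.2, fun d hd => ⟨_, hw ⟨d, hDL hd⟩ hd, rfl⟩, ?_⟩
    rintro _ ⟨z, hz, rfl⟩ ⟨z', hz', e⟩
    have : w * z * w⁻¹ ∈ Z := by
      rwa [show w * z * w⁻¹ = z' from Subtype.ext e.symm]
    rw [hwZ z hz this]; rfl
  · have := hno hq (D.subgroupOf L)
      (by rwa [Nat.card_congr (Subgroup.subgroupOfEquivOfLe hDL).toEquiv])
    rwa [Nat.card_congr (Subgroup.subgroupOfEquivOfLe hDL).toEquiv] at this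
  · have h := hgen ⟨x, hx⟩ fun e => hxN ((hNT _).mp e)
    have h' := congrArg (Subgroup.map L.subtype) h
    rw [Subgroup.map_sup, Subgroup.map_map, ← MonoidHom.range_eq_map, Subgroup.range_subtype] at h'
    rw [← show (A.map L.subtype).map (MulAut.conj x).toMonoidHom =
      A.map (L.subtype.comp (MulAut.conj (⟨x, hx⟩ : L)).toMonoidHom) by
        rw [Subgroup.map_map]; rfl] at h'
    exact h'

end LocalCtx

/-- Pushing up. -/
theorem exists_pushing (hcit : IsCIT G) (T : Subgroup G) (hT : IsPGroup 2 T) (hne : ¬ Exc T) :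
    ∃ C : Subgroup G, C ≠ ⊥ ∧ C ≤ T ∧
      Subgroup.normalizer (T : Set G) ≤ Subgroup.normalizer (C : Set G) ∧
      ∀ L : Subgroup G, LocalCtx L T → L ≤ Subgroup.normalizer (C : Set G) := by
  classical
  haveI : Fact (Nat.Prime 2) := ⟨Nat.prime_two⟩
  obtain ⟨hfc, hfp⟩ := Cfsg.Agent.S0012.result 2 hT
  set S₀ : Subgroup T := ⁅frattini T, (⊤ : Subgroup T)⁆ ⊔
    (frattini ↥(frattini T)).map (frattini T).subtype with hS₀
  have hS₀ne : S₀ ≠ ⊥ := by
    intro e
    rw [hS₀, sup_eq_bot_iff] at e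
    refine hne fun x hx y hy => ?_
    set k : T := ⟨x, hx⟩ * ⟨y, hy⟩ * (⟨x, hx⟩ : T)⁻¹ * (⟨y, hy⟩ : T)⁻¹ with hk
    have hkm : k ∈ frattini T := hfc (by
      rw [hk, commutator_def]
      exact Subgroup.commutator_mem_commutator (Subgroup.mem_top _) (Subgroup.mem_top _))
    constructor
    · intro t ht
      have h1 : ⁅k, (⟨t, ht⟩ : T)⁆ = 1 :=
        Subgroup.mem_bot.mp (e.1 ▸ Subgroup.commutator_mem_commutator hkm (Subgroup.mem_top _))
      exact congrArg Subtype.val (commutatorElement_eq_one_iff_mul_comm.mp h1)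
    · have h2 := (Cfsg.Agent.S0012.result 2 (hT.to_subgroup (frattini T))).2 ⟨k, hkm⟩
      have h3 := e.2
      rw [Subgroup.map_eq_bot_iff_of_injective _ (frattini T).subtype_injective] at h3
      rw [h3, Subgroup.mem_bot, pow_two] at h2
      exact congrArg (fun z : frattini T => ((z : T) : G)) h2
  obtain ⟨S₁, S₂, h1, h2, h1c, h2c, h1Z, -, -, hgood⟩ :=
    Cfsg.Agent.S2808.result hT S₀ (by rw [if_pos rfl]) (Or.inr hS₀ne)
  refine ⟨S₂.map T.subtype, ?_, Subgroup.map_subtype_le _, ?_, fun L c => ?_⟩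
  · rwa [Ne, Subgroup.map_eq_bot_iff_of_injective _ T.subtype_injective]
  · exact PSolvable.le_normalizer_map_of_characteristic le_rfl S₂
  set τ : T →* L := Subgroup.inclusion c.le with hτ
  have hrange : τ.range = T.subgroupOf L := Subgroup.inclusion_range c.le
  have hcoe : (c.sylow : Subgroup L) = τ.range := hrange.symm
  have hcL := hcit.subgroup L
  have hcent : Subgroup.centralizer (Cfsg.pCore 2 L : Set L) ≤ Cfsg.pCore 2 L :=
    Fitting.le_pCore inferInstance
      (hcL.centralizer_isPGroup (Fitting.pCore_isPGroup 2) c.pCore_ne)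
  have hN := normalizer_ne_top hcL c.pCore_ne c.sylow c.notJ'
  have hgen : ∀ M : Subgroup L, (c.sylow : Subgroup L) ≤ M →
      M ≤ Subgroup.normalizer ((c.sylow : Subgroup L) : Set L) ∨ M = ⊤ := by
    intro M hM
    by_cases hle : M ≤ Subgroup.normalizer ((c.sylow : Subgroup L) : Set L)
    · exact Or.inl hle
    obtain ⟨x, hxM, hx⟩ := SetLike.not_le_iff_exists.mp hle
    refine Or.inr (eq_top_iff.mpr ?_)
    rw [← generates hcL c.pCore_ne c.sylow c.notJ' hx]
    refine sup_le hM ?_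
    rintro _ ⟨y, hy, rfl⟩
    exact mul_mem (mul_mem hxM (hM hy)) (inv_mem hxM)
  have hmax : ∃! M : Subgroup L, IsCoatom M ∧ τ.range ≤ M := by
    rw [← hcoe]
    refine ⟨Subgroup.normalizer ((c.sylow : Subgroup L) : Set L),
      ⟨⟨hN, fun M hM => ?_⟩, Subgroup.le_normalizer⟩, ?_⟩
    · rcases hgen M (Subgroup.le_normalizer.trans hM.le) with e | e
      · exact absurd e hM.not_ge
      · exact e
    · rintro M ⟨hM, hTM⟩
      rcases hgen M hTM with e | e
      · exact ((eq_or_lt_of_le e).resolve_right fun hlt => hN (hM.2 _ hlt))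
      · exact absurd e hM.1
  rcases hgood L τ (Subgroup.inclusion_injective c.le) ⟨c.sylow, hcoe⟩ hcent hmax
    (exists_psl_quotient hcL c.pCore_ne c.sylow c.notJ') with hn | hn
  · exfalso
    -- the central one cannot be normal
    set C₁ := S₁.map τ with hC₁
    have hC₁ne : C₁ ≠ ⊥ := by
      rwa [hC₁, Ne, Subgroup.map_eq_bot_iff_of_injective _ (Subgroup.inclusion_injective c.le)]
    have hp : IsPGroup 2 C₁ := (hT.to_subgroup S₁).map τ
    haveI := hn
    have hcp := hcL.centralizer_isPGroup hp hC₁ne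
    have hle : (c.sylow : Subgroup L) ≤ Subgroup.centralizer (C₁ : Set L) := by
      rw [hcoe]
      rintro _ ⟨t, rfl⟩ _ ⟨s, hs, rfl⟩
      rw [← map_mul, ← map_mul, ((Subgroup.mem_center_iff.mp (h1Z hs)) t)]
    refine not_normal hcL c.pCore_ne c.sylow c.notJ' ?_
    rw [← c.sylow.3 hcp hle]
    infer_instance
  · have e : (S₂.map τ).map L.subtype = S₂.map T.subtype := by
      rw [Subgroup.map_map]; rfl
    rw [← e]
    refine (Subgroup.normal_subgroupOf_iff_le_normalizer (Subgroup.map_subtype_le _)).mp ?_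
    rwa [Subgroup.subgroupOf, Subgroup.comap_map_eq_self_of_injective L.subtype_injective]

end CfsgLib.CIT
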