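import Mathlib
import Cfsg.Agent.Lib.CIT.Push

/-!
The three global configurations of a simple group in which involution centralisers are `2`-groups.
-/

set_option autoImplicit false
set_option linter.unusedSectionVars false
set_option linter.style.haveILetI false

namespace CfsgLib.CIT

open CfsgLib.Transfer (thompsonJ)

universe u

variable {G : Type u} [Group G] [Finite G]

theorem normalizer_ne_top_of_ne_bot [IsSimpleGroup G] (hnc : ∃ a b : G, a * b ≠ b * a)
    {N : Subgroup G} (hN : IsPGroup 2 N) (h1 : N ≠ ⊥) :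
    Subgroup.normalizer (N : Set G) ≠ ⊤ := by
  haveI : Fact (Nat.Prime 2) := ⟨Nat.prime_two⟩
  intro e
  haveI : N.Normal := Subgroup.normalizer_eq_top_iff.mp e
  rcases (‹N.Normal›).eq_bot_or_eq_top with h | h
  · exact h1 h
  have hG : IsPGroup 2 G := (h ▸ hN).of_equiv Subgroup.topEquiv
  haveI : Nontrivial G := IsSimpleGroup.toNontrivial
  have hZ := hG.center_nontrivial
  rcases (inferInstance : (Subgroup.center G).Normal).eq_bot_or_eq_top with h' | h'
  · exact not_subsingleton_iff_nontrivial.mpr hZ (h' ▸ inferInstance)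
  · obtain ⟨a, b, hab⟩ := hnc
    exact hab ((Subgroup.mem_center_iff.mp (h' ▸ Subgroup.mem_top b)) a)

/-- A subgroup with non-trivial normal `2`-subgroup. -/
def HasCore (L : Subgroup G) : Prop :=
  ∃ N : Subgroup G, N ≠ ⊥ ∧ IsPGroup 2 N ∧ N ≤ L ∧ L ≤ Subgroup.normalizer (N : Set G)

theorem hasCore_normalizer {N : Subgroup G} (hN : IsPGroup 2 N) (h1 : N ≠ ⊥) :
    HasCore (Subgroup.normalizer (N : Set G)) :=
  ⟨N, h1, hN, Subgroup.le_normalizer, le_rfl⟩

theorem Expl.sq_eq_of_card {T V A Z V' A' Z' : Subgroup G} {q q' : ℕ} (h : Expl T V A Z q)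
    (h' : Expl T V' A' Z' q') : q' = q := by
  have e : q * q * q = q' * q' * q' := h.card_T.symm.trans h'.card_T
  exact (Nat.pow_left_injective (show 3 ≠ 0 by norm_num)
    (show q' ^ 3 = q ^ 3 by simp only [pow_succ, pow_zero, one_mul]; exact e.symm))

theorem Expl.unique {T V A Z V' A' Z' : Subgroup G} {q q' : ℕ} (h : Expl T V A Z q)
    (h' : Expl T V' A' Z' q') :
    q' = q ∧ Z' = Z ∧ (V' = V ∧ A' = A ∨ V' = A ∧ A' = V) := by
  obtain rfl := h.sq_eq_of_card h'
  have hV := h.eq_or_eq h'.V_le h'.elem_V h'.card_V.ge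
  have hA := h.eq_or_eq h'.A_le h'.elem_A h'.card_A.ge
  rcases hV with rfl | rfl <;> rcases hA with rfl | rfl
  · exact absurd rfl h'.ne
  · exact ⟨rfl, h'.inter.symm.trans h.inter, Or.inl ⟨rfl, rfl⟩⟩
  · exact ⟨rfl, h'.inter.symm.trans ((inf_comm _ _).trans h.inter), Or.inr ⟨rfl, rfl⟩⟩
  · exact absurd rfl h'.ne

theorem localCtx_sylow (S : Sylow 2 G) {L : Subgroup G} (hSL : (S : Subgroup G) ≤ L)
    (hc : HasCore L) (hJ : ¬ L ≤ Subgroup.normalizer (thompsonJ 2 (S : Subgroup G) : Set G)) :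
    LocalCtx L (S : Subgroup G) :=
  ⟨hSL, S.2, fun _ _ hP hle => S.3 hP hle, hc, hJ⟩

/-- The normaliser of the normal subgroup of a local structure has the same structure. -/
theorem LocalData.extend (hcit : IsCIT G) {L T V A Z : Subgroup G} {q : ℕ}
    (d : LocalData L T V A Z q) (hexc : Exc T) (c : LocalCtx L T)
    (hmax : ∀ P : Subgroup G, P ≤ Subgroup.normalizer (V : Set G) → IsPGroup 2 P → T ≤ P → P = T) :
    LocalData (Subgroup.normalizer (V : Set G)) T V A Z q := by
  have hV1 : V ≠ ⊥ := fun e => by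
    have h := d.expl.card_V
    rw [e, Subgroup.card_bot] at h
    nlinarith [d.expl.one_lt]
  have c' : LocalCtx (Subgroup.normalizer (V : Set G)) T :=
    ⟨d.expl.T_le_normalizer_V, c.isP, hmax,
      hasCore_normalizer (isPGroup_of_invol d.expl.elem_V) hV1, fun h => c.notJ (d.norm.trans h)⟩
  obtain ⟨V', A', Z', q', d'⟩ := c'.exceptional hcit hexc
  have hle : V ≤ V' := d'.largest V Subgroup.le_normalizer (isPGroup_of_invol d.expl.elem_V) le_rfl
  obtain ⟨rfl, rfl, ⟨rfl, rfl⟩ | ⟨rfl, rfl⟩⟩ := d.expl.unique d'.expl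
  · exact d'
  · exfalso
    have h := Subgroup.eq_of_le_of_card_ge hle (by rw [d.expl.card_V, d.expl.card_A])
    exact d.expl.ne h

/-- The three configurations. -/
theorem configurations [IsSimpleGroup G] (hnc : ∃ a b : G, a * b ≠ b * a) (hcit : IsCIT G)
    (S : Sylow 2 G) (hS : (S : Subgroup G) ≠ ⊥) :
    (∃ M : Subgroup G, M ≠ ⊤ ∧ HasCore M ∧
      Subgroup.normalizer ((S : Subgroup G) : Set G) ≤ M ∧
      ∀ A : Subgroup G, A ≤ (S : Subgroup G) → A ≠ ⊥ → Subgroup.normalizer (A : Set G) ≤ M) ∨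
    (∃ (V A Z : Subgroup G) (q : ℕ),
      LocalData (Subgroup.normalizer (V : Set G)) (S : Subgroup G) V A Z q ∧
      LocalData (Subgroup.normalizer (A : Set G)) (S : Subgroup G) A V Z q ∧
      Subgroup.normalizer ((S : Subgroup G) : Set G) ≤ Subgroup.normalizer (V : Set G)) ∨
    (∃ (T V A Z : Subgroup G) (q : ℕ),
      LocalData (Subgroup.normalizer (V : Set G)) T V A Z q ∧ T < (S : Subgroup G) ∧
      (S : Subgroup G) ⊓ Subgroup.normalizer (V : Set G) = T) := by
  classical
  haveI : Fact (Nat.Prime 2) := ⟨Nat.prime_two⟩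
  haveI := Fintype.ofFinite (Subgroup G)
  have hSp : IsPGroup 2 (S : Subgroup G) := S.2
  by_cases hU : ∃ M : Subgroup G, M ≠ ⊤ ∧ HasCore M ∧
      Subgroup.normalizer ((S : Subgroup G) : Set G) ≤ M ∧
      ∀ L : Subgroup G, L ≠ ⊤ → HasCore L → (S : Subgroup G) ≤ L → L ≤ M
  · obtain ⟨M, hM, hMc, hNM, hU⟩ := hU
    by_cases hall : ∀ A : Subgroup G, A ≤ (S : Subgroup G) → A ≠ ⊥ →
        Subgroup.normalizer (A : Set G) ≤ M
    · exact Or.inl ⟨M, hM, hMc, hNM, hall⟩
    refine Or.inr (Or.inr ?_)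
    have hSM : (S : Subgroup G) ≤ M := Subgroup.le_normalizer.trans hNM
    let good : Subgroup G → Prop := fun A =>
      A ≤ (S : Subgroup G) ∧ A ≠ ⊥ ∧ ¬ Subgroup.normalizer (A : Set G) ≤ M
    obtain ⟨A₀, hA₀, hbest⟩ := Finset.exists_max_image (Finset.univ.filter good)
      (fun A : Subgroup G => Nat.card ↥((S : Subgroup G) ⊓ Subgroup.normalizer (A : Set G)))
      (by
        push Not at hall
        obtain ⟨A, h1, h2, h3⟩ := hall
        exact ⟨A, Finset.mem_filter.mpr ⟨Finset.mem_univ _, h1, h2, h3⟩⟩)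
    obtain ⟨hA₀S, hA₀1, hA₀M⟩ := (Finset.mem_filter.mp hA₀).2
    set T := (S : Subgroup G) ⊓ Subgroup.normalizer (A₀ : Set G) with hT
    have hA₀T : A₀ ≤ T := le_inf hA₀S Subgroup.le_normalizer
    have hT1 : T ≠ ⊥ := fun e => hA₀1 (le_bot_iff.mp (hA₀T.trans e.le))
    have hTp : IsPGroup 2 T := hSp.to_le inf_le_left
    have hA₀p : IsPGroup 2 A₀ := hSp.to_le hA₀S
    have hTS : T < (S : Subgroup G) := by
      refine lt_of_le_of_ne inf_le_left fun e => hA₀M ?_
      refine hU _ (normalizer_ne_top_of_ne_bot hnc hA₀p hA₀1) (hasCore_normalizer hA₀p hA₀1) ?_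
      exact e.ge.trans inf_le_right
    -- characteristic subgroups of `T` have their normalisers in `M`
    have hgrow : Nat.card T < Nat.card ↥((S : Subgroup G) ⊓ Subgroup.normalizer (T : Set G)) := by
      refine Nat.lt_of_le_of_ne (Subgroup.card_le_of_le (le_inf inf_le_left Subgroup.le_normalizer))
        fun e => ?_
      have heq := Subgroup.eq_of_le_of_card_ge
        (le_inf inf_le_left Subgroup.le_normalizer : T ≤ (S : Subgroup G) ⊓ _) e.ge
      haveI : Group.IsNilpotent (S : Subgroup G) := hSp.isNilpotent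
      have hnc' : T.subgroupOf (S : Subgroup G) < ⊤ := by
        refine lt_top_iff_ne_top.mpr fun e' => hTS.not_ge ?_
        exact Subgroup.subgroupOf_eq_top.mp e'
      have hlt := Group.normalizerCondition_of_isNilpotent _ hnc'
      refine hlt.ne ?_
      ext x
      rw [Subgroup.mem_normalizer_iff]
      refine ⟨fun hx g => ?_, fun hx => ?_⟩
      · exact ⟨fun hg => mul_mem (mul_mem hx hg) (inv_mem hx), fun hg => by
          have := mul_mem (mul_mem (inv_mem hx) hg) hx
          rwa [show x⁻¹ * (x * g * x⁻¹) * x = g by group] at this⟩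
      · have hxm : (x : G) ∈ (S : Subgroup G) ⊓ Subgroup.normalizer (T : Set G) := by
          refine ⟨x.2, Subgroup.mem_normalizer_iff.mpr fun g => ⟨fun hg => ?_, fun hg => ?_⟩⟩
          · exact (hx ⟨g, inf_le_left (b := Subgroup.normalizer (A₀ : Set G)) hg⟩).mp hg
          · have hgS : g ∈ (S : Subgroup G) := by
              have := mul_mem (mul_mem (inv_mem x.2) (hTS.le hg)) x.2
              rwa [show (x : G)⁻¹ * ((x : G) * g * (x : G)⁻¹) * x = g by group] at this
            exact (hx ⟨g, hgS⟩).mpr hg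
        rw [← heq] at hxm
        exact hxm
    have hchar : ∀ C : Subgroup G, C ≤ T → C ≠ ⊥ →
        Subgroup.normalizer (T : Set G) ≤ Subgroup.normalizer (C : Set G) →
        Subgroup.normalizer (C : Set G) ≤ M := by
      intro C hCT hC1 hN
      by_contra hCM
      have hle := hbest C (Finset.mem_filter.mpr ⟨Finset.mem_univ _, hCT.trans inf_le_left, hC1, hCM⟩)
      exact absurd (hle.trans_lt hgrow) (not_lt.mpr (Subgroup.card_le_of_le (inf_le_inf_left _ hN)))
    have hmax : ∀ (X : Subgroup G), A₀ ≤ X → X ≤ T → X ≠ ⊥ → ¬ Subgroup.normalizer (X : Set G) ≤ M →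
        ∀ P : Subgroup G, P ≤ Subgroup.normalizer (X : Set G) → IsPGroup 2 P → T ≤ P → P = T := by
      intro X _ hXT hX1 hXM P hPX hP hTP
      by_contra hne
      have hlt : T < P := lt_of_le_of_ne hTP (Ne.symm hne)
      set P₁ := P ⊓ Subgroup.normalizer (T : Set G) with hP₁
      have hTP₁ : T < P₁ := by
        refine lt_of_le_of_ne (le_inf hTP Subgroup.le_normalizer) fun e => ?_
        haveI : Group.IsNilpotent P := hP.isNilpotent
        have hnc' : T.subgroupOf P < ⊤ :=
          lt_top_iff_ne_top.mpr fun e' => hlt.not_ge (Subgroup.subgroupOf_eq_top.mp e')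
        have hl := Group.normalizerCondition_of_isNilpotent _ hnc'
        obtain ⟨x, hxN, hxT⟩ := SetLike.exists_of_lt hl
        refine hxT ?_
        have : (x : G) ∈ P₁ := by
          refine ⟨x.2, Subgroup.mem_normalizer_iff.mpr fun g => ⟨fun hg => ?_, fun hg => ?_⟩⟩
          · exact (Subgroup.mem_normalizer_iff.mp hxN ⟨g, hTP hg⟩).mp hg
          · have hgP : g ∈ P := by
              have := mul_mem (mul_mem (inv_mem x.2) (hTP hg)) x.2
              rwa [show (x : G)⁻¹ * ((x : G) * g * (x : G)⁻¹) * x = g by group] at this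
            exact (Subgroup.mem_normalizer_iff.mp hxN ⟨g, hgP⟩).mpr hg
        rw [← e] at this
        exact this
      have hP₁M : P₁ ≤ M := inf_le_right.trans (hchar T le_rfl hT1 le_rfl)
      obtain ⟨m, hm⟩ : ∃ m ∈ M, P₁.map (MulAut.conj m).toMonoidHom ≤ (S : Subgroup G) := by
        let SM : Sylow 2 M := S.subtype hSM
        obtain ⟨R, hR⟩ := ((hP.to_le (inf_le_left : P₁ ≤ P)).of_equiv
          (Subgroup.subgroupOfEquivOfLe hP₁M).symm : IsPGroup 2 (P₁.subgroupOf M)).exists_le_sylow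
        obtain ⟨m, hmR⟩ := MulAction.exists_smul_eq M R SM
        refine ⟨m, m.2, ?_⟩
        rintro _ ⟨y, hy, rfl⟩
        have hyR : (⟨y, hP₁M hy⟩ : M) ∈ (R : Subgroup M) := hR hy
        have : m * ⟨y, hP₁M hy⟩ * m⁻¹ ∈ (SM : Subgroup M) := by
          rw [← hmR, Sylow.coe_subgroup_smul]
          exact ⟨_, hyR, rfl⟩
        exact this
      obtain ⟨hmM, hmS⟩ := hm
      set X₁ := X.map (MulAut.conj m).toMonoidHom with hX₁
      have hX₁g : X₁ ≤ (S : Subgroup G) ∧ X₁ ≠ ⊥ ∧ ¬ Subgroup.normalizer (X₁ : Set G) ≤ M := by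
        refine ⟨(Subgroup.map_mono (hXT.trans hTP₁.le)).trans hmS, ?_, fun e => hXM ?_⟩
        · rwa [Ne, Subgroup.map_eq_bot_iff_of_injective _ (MulEquiv.injective _)]
        · intro g hg
          have : m * g * m⁻¹ ∈ Subgroup.normalizer (X₁ : Set G) :=
            (Subgroup.le_normalizer_map _) ⟨g, hg, rfl⟩
          have := mul_mem (mul_mem (inv_mem hmM) (e this)) hmM
          rwa [show m⁻¹ * (m * g * m⁻¹) * m = g by group] at this
      have hle := hbest X₁ (Finset.mem_filter.mpr ⟨Finset.mem_univ _, hX₁g⟩)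
      have hge : P₁.map (MulAut.conj m).toMonoidHom ≤
          (S : Subgroup G) ⊓ Subgroup.normalizer (X₁ : Set G) := by
        refine le_inf hmS (le_trans ?_ (Subgroup.le_normalizer_map _))
        exact Subgroup.map_mono (inf_le_left.trans hPX)
      have hcard : Nat.card P₁ ≤ Nat.card T := by
        rw [← Subgroup.card_map_of_injective (f := (MulAut.conj m).toMonoidHom)
          (MulEquiv.injective _)]
        exact (Subgroup.card_le_of_le hge).trans hle
      exact hTP₁.ne (Subgroup.eq_of_le_of_card_ge hTP₁.le hcard)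
    have hJ1 : thompsonJ 2 T ≠ ⊥ := Transfer.thompsonJ_ne_bot (dvd_refl 2) hTp hT1
    have c : LocalCtx (Subgroup.normalizer (A₀ : Set G)) T :=
      ⟨inf_le_right, hTp, hmax A₀ le_rfl hA₀T hA₀1 hA₀M, hasCore_normalizer hA₀p hA₀1,
        fun h => hA₀M (h.trans (hchar _ (Transfer.thompsonJ_le 2 T) hJ1
          (Transfer.normalizer_le_normalizer_thompsonJ 2 T)))⟩
    have hexc : Exc T := by
      by_contra hne
      obtain ⟨C, hC1, hCT, hCN, hC⟩ := exists_pushing hcit T hTp hne
      exact hA₀M ((hC _ c).trans (hchar C hCT hC1 hCN))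
    obtain ⟨V, A, Z, q, d⟩ := c.exceptional hcit hexc
    have hV1 : V ≠ ⊥ := fun e => by
      have h := d.expl.card_V
      rw [e, Subgroup.card_bot] at h
      nlinarith [d.expl.one_lt]
    have hVM : ¬ Subgroup.normalizer (V : Set G) ≤ M := fun h => hA₀M (d.norm.trans h)
    have hA₀V : A₀ ≤ V := d.largest A₀ Subgroup.le_normalizer hA₀p le_rfl
    refine ⟨T, V, A, Z, q,
      d.extend hcit hexc c (hmax V hA₀V d.expl.V_le hV1 hVM), hTS, ?_⟩
    exact hmax V hA₀V d.expl.V_le hV1 hVM _ inf_le_right (hSp.to_le inf_le_left)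
      (le_inf inf_le_left d.expl.T_le_normalizer_V)
  -- several maximal local subgroups contain the Sylow subgroup
  push Not at hU
  refine Or.inr (Or.inl ?_)
  have esc : ∀ C : Subgroup G, C ≠ ⊥ → IsPGroup 2 C →
      Subgroup.normalizer ((S : Subgroup G) : Set G) ≤ Subgroup.normalizer (C : Set G) →
      ∃ L, L ≠ ⊤ ∧ HasCore L ∧ (S : Subgroup G) ≤ L ∧ ¬ L ≤ Subgroup.normalizer (C : Set G) :=
    fun C h1 hp hN => hU _ (normalizer_ne_top_of_ne_bot hnc hp h1) (hasCore_normalizer hp h1) hN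
  set J := thompsonJ 2 (S : Subgroup G) with hJdef
  have hJ1 : J ≠ ⊥ := Transfer.thompsonJ_ne_bot (dvd_refl 2) hSp hS
  have hJp : IsPGroup 2 J := hSp.to_le (Transfer.thompsonJ_le 2 _)
  obtain ⟨L₁, -, hL₁c, hSL₁, hL₁⟩ := esc J hJ1 hJp (Transfer.normalizer_le_normalizer_thompsonJ 2 _)
  have c₁ := localCtx_sylow S hSL₁ hL₁c hL₁
  have hU1 : omegaCenter J ≠ ⊥ := omegaCenter_ne_bot hJp hJ1
  -- if the Thompson subgroup is normal, so is the Sylow subgroup
  have hnJ : ∀ L : Subgroup G, (S : Subgroup G) ≤ L → L ≤ Subgroup.normalizer (J : Set G) →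
      L ≤ Subgroup.normalizer ((S : Subgroup G) : Set G) := by
    intro L hSL hLJ
    set C := L ⊓ Subgroup.centralizer (omegaCenter J : Set G) with hC
    have hCp : IsPGroup 2 C :=
      (hcit.centralizer_isPGroup (hJp.to_le (omegaCenter_le J)) hU1).to_le inf_le_right
    have hSC : (S : Subgroup G) ≤ C :=
      le_inf hSL fun s hs u hu => (c₁.omega_central hcit hu s hs).eq
    rw [← S.3 hCp hSC]
    intro l hl
    refine Subgroup.mem_normalizer_iff.mpr ?_
    have key : ∀ g ∈ L, ∀ y ∈ C, g * y * g⁻¹ ∈ C := by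
      intro g hg y hy
      refine Subgroup.mem_inf.mpr ⟨mul_mem (mul_mem hg (Subgroup.mem_inf.mp hy).1) (inv_mem hg), fun u hu => ?_⟩
      have hu' : g⁻¹ * u * g ∈ omegaCenter J := by
        have := (Subgroup.mem_normalizer_iff.mp
          ((hLJ.trans (normalizer_le_normalizer_omegaCenter J)) (inv_mem hg)) u).mp hu
        rwa [inv_inv] at this
      calc u * (g * y * g⁻¹) = g * ((g⁻¹ * u * g) * y) * g⁻¹ := by group
        _ = g * (y * (g⁻¹ * u * g)) * g⁻¹ := by rw [(Subgroup.mem_inf.mp hy).2 _ hu']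
        _ = g * y * g⁻¹ * u := by group
    exact fun y => ⟨key l hl y, fun hy => by
      have := key l⁻¹ (inv_mem hl) _ hy
      rwa [inv_inv, show l⁻¹ * (l * y * l⁻¹) * l = y by group] at this⟩
  have hexc : Exc (S : Subgroup G) := by
    by_contra hne
    obtain ⟨C, hC1, hCS, hCN, hC⟩ := exists_pushing hcit (S : Subgroup G) hSp hne
    obtain ⟨L, -, hLc, hSL, hL⟩ := esc C hC1 (hSp.to_le hCS) hCN
    by_cases hLJ : L ≤ Subgroup.normalizer (J : Set G)
    · exact hL ((hnJ L hSL hLJ).trans hCN)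
    · exact hL (hC L (localCtx_sylow S hSL hLc hLJ))
  obtain ⟨V, A, Z, q, d⟩ := c₁.exceptional hcit hexc
  have d₁ : LocalData (Subgroup.normalizer (V : Set G)) (S : Subgroup G) V A Z q :=
    d.extend hcit hexc c₁ fun P _ hP hle => S.3 hP hle
  -- an element normalising the Sylow subgroup fixes both elementary subgroups
  have hNV : Subgroup.normalizer ((S : Subgroup G) : Set G) ≤ Subgroup.normalizer (V : Set G) := by
    intro g hg
    have hmap : ∀ x ∈ Subgroup.normalizer ((S : Subgroup G) : Set G),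
        V.map (MulAut.conj x).toMonoidHom = V ∨ V.map (MulAut.conj x).toMonoidHom = A := by
      intro x hx
      refine d.expl.eq_or_eq ?_ ?_ ?_
      · rintro _ ⟨v, hv, rfl⟩
        exact (Subgroup.mem_normalizer_iff.mp hx v).mp (d.expl.V_le hv)
      · rintro _ ⟨v, hv, rfl⟩
        rw [← map_mul, d.expl.elem_V v hv, map_one]
      · rw [Subgroup.card_map_of_injective (MulEquiv.injective _), d.expl.card_V]
    have hfix : ∀ x, V.map (MulAut.conj x).toMonoidHom = V ↔
        x ∈ Subgroup.normalizer (V : Set G) := by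
      intro x
      rw [Coprime.mem_normalizer_iff_conj_smul, Subgroup.pointwise_smul_def]
      rfl
    rw [← hfix]
    rcases hmap g hg with e | e
    · exact e
    exfalso
    -- the `2`-part of an element exchanging them lies in the Sylow subgroup
    have hA' : A.map (MulAut.conj g).toMonoidHom = V := by
      rcases d.expl.eq_or_eq (E := A.map (MulAut.conj g).toMonoidHom) (by
          rintro _ ⟨a, ha, rfl⟩
          exact (Subgroup.mem_normalizer_iff.mp hg a).mp (d.expl.A_le ha))
        (by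
          rintro _ ⟨a, ha, rfl⟩
          rw [← map_mul, d.expl.elem_A a ha, map_one])
        (by rw [Subgroup.card_map_of_injective (MulEquiv.injective _), d.expl.card_A]) with h | h
      · exact h
      · exact absurd (Subgroup.map_injective (MulEquiv.injective _) (e.trans h.symm)) d.expl.ne
    have hpar : ∀ n : ℕ, Odd n → V.map (MulAut.conj (g ^ n)).toMonoidHom = A := by
      intro n hn
      obtain ⟨m, rfl⟩ := hn
      have h2 : ∀ m : ℕ, V.map (MulAut.conj (g ^ (2 * m))).toMonoidHom = V := by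
        intro m
        induction m with
        | zero => rw [hfix, mul_zero, pow_zero]; exact one_mem _
        | succ m ih =>
          rw [hfix] at ih ⊢
          rw [mul_add, mul_one, pow_add]
          refine mul_mem ih ?_
          rw [← hfix, pow_two, map_mul]
          show V.map ((MulAut.conj g).toMonoidHom.comp (MulAut.conj g).toMonoidHom) = V
          rw [← Subgroup.map_map, e, hA']
      rw [pow_succ', map_mul]
      show V.map ((MulAut.conj g).toMonoidHom.comp (MulAut.conj (g ^ (2 * m))).toMonoidHom) = A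
      rw [← Subgroup.map_map, h2, e]
    set b := orderOf g / 2 ^ (orderOf g).factorization 2 with hb
    have hbodd : Odd b := Nat.odd_iff.mpr (Nat.two_dvd_ne_zero.mp
      (Nat.not_dvd_ordCompl Nat.prime_two (orderOf_pos g).ne'))
    have hgb : g ^ b ∈ (S : Subgroup G) := by
      have hp : IsPGroup 2 (Subgroup.zpowers (g ^ b)) := by
        refine fun y => ⟨(orderOf g).factorization 2, ?_⟩
        obtain ⟨i, hi⟩ := y.2
        refine Subtype.ext ?_
        show (y : G) ^ 2 ^ _ = 1
        rw [← show (g ^ b) ^ i = (y : G) from hi, ← zpow_natCast, ← zpow_mul, mul_comm, zpow_mul,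
          zpow_natCast, ← pow_mul, hb, Nat.div_mul_cancel (Nat.ordProj_dvd _ 2),
          pow_orderOf_eq_one, one_zpow]
      have hnorm : Subgroup.zpowers (g ^ b) ≤ Subgroup.normalizer ((S : Subgroup G) : Set G) :=
        Subgroup.zpowers_le.mpr (pow_mem hg b)
      have hsup : IsPGroup 2 ↥((S : Subgroup G) ⊔ Subgroup.zpowers (g ^ b)) :=
        hSp.to_sup_of_normal_left' hp hnorm
      exact (S.3 hsup le_sup_left).le (Subgroup.mem_sup_right (Subgroup.mem_zpowers _))
    have := hfix (g ^ b) |>.mpr (d.expl.T_le_normalizer_V hgb)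
    rw [hpar b hbodd] at this
    exact d.expl.ne this.symm
  -- the second local subgroup
  have hV1 : V ≠ ⊥ := fun e => by
    have h := d.expl.card_V
    rw [e, Subgroup.card_bot] at h
    nlinarith [d.expl.one_lt]
  obtain ⟨L₂, -, hL₂c, hSL₂, hL₂⟩ := esc V hV1 (isPGroup_of_invol d.expl.elem_V) hNV
  have c₂ : LocalCtx L₂ (S : Subgroup G) := localCtx_sylow S hSL₂ hL₂c fun h =>
    hL₂ ((hnJ L₂ hSL₂ h).trans hNV)
  obtain ⟨V', A', Z', q', d'⟩ := c₂.exceptional hcit hexc
  obtain ⟨rfl, rfl, ⟨rfl, rfl⟩ | ⟨rfl, rfl⟩⟩ := d.expl.unique d'.expl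
  · exact absurd d'.norm hL₂
  · exact ⟨_, _, _, _, d₁, d'.extend hcit hexc c₂ fun P _ hP hle => S.3 hP hle, hNV⟩

end CfsgLib.CIT
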