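import Mathlib
import Cfsg.Agent.Lib.CIT.Split
import Cfsg.Agent.Lib.ThompsonWielandt.CubicOrbit
import Cfsg.Agent.Lib.PGroup.TwoMaximalClass
import Cfsg.Agent.Lib.SmallTwo.CentralizerType
import Cfsg.Agent.S0012
import Cfsg.Agent.S0508

/-!
The configurations with `q = 2`: the Sylow `2`-subgroup is dihedral.
-/

set_option autoImplicit false
set_option linter.unusedSectionVars false
set_option linter.style.haveILetI false

namespace CfsgLib.CIT

universe u

variable {G : Type u} [Group G] [Finite G]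

theorem no_index_two [IsSimpleGroup G] (hnc : ∃ a b : G, a * b ≠ b * a) (H : Subgroup G) :
    H.index ≠ 2 := by
  haveI : Fact (Nat.Prime 2) := ⟨Nat.prime_two⟩
  intro h
  rcases (Subgroup.normal_of_index_eq_two h).eq_bot_or_eq_top with e | e
  · rw [e, Subgroup.index_bot] at h
    haveI := isCyclic_of_prime_card h
    obtain ⟨a, b, hab⟩ := hnc
    obtain ⟨g, hg⟩ := IsCyclic.exists_generator (α := G)
    obtain ⟨i, rfl⟩ := hg a
    obtain ⟨j, rfl⟩ := hg b
    exact hab ((Commute.refl g).zpow_zpow i j).eq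
  · rw [e, Subgroup.index_top] at h
    omega

/-- A simple group in which involution centralisers are `2`-groups and with dihedral Sylow
`2`-subgroups is `PSL₂` over a field of odd order. -/
theorem exists_psl_of_dihedral [IsSimpleGroup G] (hcit : IsCIT G) (S : Sylow 2 G) {n : ℕ}
    (hn : 2 ≤ n) (hS : Nonempty ((S : Subgroup G) ≃* DihedralGroup n)) :
    ∃ (F : Type) (_ : Field F) (_ : Fintype F), Odd (Fintype.card F) ∧
      Nonempty (G ≃* Matrix.ProjectiveSpecialLinearGroup (Fin 2) F) := by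
  haveI : Fact (Nat.Prime 2) := ⟨Nat.prime_two⟩
  have hne : (S : Subgroup G) ≠ ⊥ := by
    intro e
    obtain ⟨f⟩ := hS
    have h := Nat.card_congr f.toEquiv
    rw [e, Subgroup.card_bot, DihedralGroup.nat_card] at h
    omega
  obtain ⟨t, htS, ht2, ht1, htc⟩ := exists_central_invol S.2 hne
  have hto := orderOf_two ht2 ht1
  set C := Subgroup.centralizer ({t} : Set G)
  have hO : (Cfsg.oddCore C).map C.subtype = ⊥ := by
    rw [Subgroup.map_eq_bot_iff_of_injective _ C.subtype_injective, eq_bot_iff]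
    intro x hx
    exact Subgroup.mem_bot.mpr
      (PSolvable.eq_one_of_mem_of_mem ((hcit t hto).to_subgroup ⊤)
        (Transfer.pPrimeCore_coprime 2) (Subgroup.mem_top x) hx)
  refine Cfsg.Agent.S0508.result S n hn hS t hto htS (fun s hs => (htc s hs).symm.eq) ⊥ hO.symm
    (fun h => absurd rfl h) (fun s _ hs => ?_) (fun Y hY hY1 => absurd (le_bot_iff.mp hY) hY1)
  exact absurd (fun y hy => by rw [Subgroup.mem_bot.mp hy, one_mul, mul_one]) hs

theorem dihedral_of_order_eight (S : Sylow 2 G) {V A Z : Subgroup G}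
    (e : Expl (S : Subgroup G) V A Z 2) :
    Nonempty ((S : Subgroup G) ≃* DihedralGroup 4) := by
  haveI : Fact (Nat.Prime 2) := ⟨Nat.prime_two⟩
  obtain ⟨v, hv, hvZ⟩ := e.exists_V_not_mem
  obtain ⟨a, ha, haZ⟩ := e.exists_A_not_mem
  have hnc : ¬ Commute v a := fun h => (e.comm v hv a ha h).elim hvZ haZ
  set c := v * a with hc
  have hcT : c ∈ (S : Subgroup G) := mul_mem (e.V_le hv) (e.A_le ha)
  have hvi := inv_eq_self (e.elem_V v hv)
  have hai := inv_eq_self (e.elem_A a ha)
  have hcc : c * c = v * a * v⁻¹ * a⁻¹ := by rw [hc, hvi, hai]; group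
  have hc2 : c * c ≠ 1 := by
    rw [hcc]
    intro h
    exact hnc (mul_inv_eq_iff_eq_mul.mp (mul_inv_eq_one.mp h))
  have hc4 : c ^ 4 = 1 := by
    rw [show c ^ 4 = (c * c) * (c * c) by simp only [pow_succ, pow_zero, one_mul, mul_assoc], hcc]
    exact e.elem_V _ (e.Z_le_V (e.derived v (e.V_le hv) a (e.A_le ha)))
  have hord : orderOf (⟨c, hcT⟩ : (S : Subgroup G)) = 4 := by
    rw [Subgroup.orderOf_mk]
    refine (orderOf_eq_prime_pow (p := 2) (n := 1) ?_ (by simpa using hc4))
    rw [pow_one, pow_two]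
    exact hc2
  refine ThompsonWielandt.equiv_dihedralGroup (n := 4) (by rw [e.card_T]) hord
    (x := ⟨v, e.V_le hv⟩) (Subtype.ext (e.elem_V v hv)) ?_ (Subtype.ext ?_)
  · rintro ⟨i, hi⟩
    have h : c ^ i = v := congrArg Subtype.val hi
    have h1 : Commute v c := h ▸ (Commute.refl c).zpow_left i
    have h2 := ((Commute.refl v).inv_right).mul_right h1
    rw [hc, inv_mul_cancel_left] at h2
    exact hnc h2
  · show v * (v * a) * v⁻¹ = (v * a)⁻¹
    rw [← mul_assoc, e.elem_V v hv, one_mul, mul_inv_rev, hvi, hai]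

/-- The Sylow subgroup properly containing an exceptional subgroup of order eight is dihedral. -/
theorem exists_psl_case_small [IsSimpleGroup G] (hnc : ∃ a b : G, a * b ≠ b * a) (hcit : IsCIT G)
    (S : Sylow 2 G) {T V A Z : Subgroup G} (e : Expl T V A Z 2) (hTS : T < (S : Subgroup G))
    (hTV : (S : Subgroup G) ⊓ Subgroup.normalizer (V : Set G) = T) :
    ∃ (F : Type) (_ : Field F) (_ : Fintype F), Odd (Fintype.card F) ∧
      Nonempty (G ≃* Matrix.ProjectiveSpecialLinearGroup (Fin 2) F) := by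
  classical
  haveI : Fact (Nat.Prime 2) := ⟨Nat.prime_two⟩
  set X := (S : Subgroup G) with hX
  have hVX : V ≤ X := e.V_le.trans hTS.le
  have hAX : A ≤ X := e.A_le.trans hTS.le
  have hCV : ∀ x ∈ X, (∀ v ∈ V, Commute x v) → x ∈ V := by
    intro x hx hc
    refine e.mem_V_of_centralizes ?_ hc
    rw [← hTV]
    refine ⟨hx, Subgroup.mem_normalizer_iff.mpr fun v => ⟨fun hv => ?_, fun hv => ?_⟩⟩
    · rwa [(hc v hv).eq, mul_inv_cancel_right]
    · have h : x * (x * v * x⁻¹) = x * v * x⁻¹ * x := (hc _ hv).eq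
      have h' : v = x * v * x⁻¹ := by
        calc v = x⁻¹ * (x * v * x⁻¹ * x) := by group
          _ = x⁻¹ * (x * (x * v * x⁻¹)) := by rw [h]
          _ = x * v * x⁻¹ := by group
      rwa [h']
  -- the central involution
  obtain ⟨z, hzX, hz2, hz1, hzc⟩ := exists_central_invol S.2 (fun h => by
    rw [← hX] at h; exact hTS.not_ge (h.le.trans bot_le))
  have hzV : z ∈ V := hCV z hzX fun v hv => hzc v (hVX hv)
  have hzZ : z ∈ Z := by
    obtain ⟨a, ha, haZ⟩ := e.exists_A_not_mem
    exact (e.comm z hzV a ha (hzc a (hAX ha))).resolve_right haZ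
  obtain ⟨t, htV, htZ⟩ := e.exists_V_not_mem
  have ht2 := e.elem_V t htV
  have hVidx : (Z.subgroupOf V).index = 2 := by
    have := (Z.subgroupOf V).card_mul_index
    rw [Nat.card_congr (Subgroup.subgroupOfEquivOfLe e.Z_le_V).toEquiv, e.card_Z, e.card_V] at this
    omega
  have hZz : ∀ w ∈ Z, w = 1 ∨ w = z := by
    intro w hw
    by_contra hne
    rw [not_or] at hne
    have hle : Nat.card (Fin 3) ≤ Nat.card Z := by
      refine Nat.card_le_card_of_injective ![⟨1, one_mem Z⟩, ⟨z, hzZ⟩, ⟨w, hw⟩] ?_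
      intro i j hij
      have h := congrArg Subtype.val hij
      fin_cases i <;> fin_cases j <;> simp_all
    rw [Nat.card_fin, e.card_Z] at hle
    omega
  have hCt : ∀ x ∈ X, Commute x t → x ∈ V := by
    intro x hx hxt
    refine hCV x hx fun v hv => ?_
    have hcz : ∀ w ∈ Z, Commute x w := fun w hw => by
      rcases hZz w hw with rfl | rfl
      · exact Commute.one_right x
      · exact (hzc x hx).symm
    by_cases hvZ : v ∈ Z
    · exact hcz v hvZ
    · have hm : (⟨v, hv⟩ : V) * ⟨t, htV⟩ ∈ Z.subgroupOf V :=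
        (Subgroup.mul_mem_iff_of_index_two hVidx).mpr (iff_of_false hvZ htZ)
      have hc := (hcz _ hm).mul_right (hxt)
      show Commute x v
      simpa [mul_assoc, ht2] using hc
  -- the derived subgroup has index four
  have hXp : IsPGroup 2 X := S.2
  obtain ⟨n, hn⟩ := hXp.exists_card_eq
  have hn4 : 4 ≤ n := by
    have hlt : Nat.card T < Nat.card X := by
      by_contra hh
      exact hTS.ne (Subgroup.eq_of_le_of_card_ge hTS.le (not_lt.mp hh))
    rw [e.card_T, hn] at hlt
    by_contra hh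
    have : 2 ^ n ≤ 2 ^ 3 := Nat.pow_le_pow_right two_pos (by omega)
    omega
  set tX : X := ⟨t, hVX htV⟩ with htX
  set Ct := Subgroup.centralizer ({tX} : Set X) with hCtdef
  have hCteq : Ct = V.subgroupOf X := by
    ext x
    rw [hCtdef, Subgroup.mem_centralizer_singleton_iff, Subgroup.mem_subgroupOf]
    refine ⟨fun h => hCt x x.2 (congrArg Subtype.val h), fun h => Subtype.ext ?_⟩
    exact (commute_of_invol e.elem_V h htV).eq
  have hCtc : Nat.card Ct = 4 := by
    rw [hCteq, Nat.card_congr (Subgroup.subgroupOfEquivOfLe hVX).toEquiv, e.card_V]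
  have hidx : Nat.card (commutator X) * 4 ≥ 2 ^ n := by
    rw [← hn, ← Ct.card_mul_index, hCtc, mul_comm 4, Subgroup.index_eq_card]
    refine Nat.mul_le_mul_right _ (Nat.card_le_card_of_injective (fun q : X ⧸ Ct =>
      (⟨q.out * tX * q.out⁻¹ * tX⁻¹, ?_⟩ : commutator X)) ?_)
    · rw [commutator_def]
      exact Subgroup.commutator_mem_commutator (Subgroup.mem_top _) (Subgroup.mem_top _)
    · intro p q h
      have h' : p.out * tX * p.out⁻¹ = q.out * tX * q.out⁻¹ :=
        mul_right_cancel (congrArg Subtype.val h :)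
      rw [← QuotientGroup.out_eq' p, ← QuotientGroup.out_eq' q, QuotientGroup.eq]
      refine Subgroup.mem_centralizer_singleton_iff.mpr ?_
      calc p.out⁻¹ * q.out * tX = p.out⁻¹ * (q.out * tX * q.out⁻¹) * q.out := by group
        _ = p.out⁻¹ * (p.out * tX * p.out⁻¹) * q.out := by rw [h']
        _ = _ := by group
  obtain ⟨i, hi⟩ := (hXp.to_subgroup (commutator X)).exists_card_eq
  have hidx4 : 4 ≤ (commutator X).index := by
    by_contra hlt
    obtain ⟨j, hj⟩ := hXp.index (frattini X)
    have hdvd : (frattini X).index ∣ (commutator X).index :=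
      Subgroup.index_dvd_of_le (Cfsg.Agent.S0012.result 2 hXp).1
    have hle : (frattini X).index ≤ 2 := by
      have h := Nat.le_of_dvd (Nat.pos_of_ne_zero Subgroup.index_ne_zero_of_finite) hdvd
      rw [hj] at h ⊢
      rcases j with _ | _ | j
      · norm_num
      · norm_num
      · have : 4 ≤ 2 ^ (j + 2) := Nat.pow_le_pow_right two_pos (show 2 ≤ j + 2 by omega)
        omega
    haveI : Nontrivial X := by
      rw [← Finite.one_lt_card_iff_nontrivial, hn]
      exact Nat.one_lt_two_pow (by omega)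
    have hne : frattini X ≠ ⊤ := by
      intro h
      haveI : (⊥ : Subgroup X).Normal := inferInstance
      have := frattini_nongenerating (K := (⊥ : Subgroup X)) (by rw [h, bot_sup_eq])
      exact bot_ne_top this
    obtain ⟨x, hx⟩ : ∃ x, x ∉ frattini X := by
      by_contra! hc; exact hne (eq_top_iff.mpr fun x _ => hc x)
    have htop : Subgroup.zpowers x ⊔ frattini X = ⊤ := by
      refine Subgroup.index_eq_one.mp ?_
      have hlt' : (Subgroup.zpowers x ⊔ frattini X).index < (frattini X).index := by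
        refine Subgroup.index_strictAnti (lt_of_le_of_ne le_sup_right fun h => hx ?_)
        rw [h]; exact Subgroup.mem_sup_left (Subgroup.mem_zpowers x)
      have : 0 < (Subgroup.zpowers x ⊔ frattini X).index :=
        Nat.pos_of_ne_zero Subgroup.index_ne_zero_of_finite
      omega
    have hz := frattini_nongenerating htop
    obtain ⟨a, ha, haZ⟩ := e.exists_A_not_mem
    obtain ⟨p, hp⟩ : tX ∈ Subgroup.zpowers x := hz ▸ Subgroup.mem_top _
    obtain ⟨r, hr⟩ : (⟨a, hAX ha⟩ : X) ∈ Subgroup.zpowers x := hz ▸ Subgroup.mem_top _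
    have hcomm : Commute tX (⟨a, hAX ha⟩ : X) := hp ▸ hr ▸ (Commute.refl x).zpow_zpow p r
    exact (e.comm t htV a ha (congrArg Subtype.val hcomm.eq)).elim htZ haZ
  have hi' : i = n - 2 := by
    have h1 := (commutator X).card_mul_index
    rw [hn, hi] at h1
    have h2 : 2 ^ i * 4 ≤ 2 ^ n := h1 ▸ Nat.mul_le_mul_left _ hidx4
    rw [hi] at hidx
    have : 2 ^ (i + 2) = 2 ^ n := by rw [pow_add]; omega
    have := Nat.pow_right_injective le_rfl this
    omega
  obtain ⟨-, C, hC, hC2⟩ := MaxClass.taussky n X (by omega) hn (hi.trans (by rw [hi']))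
  haveI := hC
  obtain ⟨g, hg⟩ := hC.exists_generator
  have hCcard : Nat.card C = 2 ^ (n - 1) := by
    have h := C.card_mul_index
    rw [hC2, hn] at h
    have : 2 ^ n = 2 ^ (n - 1) * 2 := by rw [← pow_succ]; congr 1; omega
    omega
  have hgo : orderOf g = 2 ^ (n - 1) := by rw [orderOf_eq_card_of_forall_mem_zpowers hg, hCcard]
  set c : X := (g : X) with hc
  have hco : orderOf c = 2 ^ (n - 1) := by rw [hc, Subgroup.orderOf_coe, hgo]
  have hCz : C = Subgroup.zpowers c := by
    refine le_antisymm (fun x hx => ?_) (Subgroup.zpowers_le.mpr g.2)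
    obtain ⟨k, hk⟩ := hg ⟨x, hx⟩
    exact ⟨k, congrArg Subtype.val hk⟩
  haveI hCn : C.Normal := Subgroup.normal_of_index_eq_two hC2
  set ζ := c ^ 2 ^ (n - 2) with hζ
  have hζo : orderOf ζ = 2 := by
    rw [hζ, orderOf_pow_of_dvd (pow_ne_zero _ two_ne_zero), hco,
      Nat.pow_div (by omega) two_pos, show n - 1 - (n - 2) = 1 by omega, pow_one]
    rw [hco]
    exact pow_dvd_pow 2 (by omega)
  have huniq : ∀ y ∈ C, y * y = 1 → y = 1 ∨ y = ζ := by
    intro y hy hy2
    by_cases hy1 : y = 1
    · exact Or.inl hy1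
    refine Or.inr ?_
    haveI : IsCyclic C := hC
    have hζC : ζ ∈ C := pow_mem g.2 _
    have h1 : orderOf (⟨y, hy⟩ : C) = 2 := orderOf_two (Subtype.ext hy2)
      (fun h => hy1 (congrArg Subtype.val h))
    have h2 : orderOf (⟨ζ, hζC⟩ : C) = 2 := by rw [Subgroup.orderOf_mk, hζo]
    by_contra hne
    letI := Fintype.ofFinite C
    have hle := IsCyclic.card_pow_eq_one_le (α := C) (n := 2) two_pos
    have hζ2 : ζ ^ 2 = 1 := hζo ▸ pow_orderOf_eq_one ζ
    have hsub : ({1, ⟨y, hy⟩, ⟨ζ, hζC⟩} : Finset C) ⊆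
        Finset.univ.filter fun x : C => x ^ 2 = 1 := by
      intro x hx
      simp only [Finset.mem_insert, Finset.mem_singleton] at hx
      refine Finset.mem_filter.mpr ⟨Finset.mem_univ _, ?_⟩
      rcases hx with rfl | rfl | rfl
      · exact one_pow 2
      · rw [← h1, pow_orderOf_eq_one]
      · rw [← h2, pow_orderOf_eq_one]
    have h3 : Finset.card ({1, ⟨y, hy⟩, ⟨ζ, hζC⟩} : Finset C) = 3 := by
      rw [Finset.card_insert_of_notMem, Finset.card_pair (fun h => hne (congrArg Subtype.val h))]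
      simp only [Finset.mem_insert, Finset.mem_singleton]
      rintro (h | h)
      · exact hy1 (congrArg Subtype.val h).symm
      · rw [← h, orderOf_one] at h2
        omega
    have := Finset.card_le_card hsub
    omega
  have ht2X : tX * tX = 1 := Subtype.ext ht2
  have htC : tX ∉ C := by
    intro h
    have hall : ∀ x : X, x ∈ Ct := by
      intro x
      rw [hCtdef, Subgroup.mem_centralizer_singleton_iff]
      have h1 := hCn.conj_mem tX h x
      have h2 : x * tX * x⁻¹ * (x * tX * x⁻¹) = 1 := by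
        rw [show x * tX * x⁻¹ * (x * tX * x⁻¹) = x * (tX * tX) * x⁻¹ by group, ht2X]; group
      have h3 : x * tX * x⁻¹ ≠ 1 := fun h' => htZ (by
        have : tX = 1 := by rw [show tX = x⁻¹ * (x * tX * x⁻¹) * x by group, h']; group
        rw [show t = ((tX : X) : G) from rfl, this]; exact one_mem Z)
      have e1 := (huniq _ h1 h2).resolve_left h3
      have e2 := (huniq tX h ht2X).resolve_left fun h' => h3 (by rw [h']; group)
      exact mul_inv_eq_iff_eq_mul.mp (e1.trans e2.symm)
    have : Ct = ⊤ := eq_top_iff.mpr fun x _ => hall x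
    rw [this, Subgroup.card_top, hn] at hCtc
    have : 2 ^ 4 ≤ 2 ^ n := Nat.pow_le_pow_right two_pos hn4
    omega
  -- the conjugate of the generator
  set d := tX * c * tX⁻¹ with hd
  have hdC : d ∈ C := hCn.conj_mem c g.2 tX
  have hdc : Commute d c := by
    obtain ⟨k, hk⟩ : d ∈ Subgroup.zpowers c := hCz ▸ hdC
    exact hk ▸ (Commute.refl c).zpow_left k
  have hfix : tX * (d * c) * tX⁻¹ = d * c := by
    have : tX * d * tX⁻¹ = c := by
      rw [hd, show tX * (tX * c * tX⁻¹) * tX⁻¹ = (tX * tX) * c * (tX * tX)⁻¹ by group, ht2X]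
      group
    rw [show tX * (d * c) * tX⁻¹ = tX * d * tX⁻¹ * (tX * c * tX⁻¹) by group, this, ← hd, hdc.eq]
  have hmem : d * c ∈ Ct := by
    rw [hCtdef, Subgroup.mem_centralizer_singleton_iff]
    exact (mul_inv_eq_iff_eq_mul.mp hfix).symm
  have hsq : d * c * (d * c) = 1 := by
    have h : ((d * c : X) : G) ∈ V := by
      rw [hCteq, Subgroup.mem_subgroupOf] at hmem; exact hmem
    exact Subtype.ext (e.elem_V _ h)
  rcases huniq _ (mul_mem hdC g.2) hsq with h | h
  · -- dihedral
    refine exists_psl_of_dihedral hcit S (n := 2 ^ (n - 1))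
      (Nat.one_lt_two_pow (by omega)) ?_
    haveI : NeZero (2 ^ (n - 1)) := ⟨pow_ne_zero _ two_ne_zero⟩
    refine ThompsonWielandt.equiv_dihedralGroup ?_ hco ht2X (hCz ▸ htC)
      (eq_inv_of_mul_eq_one_left h)
    rw [hn, ← pow_succ']
    congr 1
    omega
  · -- quasi-dihedral
    exfalso
    obtain ⟨k, hk⟩ : ∃ k, n = k + 1 := ⟨n - 1, by omega⟩
    have hyx : tX * c * tX⁻¹ = c ^ (2 ^ (n - 1 - 1) - 1) := by
      rw [← hd, show n - 1 - 1 = n - 2 by omega]
      have : d = c ^ 2 ^ (n - 2) * c⁻¹ := eq_mul_inv_of_mul_eq h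
      rw [this]
      nth_rw 2 [show c = c ^ 1 from (pow_one c).symm]
      rw [← pow_sub c (Nat.one_le_two_pow)]
    let qd : SmallTwo.QD X (n - 1) :=
      { hn := by omega
        card := by rw [hn]; congr 1; omega
        x := c
        y := tX
        hx := hco
        hy := orderOf_two ht2X fun h' => htC (h' ▸ one_mem C)
        hyx := hyx }
    have h66 := (qd.six_six_of_no_index_two (no_index_two hnc)).2
    obtain ⟨-, -, ⟨eQ⟩, -⟩ := qd.four_spec
    set Q := qd.quat 1 with hQ
    have h3 : 3 ∣ Nat.card (Subgroup.normalizer (Q : Set G)) := by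
      refine dvd_trans ?_ (Subgroup.index_dvd_card
        ((Q ⊔ Subgroup.centralizer (Q : Set G)).subgroupOf (Subgroup.normalizer (Q : Set G))))
      rw [← Subgroup.relIndex, h66]
      norm_num
    haveI : Fact (Nat.Prime 3) := ⟨by norm_num⟩
    obtain ⟨y, hy⟩ := exists_prime_orderOf_dvd_card' (G := Subgroup.normalizer (Q : Set G)) 3 h3
    rw [← Subgroup.orderOf_coe] at hy
    have hdec : ∀ x : QuaternionGroup 2, x * x = 1 → x = 1 ∨ x = QuaternionGroup.a 2 := by decide
    set j := ((eQ.symm (QuaternionGroup.a 2) : Q) : G) with hj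
    have hj2 : j * j = 1 := by
      rw [hj, ← Subgroup.coe_mul, ← map_mul, show (QuaternionGroup.a 2 : QuaternionGroup 2) *
        QuaternionGroup.a 2 = 1 by decide, map_one, Subgroup.coe_one]
    have hj1 : j ≠ 1 := fun h' => by
      have : (eQ.symm (QuaternionGroup.a 2) : Q) = 1 := Subtype.ext h'
      rw [MulEquiv.map_eq_one_iff] at this
      exact absurd this (by decide)
    have hjQ : (y : G) * j * (y : G)⁻¹ ∈ Q :=
      (Subgroup.mem_normalizer_iff.mp y.2 j).mp (SetLike.coe_mem _)
    have hyj : (y : G) * j * (y : G)⁻¹ = j := by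
      have h2 : (⟨_, hjQ⟩ : Q) * ⟨_, hjQ⟩ = 1 := Subtype.ext (by
        show (y : G) * j * (y : G)⁻¹ * ((y : G) * j * (y : G)⁻¹) = 1
        rw [show (y : G) * j * (y : G)⁻¹ * ((y : G) * j * (y : G)⁻¹)
          = (y : G) * (j * j) * (y : G)⁻¹ by group, hj2]; group)
      rcases hdec (eQ ⟨_, hjQ⟩) (by rw [← map_mul, h2, map_one]) with h' | h'
      · exfalso
        rw [MulEquiv.map_eq_one_iff] at h'
        have h'' : (y : G) * j * (y : G)⁻¹ = 1 := congrArg Subtype.val h'
        exact hj1 (by rw [show j = (y : G)⁻¹ * ((y : G) * j * (y : G)⁻¹) * y by group, h'']; group)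
      · have := congrArg eQ.symm h'
        rw [MulEquiv.symm_apply_apply] at this
        exact congrArg Subtype.val this
    have hy1 := hcit.eq_one hj2 hj1 (show Commute (y : G) j from mul_inv_eq_iff_eq_mul.mp hyj)
      (by rw [hy]; decide)
    rw [hy1, orderOf_one] at hy
    omega

end CfsgLib.CIT
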