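import Mathlib
import Cfsg.Agent.Lib.CIT.Split
import Cfsg.Agent.Lib.CIT.Dihedral
import Cfsg.Agent.Lib.Transfer.Thompson
import Cfsg.Agent.S0001

/-!
A Sylow `2`-subgroup properly containing an exceptional subgroup forces `q = 2`.
-/

set_option autoImplicit false
set_option linter.unusedSectionVars false
set_option linter.style.haveILetI false

namespace CfsgLib.CIT

open scoped Pointwise

universe u

variable {G : Type u} [Group G] [Finite G]

theorem Expl.conj_eq_or {T V A Z : Subgroup G} {q : ℕ} (e : Expl T V A Z q) {x : G}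
    (hx : x ∈ Subgroup.normalizer (T : Set G)) :
    (V.map (MulAut.conj x).toMonoidHom = V ∧ A.map (MulAut.conj x).toMonoidHom = A) ∨
      (V.map (MulAut.conj x).toMonoidHom = A ∧ A.map (MulAut.conj x).toMonoidHom = V) := by
  have himg : ∀ E : Subgroup G, E ≤ T → (∀ v ∈ E, v * v = 1) → q * q ≤ Nat.card E →
      E.map (MulAut.conj x).toMonoidHom = V ∨ E.map (MulAut.conj x).toMonoidHom = A := by
    intro E hE h2 hc
    refine e.eq_or_eq ?_ ?_ ?_
    · rintro _ ⟨v, hv, rfl⟩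
      exact (Subgroup.mem_normalizer_iff.mp hx v).mp (hE hv)
    · rintro _ ⟨v, hv, rfl⟩
      rw [← map_mul, h2 v hv, map_one]
    · rwa [Subgroup.card_map_of_injective (MulEquiv.injective _)]
  have hinj := Subgroup.map_injective
    (f := (MulAut.conj x).toMonoidHom) (MulEquiv.injective _)
  rcases himg V e.V_le e.elem_V e.card_V.ge with h1 | h1 <;>
    rcases himg A e.A_le e.elem_A e.card_A.ge with h2 | h2
  · exact absurd (hinj (h1.trans h2.symm)) e.ne
  · exact Or.inl ⟨h1, h2⟩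
  · exact Or.inr ⟨h1, h2⟩
  · exact absurd (hinj (h1.trans h2.symm)) e.ne

theorem mem_normalizer_of_map_eq {V : Subgroup G} {x : G}
    (h : V.map (MulAut.conj x).toMonoidHom = V) : x ∈ Subgroup.normalizer (V : Set G) := by
  rw [Coprime.mem_normalizer_iff_conj_smul, Subgroup.pointwise_smul_def]
  exact h

theorem map_eq_of_mem_normalizer {V : Subgroup G} {x : G}
    (h : x ∈ Subgroup.normalizer (V : Set G)) : V.map (MulAut.conj x).toMonoidHom = V := by
  rw [Coprime.mem_normalizer_iff_conj_smul, Subgroup.pointwise_smul_def] at h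
  exact h

theorem card_le_two_mul_inf {T V R : Subgroup G} (hVR : V ≤ R) (hT : (T.subgroupOf R).index = 2) :
    Nat.card V ≤ 2 * Nat.card ↥(V ⊓ T) := by
  have h1 := ((T.subgroupOf R).subgroupOf (V.subgroupOf R)).card_mul_index
  have h2 : ((T.subgroupOf R).subgroupOf (V.subgroupOf R)).index ≤ 2 := by
    rw [← Subgroup.relIndex, ← hT, ← Subgroup.relIndex_top_right]
    exact Subgroup.relIndex_le_of_le_right le_top
      (by rw [Subgroup.relIndex_top_right, hT]; norm_num)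
  have h3 : Nat.card ((T.subgroupOf R).subgroupOf (V.subgroupOf R)) ≤ Nat.card ↥(V ⊓ T) :=
    Nat.card_le_card_of_injective (fun x => ⟨(((x : V.subgroupOf R) : R) : G), (x : V.subgroupOf R).2, x.2⟩)
      fun x y h => Subtype.ext (Subtype.ext (Subtype.ext (congrArg Subtype.val h :)))
  rw [← Nat.card_congr (Subgroup.subgroupOfEquivOfLe hVR).toEquiv, ← h1, mul_comm 2]
  exact Nat.mul_le_mul h3 h2

/-- The exceptional subgroup is a proper subgroup of a Sylow subgroup only for `q = 2`. -/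
theorem proper_false [IsSimpleGroup G] (hnc : ∃ a b : G, a * b ≠ b * a) (hcit : IsCIT G)
    (S : Sylow 2 G) {T V A Z : Subgroup G} {q : ℕ}
    (d : LocalData (Subgroup.normalizer (V : Set G)) T V A Z q) (hTS : T < (S : Subgroup G))
    (hTV : (S : Subgroup G) ⊓ Subgroup.normalizer (V : Set G) = T) (hq : 2 < q) : False := by
  classical
  haveI : Fact (Nat.Prime 2) := ⟨Nat.prime_two⟩
  have e := d.expl
  set R := (S : Subgroup G) ⊓ Subgroup.normalizer (T : Set G) with hR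
  have hTR : T ≤ R := le_inf hTS.le Subgroup.le_normalizer
  -- elements outside exchange the two subgroups
  have hswap : ∀ x ∈ R, x ∉ T →
      V.map (MulAut.conj x).toMonoidHom = A ∧ A.map (MulAut.conj x).toMonoidHom = V := by
    intro x hx hxT
    rcases e.conj_eq_or (Subgroup.mem_inf.mp hx).2 with ⟨h1, -⟩ | h
    · exact absurd (hTV ▸ Subgroup.mem_inf.mpr
        ⟨(Subgroup.mem_inf.mp hx).1, mem_normalizer_of_map_eq h1⟩ : x ∈ T) hxT
    · exact h
  obtain ⟨y, hyR, hyT⟩ : ∃ y ∈ R, y ∉ T := by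
    by_contra! hc
    haveI : Group.IsNilpotent (S : Subgroup G) := S.2.isNilpotent
    have hlt : T.subgroupOf (S : Subgroup G) < ⊤ :=
      lt_top_iff_ne_top.mpr fun h => hTS.not_ge (Subgroup.subgroupOf_eq_top.mp h)
    obtain ⟨x, hxN, hxT⟩ := SetLike.exists_of_lt (Group.normalizerCondition_of_isNilpotent _ hlt)
    refine hxT (hc _ ⟨x.2, Subgroup.mem_normalizer_iff.mpr fun g => ⟨fun hg => ?_, fun hg => ?_⟩⟩)
    · exact (Subgroup.mem_normalizer_iff.mp hxN ⟨g, hTS.le hg⟩).mp hg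
    · have hgS : g ∈ (S : Subgroup G) := by
        have : (x : G)⁻¹ * ((x : G) * g * (x : G)⁻¹) * x ∈ (S : Subgroup G) :=
          mul_mem (mul_mem (inv_mem x.2) (hTS.le hg)) x.2
        rwa [show (x : G)⁻¹ * ((x : G) * g * (x : G)⁻¹) * x = g by group] at this
      exact (Subgroup.mem_normalizer_iff.mp hxN ⟨g, hgS⟩).mpr hg
  have hidx : (T.subgroupOf R).index = 2 := by
    rw [Subgroup.index_eq_two_iff]
    refine ⟨⟨y, hyR⟩, fun x => ?_⟩
    simp only [Subgroup.mem_subgroupOf, Subgroup.coe_mul]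
    by_cases hxT : (x : G) ∈ T
    · refine Or.inr ⟨hxT, fun h => hyT ?_⟩
      exact (mul_mem_cancel_left hxT).mp h
    · refine Or.inl ⟨?_, hxT⟩
      rw [← hTV]
      refine Subgroup.mem_inf.mpr ⟨mul_mem (Subgroup.mem_inf.mp x.2).1 (Subgroup.mem_inf.mp hyR).1,
        mem_normalizer_of_map_eq ?_⟩
      rw [map_mul]
      show V.map ((MulAut.conj (x : G)).toMonoidHom.comp (MulAut.conj y).toMonoidHom) = V
      rw [← Subgroup.map_map, (hswap y hyR hyT).1, (hswap x x.2 hxT).2]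
  -- the exceptional subgroup is normal in the Sylow subgroup
  have hRS : R = (S : Subgroup G) := by
    by_contra hne
    have hlt' : R < (S : Subgroup G) := lt_of_le_of_ne inf_le_left hne
    haveI : Group.IsNilpotent (S : Subgroup G) := S.2.isNilpotent
    have hlt : R.subgroupOf (S : Subgroup G) < ⊤ :=
      lt_top_iff_ne_top.mpr fun h => hlt'.not_ge (Subgroup.subgroupOf_eq_top.mp h)
    obtain ⟨x, hxN, hxR⟩ := SetLike.exists_of_lt (Group.normalizerCondition_of_isNilpotent _ hlt)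
    have hxR' : (x : G) ∉ R := hxR
    set c := (MulAut.conj (x : G)).toMonoidHom with hc
    have hRc : R.map c = R := by
      refine Subgroup.eq_of_le_of_card_ge ?_
        (by rw [hc, Subgroup.card_map_of_injective (MulEquiv.injective _)])
      rintro _ ⟨r, hr, rfl⟩
      exact (Subgroup.mem_normalizer_iff.mp hxN ⟨r, (Subgroup.mem_inf.mp hr).1⟩).mp hr
    have hT2R : T.map c ≤ R := (Subgroup.map_mono hTR).trans hRc.le
    have hne2 : T.map c ≠ T := fun h => hxR'
      (Subgroup.mem_inf.mpr ⟨x.2, mem_normalizer_of_map_eq h⟩)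
    have hidx2 : ((T.map c).subgroupOf R).index = 2 := by
      have h1 := (T.subgroupOf R).card_mul_index
      have h2 := ((T.map c).subgroupOf R).card_mul_index
      rw [Nat.card_congr (Subgroup.subgroupOfEquivOfLe hTR).toEquiv, hidx] at h1
      rw [Nat.card_congr (Subgroup.subgroupOfEquivOfLe hT2R).toEquiv, hc,
        Subgroup.card_map_of_injective (MulEquiv.injective _), ← h1] at h2
      exact Nat.eq_of_mul_eq_mul_left Nat.card_pos h2
    have e2 := e.map c (MulEquiv.injective (MulAut.conj (x : G)))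
    obtain ⟨u, huT2, huT⟩ : ∃ u ∈ T.map c, u ∉ T := by
      by_contra! h
      exact hne2 (Subgroup.eq_of_le_of_card_ge h
        (by rw [hc, Subgroup.card_map_of_injective (MulEquiv.injective _)]))
    have hu := hswap u (hT2R huT2) huT
    set T2 := T.map c with hT2
    have hVu : (V ⊓ T2).map (MulAut.conj u).toMonoidHom = A ⊓ T2 := by
      rw [Subgroup.map_inf _ _ _ (MulEquiv.injective _), hu.1,
        map_eq_of_mem_normalizer (Subgroup.le_normalizer huT2)]
    have hVA2 : ∀ B : Subgroup G, V ⊓ T2 ≤ B → T2 ≤ Subgroup.normalizer (B : Set G) →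
        (∀ b ∈ B, b * b = 1) → False := by
      intro B hB hBn hB2
      have hA2 : A ⊓ T2 ≤ B := by
        rw [← hVu, ← map_eq_of_mem_normalizer (hBn huT2)]
        exact Subgroup.map_mono hB
      have hbig : ∀ W : Subgroup G, W ≤ R → Nat.card W = q * q →
          ∃ w ∈ W ⊓ T2, w ∉ Z := by
        intro W hW hWc
        by_contra! h
        have h1 := card_le_two_mul_inf hW hidx2
        have h2 := Subgroup.card_le_of_le (show W ⊓ T2 ≤ Z from h)
        rw [hWc] at h1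
        rw [e.card_Z] at h2
        nlinarith
      obtain ⟨v, hv, hvZ⟩ := hbig V (e.V_le.trans hTR) e.card_V
      obtain ⟨a, ha, haZ⟩ := hbig A (e.A_le.trans hTR) e.card_A
      rcases e.comm v (Subgroup.mem_inf.mp hv).1 a (Subgroup.mem_inf.mp ha).1
        (commute_of_invol hB2 (hB hv) (hA2 ha)) with h | h
      · exact hvZ h
      · exact haZ h
    rcases e2.elementary_le (E := V ⊓ T2) inf_le_right
      (fun v hv => e.elem_V v (Subgroup.mem_inf.mp hv).1) with h | h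
    · exact hVA2 _ h e2.T_le_normalizer_V e2.elem_V
    · exact hVA2 _ h e2.T_le_normalizer_A e2.elem_A
  have hSN : (S : Subgroup G) ≤ Subgroup.normalizer (T : Set G) := hRS ▸ inf_le_right
  have hidxS : (T.subgroupOf (S : Subgroup G)).index = 2 := hRS ▸ hidx
  have hswapS : ∀ x ∈ (S : Subgroup G), x ∉ T →
      V.map (MulAut.conj x).toMonoidHom = A ∧ A.map (MulAut.conj x).toMonoidHom = V :=
    fun x hx => hswap x (hRS.symm ▸ hx)
  -- a complement in `N(T) ∩ N(V)`
  set K := Subgroup.normalizer (V : Set G) ⊓ Subgroup.normalizer (T : Set G) with hK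
  have hTK : T ≤ K := le_inf d.le Subgroup.le_normalizer
  haveI hTn : (T.subgroupOf K).Normal :=
    (Subgroup.normal_subgroupOf_iff_le_normalizer hTK).mpr inf_le_right
  have hcT : Nat.card (T.subgroupOf K) = q * q * q := by
    rw [Nat.card_congr (Subgroup.subgroupOfEquivOfLe hTK).toEquiv, e.card_T]
  have hidxK : (T.subgroupOf K).index = q - 1 := by
    have h := (T.subgroupOf K).card_mul_index
    rw [hcT, hK, d.card_N] at h
    exact Nat.eq_of_mul_eq_mul_left (by positivity) h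
  obtain ⟨j, hj⟩ := (isPGroup_of_invol e.elem_V).exists_card_eq
  obtain ⟨a, ha⟩ : ∃ a, q = 2 ^ a := by
    rw [e.card_V] at hj
    obtain ⟨a, -, ha⟩ := (Nat.dvd_prime_pow Nat.prime_two).mp (hj ▸ dvd_mul_right q q)
    exact ⟨a, ha⟩
  have ha2 : 2 ≤ a := by
    by_contra h
    have : 2 ^ a ≤ 2 ^ 1 := Nat.pow_le_pow_right two_pos (by omega)
    omega
  have hqodd : Odd (q - 1) := by
    obtain ⟨r, hr⟩ : 2 ∣ q := ha ▸ dvd_pow_self 2 (by omega)
    exact ⟨r - 1, by omega⟩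
  have hcop : (Nat.card (T.subgroupOf K)).Coprime (T.subgroupOf K).index := by
    rw [hcT, hidxK]
    have : Nat.Coprime q (q - 1) := by
      nth_rw 1 [ha]
      exact (Nat.coprime_two_left.mpr hqodd).pow_left _
    exact (this.mul_left this).mul_left this
  obtain ⟨H₀, hH₀⟩ := Subgroup.exists_right_complement'_of_coprime hcop
  set H := H₀.map K.subtype with hH
  have hHK : H ≤ K := Subgroup.map_subtype_le _
  have hHc : Nat.card H = q - 1 := by
    rw [hH, Subgroup.card_map_of_injective K.subtype_injective]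
    have h := hH₀.card_mul_card
    rw [hcT, ← (T.subgroupOf K).card_mul_index, hcT, hidxK] at h
    exact Nat.eq_of_mul_eq_mul_left (by positivity) h
  have hHodd : Odd (Nat.card H) := hHc ▸ hqodd
  have hHT : ∀ x ∈ H, x ∈ T → x = 1 := fun x hx hxT =>
    eq_one_of_odd_mem (S.2.to_le hTS.le) hxT (hHodd.of_dvd_nat (H.orderOf_dvd_natCard hx))
  obtain ⟨h₀, hh₀, hh₀1⟩ : ∃ h ∈ H, h ≠ 1 := by
    by_contra! hc
    rw [show H = ⊥ from eq_bot_iff.mpr fun h hh => Subgroup.mem_bot.mpr (hc h hh),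
      Subgroup.card_bot] at hHc
    omega
  have hNTH : ∀ n ∈ T, (∀ h ∈ H, n * h * n⁻¹ ∈ H) → n = 1 := by
    intro n hn hnH
    by_contra hn1
    refine hh₀1 ?_
    have h1 : n * h₀ * n⁻¹ * h₀⁻¹ = 1 := by
      refine hHT _ (mul_mem (hnH h₀ hh₀) (inv_mem hh₀)) ?_
      rw [show n * h₀ * n⁻¹ * h₀⁻¹ = n * (h₀ * n⁻¹ * h₀⁻¹) by group]
      exact mul_mem hn ((Subgroup.mem_normalizer_iff.mp (Subgroup.mem_inf.mp (hHK hh₀)).2 _).mp
        (inv_mem hn))
    have hc : Commute h₀ n := (mul_inv_eq_iff_eq_mul.mp (mul_inv_eq_one.mp h1)).symm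
    exact hcit.eq_one_of_centralizes ((S.2.to_le hTS.le).to_le (Subgroup.zpowers_le.mpr hn))
      (by rwa [Ne, Subgroup.zpowers_eq_bot]) (hHodd.of_dvd_nat (H.orderOf_dvd_natCard hh₀))
      (fun x hx => by obtain ⟨l, rfl⟩ := hx; exact hc.zpow_right l)
  -- an involution outside normalising the complement
  have hyS : y ∈ (S : Subgroup G) := hRS ▸ hyR
  have hKy : ∀ k ∈ K, y * k * y⁻¹ ∈ K := by
    intro k hk
    obtain ⟨hkV, hkT⟩ := Subgroup.mem_inf.mp hk
    have hyN := hSN hyS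
    refine Subgroup.mem_inf.mpr ⟨mem_normalizer_of_map_eq ?_,
      mul_mem (mul_mem hyN hkT) (inv_mem hyN)⟩
    have hkA : A.map (MulAut.conj k).toMonoidHom = A := by
      rcases e.conj_eq_or hkT with ⟨-, h⟩ | ⟨h, -⟩
      · exact h
      · exact absurd ((map_eq_of_mem_normalizer hkV).symm.trans h) e.ne
    have hy' : V.map (MulAut.conj y⁻¹).toMonoidHom = A :=
      (hswapS y⁻¹ (inv_mem hyS) fun h => hyT (inv_mem_iff.mp h)).1
    rw [map_mul, map_mul]
    show V.map (((MulAut.conj y).toMonoidHom.comp (MulAut.conj k).toMonoidHom).comp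
      (MulAut.conj y⁻¹).toMonoidHom) = V
    rw [← Subgroup.map_map, hy', ← Subgroup.map_map, hkA, (hswapS y hyS hyT).2]
  set H₁ := H.map (MulAut.conj y).toMonoidHom with hH₁
  have hH₁K : H₁ ≤ K := by
    rintro _ ⟨h, hh, rfl⟩
    exact hKy h (hHK hh)
  have hcompl₁ : Subgroup.IsComplement' (T.subgroupOf K) (H₁.subgroupOf K) := by
    refine Subgroup.isComplement'_of_coprime ?_ ?_
    · rw [Nat.card_congr (Subgroup.subgroupOfEquivOfLe hH₁K).toEquiv, hH₁,
        Subgroup.card_map_of_injective (MulEquiv.injective _), hHc, ← hidxK]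
      exact (T.subgroupOf K).card_mul_index
    · rw [Nat.card_congr (Subgroup.subgroupOfEquivOfLe hH₁K).toEquiv, hH₁,
        Subgroup.card_map_of_injective (MulEquiv.injective _), hHc, ← hidxK]
      exact hcop
  have hsolv : Group.IsSolvable (T.subgroupOf K) :=
    haveI := ((S.2.to_le hTS.le).of_equiv (Subgroup.subgroupOfEquivOfLe hTK).symm).isNilpotent
    inferInstance
  obtain ⟨k, hk⟩ := Cfsg.Agent.S0001.result (T.subgroupOf K) hcop (Or.inl hsolv) H₀
    (H₁.subgroupOf K) hH₀ hcompl₁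
  obtain ⟨⟨t, h₁⟩, hth⟩ := hH₀.2 k
  set s := ((t : K) : G)⁻¹ * y with hs
  have htT : ((t : K) : G) ∈ T := t.2
  have hsS : s ∈ (S : Subgroup G) := mul_mem (inv_mem (hTS.le htT)) hyS
  have hsT : s ∉ T := fun h => hyT ((mul_mem_cancel_left (inv_mem htT)).mp h)
  have hsH : ∀ h ∈ H, s * h * s⁻¹ ∈ H := by
    intro h hh
    have hmem : (⟨y * h * y⁻¹, hKy h (hHK hh)⟩ : K) ∈ MulAut.conj k • H₀ := by
      rw [hk]; exact ⟨h, hh, rfl⟩
    obtain ⟨h₂, hh₂, he⟩ := hmem
    have he' : (k : G) * (h₂ : G) * (k : G)⁻¹ = y * h * y⁻¹ := congrArg Subtype.val he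
    have hth' : ((t : K) : G) * ((h₁ : K) : G) = (k : G) := congrArg Subtype.val hth
    have hh₁ : ((h₁ : K) : G) ∈ H := ⟨h₁, h₁.2, rfl⟩
    rw [hs, show ((t : K) : G)⁻¹ * y * h * (((t : K) : G)⁻¹ * y)⁻¹
      = ((t : K) : G)⁻¹ * (y * h * y⁻¹) * (t : K) by group, ← he', ← hth',
      show ((t : K) : G)⁻¹ * (((t : K) : G) * ((h₁ : K) : G) * (h₂ : G) *
        (((t : K) : G) * ((h₁ : K) : G))⁻¹) * (t : K)
        = ((h₁ : K) : G) * (h₂ : G) * ((h₁ : K) : G)⁻¹ by group]
    exact mul_mem (mul_mem hh₁ ⟨h₂, hh₂, rfl⟩) (inv_mem hh₁)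
  have hs2 : s * s = 1 := by
    refine hNTH _ ?_ fun h hh => ?_
    · have := Subgroup.mul_self_mem_of_index_two hidxS (⟨s, hsS⟩ : (S : Subgroup G))
      exact this
    · rw [show s * s * h * (s * s)⁻¹ = s * (s * h * s⁻¹) * s⁻¹ by group]
      exact hsH _ (hsH h hh)
  have hs1 : s ≠ 1 := fun h => hsT (h ▸ one_mem T)
  have hsi := inv_eq_self hs2
  have hinv : ∀ h ∈ H, s * h * s⁻¹ = h⁻¹ := fun h hh =>
    hcit.inverts hs2 hs1 hHodd hsH hh
  obtain ⟨hsV, hsA⟩ := hswapS s hsS hsT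
  have hsV' : ∀ v ∈ V, s * v * s⁻¹ ∈ A := fun v hv => hsV ▸ ⟨v, hv, rfl⟩
  have hsA' : ∀ a ∈ A, s * a * s⁻¹ ∈ V := fun a ha => hsA ▸ ⟨a, ha, rfl⟩
  have hsZ : ∀ z ∈ Z, s * z * s⁻¹ ∈ Z := fun z hz => e.inter ▸
    Subgroup.mem_inf.mpr ⟨hsA' z (e.Z_le_A hz), hsV' z (e.Z_le_V hz)⟩
  have hss : ∀ x : G, s * (s * x * s⁻¹) * s⁻¹ = x := fun x => by
    rw [show s * (s * x * s⁻¹) * s⁻¹ = (s * s) * x * (s * s)⁻¹ by group, hs2]; group
  -- the complement is regular on the centre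
  have hKA : ∀ k ∈ K, A.map (MulAut.conj k).toMonoidHom = A := by
    intro k hk
    rcases e.conj_eq_or (Subgroup.mem_inf.mp hk).2 with ⟨-, h⟩ | ⟨h, -⟩
    · exact h
    · exact absurd ((map_eq_of_mem_normalizer (Subgroup.mem_inf.mp hk).1).symm.trans h) e.ne
  have hHZ : ∀ h ∈ H, ∀ z ∈ Z, h * z * h⁻¹ ∈ Z := by
    intro h hh z hz
    rw [← e.inter]
    refine Subgroup.mem_inf.mpr ⟨(Subgroup.mem_normalizer_iff.mp (Subgroup.mem_inf.mp (hHK hh)).1 z).mp
      (e.Z_le_V hz), ?_⟩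
    rw [← hKA h (hHK hh)]
    exact ⟨z, e.Z_le_A hz, rfl⟩
  have hfree : ∀ h ∈ H, ∀ z ∈ Z, z ≠ 1 → Commute h z → h = 1 := fun h hh z hz hz1 hc =>
    hcit.eq_one (e.elem_V z (e.Z_le_V hz)) hz1 hc (hHodd.of_dvd_nat (H.orderOf_dvd_natCard hh))
  have hreg : ∀ z ∈ Z, z ≠ 1 → ∀ z' ∈ Z, z' ≠ 1 → ∃ h ∈ H, h * z * h⁻¹ = z' := by
    intro z hz hz1 z' hz' hz'1
    let f : H → {w : Z // w ≠ 1} := fun h => ⟨⟨(h : G) * z * (h : G)⁻¹, hHZ h h.2 z hz⟩, fun h' => by
      have h'' : (h : G) * z * (h : G)⁻¹ = 1 := congrArg Subtype.val h'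
      exact hz1 (by rwa [mul_inv_eq_one, mul_eq_left] at h'')⟩
    have hf : Function.Injective f := by
      intro p r hpr
      have h' : (p : G) * z * (p : G)⁻¹ = r * z * (r : G)⁻¹ :=
        congrArg (fun w : {w : Z // w ≠ 1} => ((w : Z) : G)) hpr
      refine Subtype.ext (inv_mul_eq_one.mp (hfree _ (mul_mem (inv_mem p.2) r.2) z hz hz1 ?_))
      show (p : G)⁻¹ * r * z = z * ((p : G)⁻¹ * r)
      calc (p : G)⁻¹ * r * z = (p : G)⁻¹ * ((r : G) * z * (r : G)⁻¹) * r := by group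
        _ = (p : G)⁻¹ * ((p : G) * z * (p : G)⁻¹) * r := by rw [h']
        _ = _ := by group
    have hc : Nat.card {w : Z // w ≠ 1} = Nat.card H := by
      haveI := Fintype.ofFinite Z
      rw [Nat.card_eq_fintype_card, Fintype.card_subtype_compl, Fintype.card_subtype_eq,
        ← Nat.card_eq_fintype_card, e.card_Z, hHc]
    obtain ⟨h, hh⟩ := ((Nat.bijective_iff_injective_and_card f).mpr ⟨hf, hc.symm⟩).2
      ⟨⟨z', hz'⟩, fun h => hz'1 (congrArg Subtype.val h)⟩
    exact ⟨h, h.2, congrArg (fun w : {w : Z // w ≠ 1} => ((w : Z) : G)) hh⟩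
  have hzcomm : ∀ z ∈ Z, ∀ w ∈ Z, Commute z w := fun z hz w hw => e.central z hz w (e.Z_le_T hw)
  have hz2 : ∀ z ∈ Z, z * z = 1 := fun z hz => e.elem_V z (e.Z_le_V hz)
  -- the fixed points on the centre
  obtain ⟨z₀, hz₀, hz₀1, hz₀s⟩ : ∃ z ∈ Z, z ≠ 1 ∧ s * z * s⁻¹ = z := by
    obtain ⟨z, hz, hz1⟩ : ∃ z ∈ Z, z ≠ 1 := by
      by_contra! hc
      have h := e.card_Z
      rw [show Z = ⊥ from eq_bot_iff.mpr fun z hz => Subgroup.mem_bot.mpr (hc z hz),
        Subgroup.card_bot] at h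
      omega
    by_cases h : z * (s * z * s⁻¹) = 1
    · exact ⟨z, hz, hz1, by rw [← mul_eq_one_iff_inv_eq.mp h, inv_eq_self (hz2 z hz)]⟩
    · refine ⟨_, mul_mem hz (hsZ z hz), h, ?_⟩
      rw [show s * (z * (s * z * s⁻¹)) * s⁻¹ = s * z * s⁻¹ * (s * (s * z * s⁻¹) * s⁻¹) by group,
        hss, (hzcomm _ (hsZ z hz) z hz).eq]
  have hfix : ∀ z ∈ Z, s * z * s⁻¹ = z → z = 1 ∨ z = z₀ := by
    intro z hz hzs
    by_cases hz1 : z = 1
    · exact Or.inl hz1
    refine Or.inr ?_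
    obtain ⟨h, hh, he⟩ := hreg z₀ hz₀ hz₀1 z hz hz1
    have h2 : h⁻¹ * z₀ * h = z := by
      rw [← hzs, ← he, show s * (h * z₀ * h⁻¹) * s⁻¹
        = (s * h * s⁻¹) * (s * z₀ * s⁻¹) * (s * h * s⁻¹)⁻¹ by group, hz₀s, hinv h hh, inv_inv]
    have hc : Commute (h * h) z₀ := by
      show h * h * z₀ = z₀ * (h * h)
      calc h * h * z₀ = h * (h * z₀ * h⁻¹) * h := by group
        _ = h * (h⁻¹ * z₀ * h) * h := by rw [he, ← h2]
        _ = _ := by group
    have hh1 : h = 1 := eq_one_of_odd_two (hHodd.of_dvd_nat (H.orderOf_dvd_natCard hh)) (k := 1)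
      (by rw [pow_one, pow_two]; exact hfree _ (mul_mem hh hh) z₀ hz₀ hz₀1 hc)
    rw [← he, hh1, one_mul, inv_one, mul_one]
  have hmap : ∀ z ∈ Z, z * (s * z * s⁻¹) = 1 ∨ z * (s * z * s⁻¹) = z₀ := fun z hz => by
    refine hfix _ (mul_mem hz (hsZ z hz)) ?_
    rw [show s * (z * (s * z * s⁻¹)) * s⁻¹ = s * z * s⁻¹ * (s * (s * z * s⁻¹) * s⁻¹) by group,
      hss, (hzcomm _ (hsZ z hz) z hz).eq]
  obtain ⟨w, hw, hwz⟩ : ∃ w ∈ Z, w * (s * w * s⁻¹) = z₀ := by
    by_contra! hc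
    have hall : ∀ z ∈ Z, z = 1 ∨ z = z₀ := fun z hz => by
      refine hfix z hz ?_
      rw [← mul_eq_one_iff_inv_eq.mp ((hmap z hz).resolve_right (hc z hz)), inv_eq_self (hz2 z hz)]
    have hle : Nat.card Z ≤ Nat.card (Fin 2) := by
      refine Nat.card_le_card_of_surjective ![⟨1, one_mem Z⟩, ⟨z₀, hz₀⟩] fun z => ?_
      rcases hall z z.2 with h | h
      · exact ⟨0, Subtype.ext h.symm⟩
      · exact ⟨1, Subtype.ext h.symm⟩
    rw [e.card_Z, Nat.card_fin] at hle
    omega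
  have hq4 : q ≤ 4 := by
    have hle : Nat.card Z ≤ Nat.card (Fin 2 × Fin 2) := by
      refine Nat.card_le_card_of_surjective
        (fun p : Fin 2 × Fin 2 => (![1, ⟨w, hw⟩] p.1 : Z) * ![1, ⟨z₀, hz₀⟩] p.2) fun z => ?_
      rcases hmap z z.2 with h | h
      · rcases hfix z z.2 (by
          rw [← mul_eq_one_iff_inv_eq.mp h, inv_eq_self (hz2 z z.2)]) with h' | h'
        · exact ⟨(0, 0), Subtype.ext (by simp [h'])⟩
        · exact ⟨(0, 1), Subtype.ext (by simp [h'])⟩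
      · have hfw : s * (w * z) * s⁻¹ = w * z := by
          have e1 : s * (z : G) * s⁻¹ = z * z₀ := by
            rw [← h, ← mul_assoc, hz2 z z.2, one_mul]
          have e2 : s * w * s⁻¹ = w * z₀ := by
            rw [← hwz, ← mul_assoc, hz2 w hw, one_mul]
          rw [show s * (w * z) * s⁻¹ = (s * w * s⁻¹) * (s * z * s⁻¹) by group, e1, e2,
            show w * z₀ * ((z : G) * z₀) = w * (z₀ * z) * z₀ by group,
            (hzcomm z₀ hz₀ z z.2).eq, show w * ((z : G) * z₀) * z₀ = w * z * (z₀ * z₀) by group,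
            hz2 z₀ hz₀, mul_one]
        rcases hfix _ (mul_mem hw z.2) hfw with h' | h'
        · refine ⟨(1, 0), Subtype.ext ?_⟩
          simp only [Matrix.cons_val_one, Matrix.cons_val_zero, Matrix.cons_val_fin_one, mul_one]
          exact (inv_eq_self (hz2 w hw)).symm.trans (mul_eq_one_iff_inv_eq.mp h')
        · refine ⟨(1, 1), Subtype.ext ?_⟩
          simp only [Matrix.cons_val_one, Matrix.cons_val_fin_one, Subgroup.coe_mul]
          rw [← h', ← mul_assoc, hz2 w hw, one_mul]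
    rw [e.card_Z, Nat.card_prod, Nat.card_fin] at hle
    exact hle
  have hq4' : q = 4 := by
    have : 2 ^ a ≤ 2 ^ 2 := ha ▸ hq4
    have := (Nat.pow_le_pow_iff_right one_lt_two).mp this
    rw [ha, show a = 2 by omega]; norm_num
  subst hq4'
  -- one class of involutions
  have hST : ∀ x ∈ (S : Subgroup G), x ∈ T ∨ x * s ∈ T := by
    intro x hx
    by_cases hxT : x ∈ T
    · exact Or.inl hxT
    · exact Or.inr (by
        have := (Subgroup.mul_mem_iff_of_index_two hidxS (a := ⟨x, hx⟩) (b := ⟨s, hsS⟩)).mpr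
          (iff_of_false hxT hsT)
        exact this)
  obtain ⟨g, hg⟩ : ∃ g : G, g * z₀ * g⁻¹ = s := by
    rcases Transfer.thompson_transfer S hidxS hs2 hsS hsT with ⟨M, -, hM2, -⟩ | ⟨g, hgS, hgT⟩
    · exact absurd hM2 (no_index_two hnc M)
    have hcl : ∀ v ∈ V, v ≠ 1 → ∃ f, f * z₀ * f⁻¹ = v := fun v hv hv1 => by
      obtain ⟨f, -, hf⟩ := d.trans z₀ (e.Z_le_V hz₀) hz₀1 v hv hv1
      exact ⟨f, hf⟩
    set u := g * s * g⁻¹ with hu
    have hu2 : u * u = 1 := by
      rw [hu, show g * s * g⁻¹ * (g * s * g⁻¹) = g * (s * s) * g⁻¹ by group, hs2]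
      group
    have hu1 : u ≠ 1 := fun h => hs1 (by
      rw [show s = g⁻¹ * (g * s * g⁻¹) * g by group, ← hu, h]; group)
    obtain ⟨f, hf⟩ : ∃ f, f * z₀ * f⁻¹ = u := by
      rcases e.invol u hgT hu2 with hv | ha'
      · exact hcl u hv hu1
      · obtain ⟨f, hf⟩ := hcl _ (hsA' u ha') (fun h => hu1 (by
          have := hss u; rw [h] at this; rw [← this]; group))
        exact ⟨s * f, by rw [show s * f * z₀ * (s * f)⁻¹ = s * (f * z₀ * f⁻¹) * s⁻¹ by group, hf, hss]⟩
    refine ⟨g⁻¹ * f, ?_⟩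
    rw [show g⁻¹ * f * z₀ * (g⁻¹ * f)⁻¹ = g⁻¹ * (f * z₀ * f⁻¹) * g by group, hf, hu]
    group
  have hCz : Subgroup.centralizer ({z₀} : Set G) = (S : Subgroup G) := by
    refine S.3 (hcit z₀ (orderOf_two (hz2 z₀ hz₀) hz₀1)) fun x hx => ?_
    rw [Subgroup.mem_centralizer_singleton_iff]
    rcases hST x hx with h | h
    · exact (e.central z₀ hz₀ x h).symm.eq
    · have h1 : Commute (x * s) z₀ := (e.central z₀ hz₀ _ h).symm
      have h2 : Commute s z₀ := mul_inv_eq_iff_eq_mul.mp hz₀s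
      have := h1.mul_left h2.inv_left
      rw [mul_inv_cancel_right] at this
      exact this.eq
  set c := (MulAut.conj g).toMonoidHom with hc
  have e' := e.map c (MulEquiv.injective (MulAut.conj g))
  have hCs : ∀ x, x ∈ Subgroup.centralizer ({s} : Set G) ↔ g⁻¹ * x * g ∈ (S : Subgroup G) := by
    intro x
    rw [← hCz, Subgroup.mem_centralizer_singleton_iff, Subgroup.mem_centralizer_singleton_iff,
      ← hg]
    constructor
    · intro h
      calc g⁻¹ * x * g * z₀ = g⁻¹ * (x * (g * z₀ * g⁻¹)) * g := by group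
        _ = g⁻¹ * ((g * z₀ * g⁻¹) * x) * g := by rw [h]
        _ = _ := by group
    · intro h
      calc x * (g * z₀ * g⁻¹) = g * (g⁻¹ * x * g * z₀) * g⁻¹ := by group
        _ = g * (z₀ * (g⁻¹ * x * g)) * g⁻¹ := by rw [h]
        _ = _ := by group
  have hz₀T' : g⁻¹ * z₀ * g ∉ T := by
    intro hmem
    obtain ⟨E, hEc, hE2, hsE, hzE⟩ : ∃ E : Subgroup G, Nat.card E = 4 * 4 ∧
        (∀ x ∈ E, x * x = 1) ∧ s ∈ E ∧ z₀ ∈ E := by
      have hsZ' : s ∈ Z.map c := ⟨z₀, hz₀, hg⟩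
      rcases e'.invol z₀ (map_conj_mem.mpr hmem) (hz2 z₀ hz₀) with h | h
      · exact ⟨_, e'.card_V, e'.elem_V, e'.Z_le_V hsZ', h⟩
      · exact ⟨_, e'.card_A, e'.elem_A, e'.Z_le_A hsZ', h⟩
    have hES : E ≤ (S : Subgroup G) := fun x hx => by
      rw [← hCz, Subgroup.mem_centralizer_singleton_iff]
      exact (commute_of_invol hE2 hx hzE).eq
    have hbig := card_le_two_mul_inf hES hidxS
    have hinZ : E ⊓ T ≤ Z := by
      intro x hx
      obtain ⟨hxE, hxT⟩ := Subgroup.mem_inf.mp hx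
      have hfx : s * x * s⁻¹ = x := by
        rw [(commute_of_invol hE2 hsE hxE).eq, mul_inv_cancel_right]
      rw [← e.inter]
      rcases e.invol x hxT (hE2 x hxE) with h | h
      · exact Subgroup.mem_inf.mpr ⟨h, hfx ▸ hsV' x h⟩
      · exact Subgroup.mem_inf.mpr ⟨hfx ▸ hsA' x h, h⟩
    have := Subgroup.card_le_of_le hinZ
    rw [e.card_Z] at this
    omega
  -- an element of order four centralising the involution
  obtain ⟨v, hv, hvZ⟩ := e.exists_V_not_mem
  set b := s * v * s⁻¹ with hb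
  have hbA : b ∈ A := hsV' v hv
  have hbi := inv_eq_self (e.elem_A b hbA)
  have hvi := inv_eq_self (e.elem_V v hv)
  set z' := b * v * b⁻¹ * v⁻¹ with hz'
  have hz'Z : z' ∈ Z := e.derived b (e.A_le hbA) v (e.V_le hv)
  have hz'eq : z' = z₀ := by
    refine (hfix z' hz'Z ?_).resolve_left fun h => ?_
    · calc s * z' * s⁻¹
          = s * b * s⁻¹ * (s * v * s⁻¹) * (s * b * s⁻¹)⁻¹ * (s * v * s⁻¹)⁻¹ := by rw [hz']; group
        _ = v * b * v⁻¹ * b⁻¹ := by rw [← hb, show s * b * s⁻¹ = v from hss v]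
        _ = z'⁻¹ := by rw [hz']; group
        _ = z' := inv_eq_self (hz2 z' hz'Z)
    · have hcomm : Commute b v := mul_inv_eq_iff_eq_mul.mp (mul_inv_eq_one.mp h)
      rcases e.comm v hv b hbA hcomm.symm with h1 | h1
      · exact hvZ h1
      · refine hvZ ?_
        rw [← hss v]
        exact hsZ b h1
  have hbv : b * v = z₀ * (v * b) := by rw [← hz'eq, hz']; group
  set x := v * b * w with hx
  have hxT : x ∈ T := mul_mem (mul_mem (e.V_le hv) (e.A_le hbA)) (e.Z_le_T hw)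
  have hsw' : s * w * s⁻¹ = w * z₀ := by rw [← hwz, ← mul_assoc, hz2 w hw, one_mul]
  have hxs : s * x * s⁻¹ = x := by
    have h1 : s * x * s⁻¹ = (s * v * s⁻¹) * (s * b * s⁻¹) * (s * w * s⁻¹) := by rw [hx]; group
    rw [h1, ← hb, show s * b * s⁻¹ = v from hss v, hsw', hbv, hx]
    rw [show z₀ * (v * b) * (w * z₀) = z₀ * ((v * b * w) * z₀) by group,
      ← (e.central z₀ hz₀ (v * b * w) hxT).eq, ← mul_assoc z₀, hz2 z₀ hz₀, one_mul]
  have hxC : g⁻¹ * x * g ∈ (S : Subgroup G) := (hCs x).mp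
    (Subgroup.mem_centralizer_singleton_iff.mpr (mul_inv_eq_iff_eq_mul.mp hxs).symm)
  have hxx : x * x = z₀ := by
    have hwc : ∀ t ∈ T, w * t = t * w := fun t ht => (e.central w hw t ht).eq
    rw [hx, show v * b * w * (v * b * w) = v * b * (w * (v * b)) * w by group,
      hwc _ (mul_mem (e.V_le hv) (e.A_le hbA)),
      show v * b * (v * b * w) * w = v * (b * v) * b * (w * w) by group, hz2 w hw, mul_one, hbv,
      show v * (z₀ * (v * b)) * b = v * z₀ * v * (b * b) by group, e.elem_A b hbA, mul_one,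
      ← (e.central z₀ hz₀ v (e.V_le hv)).eq, mul_assoc, e.elem_V v hv, mul_one]
  refine hz₀T' ?_
  have := Subgroup.mul_self_mem_of_index_two hidxS (⟨_, hxC⟩ : (S : Subgroup G))
  rw [Subgroup.mem_subgroupOf] at this
  have h2 : g⁻¹ * x * g * (g⁻¹ * x * g) ∈ T := this
  rwa [show g⁻¹ * x * g * (g⁻¹ * x * g) = g⁻¹ * (x * x) * g by group, hxx] at h2

end CfsgLib.CIT
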