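import Mathlib
import Cfsg.Agent.Lib.CIT.Split
import Cfsg.Agent.Lib.CIT.CaseProper

/-!
Two exceptional local subgroups over one Sylow `2`-subgroup: the commutator pairing forces `q ≤ 8`.
-/

set_option autoImplicit false
set_option linter.unusedSectionVars false
set_option linter.style.haveILetI false

namespace CfsgLib.CIT

open Polynomial

universe u

/-- A form `s ↦ (1 + s)⁻¹ + 1 + s⁻¹` is additive only on fields with at most eight elements. -/
theorem card_le_eight_of_polar {F : Type*} [Field F] [Finite F] (h2 : ∀ x : F, x + x = 0)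
    (m : F →+ F) (hm : ∀ s, s ≠ 0 → s ≠ 1 → m s = (1 + s)⁻¹ + 1 + s⁻¹) : Nat.card F ≤ 8 := by
  classical
  haveI := Fintype.ofFinite F
  rw [Nat.card_eq_fintype_card]
  by_contra hlt
  obtain ⟨s₀, -, hs₀⟩ := Finset.exists_mem_notMem_of_card_lt_card
    (show ({0, 1} : Finset F).card < (Finset.univ : Finset F).card by
      have h1 := Finset.card_le_two (a := (0 : F)) (b := 1)
      rw [Finset.card_univ]
      omega)
  simp only [Finset.mem_insert, Finset.mem_singleton, not_or] at hs₀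
  obtain ⟨hs00, hs01⟩ := hs₀
  have hne : ∀ s : F, s ≠ 1 → 1 + s ≠ 0 := fun s hs e => hs (by
    calc s = (1 + 1) + s := by rw [h2 1, zero_add]
      _ = 1 + (1 + s) := by ring
      _ = 1 := by rw [e, add_zero])
  have hinv : ∀ s : F, s ≠ 0 → s ≠ 1 → m s = 1 + (s * s + s)⁻¹ := by
    intro s h0 h1
    rw [hm s h0 h1]
    have h1s := hne s h1
    calc (1 + s)⁻¹ + 1 + s⁻¹ = 1 + (s⁻¹ + (1 + s)⁻¹) := by ring
      _ = 1 + (s + (1 + s)) / (s * (1 + s)) := by rw [inv_add_inv h0 h1s]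
      _ = 1 + (s * s + s)⁻¹ := by
        rw [show s + (1 + s) = 1 by rw [add_left_comm, h2 s, add_zero], one_div,
          show s * (1 + s) = s * s + s by ring]
  set u₀ := s₀ * s₀ + s₀ with hu₀
  have hu₀0 : u₀ ≠ 0 := by
    rw [hu₀, show s₀ * s₀ + s₀ = s₀ * (1 + s₀) by ring]
    exact mul_ne_zero hs00 (hne _ hs01)
  set p : F[X] := C (1 + u₀) * (X ^ 2 + X) ^ 2 + C (u₀ + u₀ * u₀) * (X ^ 2 + X) + C (u₀ * u₀)
    with hp
  have heval : ∀ s : F, p.eval s =
      (1 + u₀) * (s * s + s) ^ 2 + (u₀ + u₀ * u₀) * (s * s + s) + u₀ * u₀ := fun s => by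
    simp [hp, pow_two]
  have hp0 : p ≠ 0 := fun e => by
    have h := heval 0
    rw [e] at h
    simp at h
    exact hu₀0 h
  have hdeg : p.natDegree ≤ 4 := by
    rw [hp]
    compute_degree
  have hroots : ∀ s ∈ (Finset.univ : Finset F) \ {0, 1, s₀, 1 + s₀}, p.eval s = 0 := by
    intro s hs
    simp only [Finset.mem_sdiff, Finset.mem_univ, true_and, Finset.mem_insert,
      Finset.mem_singleton, not_or] at hs
    obtain ⟨h0, h1, hne0, hne1⟩ := hs
    have e0 : s + s₀ ≠ 0 := fun e => hne0 (by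
      calc s = s + (s₀ + s₀) := by rw [h2 s₀, add_zero]
        _ = (s + s₀) + s₀ := by ring
        _ = s₀ := by rw [e, zero_add])
    have e1 : s + s₀ ≠ 1 := fun e => hne1 (by
      calc s = s + (s₀ + s₀) := by rw [h2 s₀, add_zero]
        _ = (s + s₀) + s₀ := by ring
        _ = 1 + s₀ := by rw [e])
    have hv0 : s * s + s ≠ 0 := by
      rw [show s * s + s = s * (1 + s) by ring]; exact mul_ne_zero h0 (hne _ h1)
    have hsum : (s + s₀) * (s + s₀) + (s + s₀) = (s * s + s) + u₀ := by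
      rw [hu₀]; linear_combination s * s₀ * h2 1
    have huv : (s * s + s) + u₀ ≠ 0 := by
      rw [← hsum, show (s + s₀) * (s + s₀) + (s + s₀) = (s + s₀) * (1 + (s + s₀)) by ring]
      exact mul_ne_zero e0 (hne _ e1)
    have h := m.map_add s s₀
    rw [hinv s h0 h1, hinv s₀ hs00 hs01, hinv _ e0 e1, hsum] at h
    rw [heval]
    set v := s * s + s
    set w := (v + u₀)⁻¹
    have ha : (v + u₀) * w = 1 := mul_inv_cancel₀ huv
    have hb : v * v⁻¹ = 1 := mul_inv_cancel₀ hv0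
    have hc : u₀ * u₀⁻¹ = 1 := mul_inv_cancel₀ hu₀0
    have h' : w = 1 + v⁻¹ + u₀⁻¹ := by linear_combination h
    linear_combination -(u₀ * v * (v + u₀)) * h' + u₀ * v * ha - (v + u₀) * u₀ * hb -
      (v + u₀) * v * hc
  have hcard := Polynomial.card_le_degree_of_subset_roots (p := p)
    (Z := (Finset.univ : Finset F) \ {0, 1, s₀, 1 + s₀}) fun s hs => by
      rw [Polynomial.mem_roots hp0]
      exact hroots s hs
  have h4 : ({0, 1, s₀, 1 + s₀} : Finset F).card ≤ 4 := Finset.card_le_four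
  have h5 := Finset.le_card_sdiff ({0, 1, s₀, 1 + s₀} : Finset F) Finset.univ
  rw [Finset.card_univ] at h5
  omega

variable {G : Type u} [Group G] [Finite G]

theorem Expl.exists_two_pow {T V A Z : Subgroup G} {q : ℕ} (e : Expl T V A Z q) :
    ∃ a : ℕ, 1 ≤ a ∧ q = 2 ^ a := by
  haveI : Fact (Nat.Prime 2) := ⟨Nat.prime_two⟩
  obtain ⟨j, hj⟩ := (isPGroup_of_invol e.elem_V).exists_card_eq
  rw [e.card_V] at hj
  obtain ⟨a, -, ha⟩ := (Nat.dvd_prime_pow Nat.prime_two).mp (hj ▸ dvd_mul_right q q)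
  refine ⟨a, ?_, ha⟩
  rcases a with _ | a
  · rw [ha, pow_zero] at e
    exact absurd e.one_lt (lt_irrefl 1)
  · omega

theorem Expl.q_sub_one_odd {T V A Z : Subgroup G} {q : ℕ} (e : Expl T V A Z q) :
    Odd (q - 1) := by
  obtain ⟨a, ha1, ha⟩ := e.exists_two_pow
  obtain ⟨r, hr⟩ : 2 ∣ q := ha ▸ dvd_pow_self 2 (by omega)
  have := e.one_lt
  exact ⟨r - 1, by omega⟩

/-- A complement of odd order in the normaliser of the Sylow subgroup. -/
theorem Expl.exists_torus {T V A Z : Subgroup G} {q : ℕ} (e : Expl T V A Z q) {K : Subgroup G}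
    (hTK : T ≤ K) (hKT : K ≤ Subgroup.normalizer (T : Set G))
    (hK : Nat.card K = q * q * q * (q - 1)) :
    ∃ H : Subgroup G, H ≤ K ∧ Nat.card H = q - 1 ∧ Odd (Nat.card H) := by
  haveI : (T.subgroupOf K).Normal := (Subgroup.normal_subgroupOf_iff_le_normalizer hTK).mpr hKT
  have hcT : Nat.card (T.subgroupOf K) = q * q * q := by
    rw [Nat.card_congr (Subgroup.subgroupOfEquivOfLe hTK).toEquiv, e.card_T]
  have hq := e.q_pos
  have hidx : (T.subgroupOf K).index = q - 1 := by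
    have h := (T.subgroupOf K).card_mul_index
    rw [hcT, hK] at h
    exact Nat.eq_of_mul_eq_mul_left (by positivity) h
  obtain ⟨a, ha1, ha⟩ := e.exists_two_pow
  have hcop : (Nat.card (T.subgroupOf K)).Coprime (T.subgroupOf K).index := by
    rw [hcT, hidx]
    have : Nat.Coprime q (q - 1) := by
      nth_rw 1 [ha]
      exact (Nat.coprime_two_left.mpr e.q_sub_one_odd).pow_left _
    exact (this.mul_left this).mul_left this
  obtain ⟨H₀, hH₀⟩ := Subgroup.exists_right_complement'_of_coprime hcop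
  have hc : Nat.card (H₀.map K.subtype) = q - 1 := by
    rw [Subgroup.card_map_of_injective K.subtype_injective]
    have h := hH₀.card_mul_card
    rw [hcT, ← (T.subgroupOf K).card_mul_index, hcT, hidx] at h
    exact Nat.eq_of_mul_eq_mul_left (by positivity) h
  exact ⟨H₀.map K.subtype, Subgroup.map_subtype_le _, hc, hc ▸ e.q_sub_one_odd⟩

/-- With two exceptional local subgroups over the Sylow subgroup, `q ≤ 8`. -/
theorem two_locals_bound (hcit : IsCIT G) {S V A Z : Subgroup G} {q : ℕ}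
    (d : LocalData (Subgroup.normalizer (V : Set G)) S V A Z q)
    (d' : LocalData (Subgroup.normalizer (A : Set G)) S A V Z q)
    (hNV : Subgroup.normalizer (S : Set G) ≤ Subgroup.normalizer (V : Set G)) : q ≤ 8 := by
  classical
  have e := d.expl
  by_contra hq8
  have hNA : Subgroup.normalizer (S : Set G) ≤ Subgroup.normalizer (A : Set G) := by
    intro x hx
    rcases e.conj_eq_or hx with ⟨-, h⟩ | ⟨h, -⟩
    · exact mem_normalizer_of_map_eq h
    · exact absurd ((map_eq_of_mem_normalizer (hNV hx)).symm.trans h) e.ne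
  have hcN : Nat.card (Subgroup.normalizer (S : Set G)) = q * q * q * (q - 1) := by
    rw [← d.card_N, inf_eq_right.mpr hNV]
  obtain ⟨H, hHN, hHc, hHo⟩ := e.exists_torus Subgroup.le_normalizer le_rfl hcN
  obtain ⟨w, hwL, hw, hwZ⟩ := d.inverting H (hHN.trans hNV) hHN hHo hHc
  obtain ⟨w', hw'L, hw', hw'Z⟩ := d'.inverting H (hHN.trans hNA) hHN hHo hHc
  have hZS : Z ≤ S := e.Z_le_T
  have hHV : ∀ h ∈ H, ∀ v ∈ V, h * v * h⁻¹ ∈ V := fun h hh v hv =>
    (Subgroup.mem_normalizer_iff.mp (hNV (hHN hh)) v).mp hv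
  have hHA : ∀ h ∈ H, ∀ a ∈ A, h * a * h⁻¹ ∈ A := fun h hh a ha =>
    (Subgroup.mem_normalizer_iff.mp (hNA (hHN hh)) a).mp ha
  have hHZ : ∀ h ∈ H, ∀ z ∈ Z, h * z * h⁻¹ ∈ Z := fun h hh z hz => e.inter ▸
    Subgroup.mem_inf.mpr ⟨hHV h hh z (e.Z_le_V hz), hHA h hh z (e.Z_le_A hz)⟩
  have hwV : ∀ v ∈ V, w * v * w⁻¹ ∈ V := fun v hv => (Subgroup.mem_normalizer_iff.mp hwL v).mp hv
  have hw'A : ∀ a ∈ A, w' * a * w'⁻¹ ∈ A := fun a ha =>
    (Subgroup.mem_normalizer_iff.mp hw'L a).mp ha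
  -- the torus is abelian
  have hHcomm : ∀ a ∈ H, ∀ b ∈ H, a * b = b * a := by
    intro a ha b hb
    have hm : a⁻¹ * b⁻¹ * a * b ∈ V := by
      have h1 : a⁻¹ * b⁻¹ * a * b =
          (w * a * w⁻¹ * a * (a⁻¹ * (w * b * w⁻¹ * b) * a))⁻¹ * (w * (a * b) * w⁻¹ * (a * b)) := by
        group
      rw [h1]
      refine mul_mem (inv_mem (mul_mem (hw a ha) ?_)) (hw _ (mul_mem ha hb))
      have := hHV a⁻¹ (inv_mem ha) _ (hw b hb)
      rwa [inv_inv] at this
    have hmH : a⁻¹ * b⁻¹ * a * b ∈ H :=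
      mul_mem (mul_mem (mul_mem (inv_mem ha) (inv_mem hb)) ha) hb
    have h1 := eq_one_of_odd_mem (isPGroup_of_invol e.elem_V) hm
      (hHo.of_dvd_nat (H.orderOf_dvd_natCard hmH))
    calc a * b = b * a * (a⁻¹ * b⁻¹ * a * b) := by group
      _ = b * a := by rw [h1, mul_one]
  -- the pairing
  let vv : G → G := fun x => w * x * w⁻¹
  let aa : G → G := fun y => w' * y * w'⁻¹
  let P : G → G → G := fun x y => vv x * aa y * (vv x)⁻¹ * (aa y)⁻¹
  have hvV : ∀ x ∈ Z, vv x ∈ V := fun x hx => hwV x (e.Z_le_V hx)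
  have haA : ∀ y ∈ Z, aa y ∈ A := fun y hy => hw'A y (e.Z_le_A hy)
  have hPZ : ∀ x ∈ Z, ∀ y ∈ Z, P x y ∈ Z := fun x hx y hy =>
    e.derived _ (e.V_le (hvV x hx)) _ (e.A_le (haA y hy))
  have hcen : ∀ z ∈ Z, ∀ t ∈ S, t * z * t⁻¹ = z := fun z hz t ht => by
    rw [← (e.central z hz t ht).eq, mul_inv_cancel_right]
  have hPadd₁ : ∀ x ∈ Z, ∀ x' ∈ Z, ∀ y ∈ Z, P (x * x') y = P x y * P x' y := by
    intro x hx x' hx' y hy
    have h1 : P (x * x') y = vv x * P x' y * (vv x)⁻¹ * P x y := by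
      simp only [P, vv, aa]; group
    rw [h1, hcen _ (hPZ x' hx' y hy) _ (e.V_le (hvV x hx))]
    exact (e.central _ (hPZ x' hx' y hy) _ (hZS (hPZ x hx y hy))).eq
  have hPadd₂ : ∀ x ∈ Z, ∀ y ∈ Z, ∀ y' ∈ Z, P x (y * y') = P x y * P x y' := by
    intro x hx y hy y' hy'
    have h1 : P x (y * y') = P x y * (aa y * P x y' * (aa y)⁻¹) := by
      simp only [P, vv, aa]; group
    rw [h1, hcen _ (hPZ x hx y' hy') _ (e.A_le (haA y hy))]
  have hPne : ∀ x ∈ Z, x ≠ 1 → ∀ y ∈ Z, y ≠ 1 → P x y ≠ 1 := by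
    intro x hx hx1 y hy hy1 h
    have hc : Commute (vv x) (aa y) := mul_inv_eq_iff_eq_mul.mp (mul_inv_eq_one.mp h)
    rcases e.comm _ (hvV x hx) _ (haA y hy) hc with h' | h'
    · exact hx1 (hwZ x hx h')
    · exact hy1 (hw'Z y hy h')
  have hPequiv : ∀ h ∈ H, ∀ x ∈ Z, ∀ y ∈ Z,
      h * P x y * h⁻¹ = P (h⁻¹ * x * h) (h⁻¹ * y * h) := by
    intro h hh x hx y hy
    have key : ∀ (W : Subgroup G) (u : G), (∀ a ∈ W, a * a = 1) →
        u * h⁻¹ * u⁻¹ * h⁻¹ ∈ W → ∀ z : G, u * (h⁻¹ * z * h) * u⁻¹ ∈ W →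
        h * (u * z * u⁻¹) * h⁻¹ = u * (h⁻¹ * z * h) * u⁻¹ := by
      intro W u hW hm z hz
      set m := u * h⁻¹ * u⁻¹ * h⁻¹ with hm'
      set z' := u * (h⁻¹ * z * h) * u⁻¹ with hz'
      have e1 : h * (u * z * u⁻¹) * h⁻¹ = m⁻¹ * z' * m := by rw [hm', hz']; group
      rw [e1, mul_assoc, ← (commute_of_invol hW hm hz).eq, inv_mul_cancel_left]
    have hx' : h⁻¹ * x * h ∈ Z := by
      have := hHZ h⁻¹ (inv_mem hh) x hx; rwa [inv_inv] at this
    have hy' : h⁻¹ * y * h ∈ Z := by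
      have := hHZ h⁻¹ (inv_mem hh) y hy; rwa [inv_inv] at this
    have e1 := key V w e.elem_V (hw h⁻¹ (inv_mem hh)) x (hvV _ hx')
    have e2 := key A w' e.elem_A (hw' h⁻¹ (inv_mem hh)) y (haA _ hy')
    calc h * P x y * h⁻¹
        = (h * vv x * h⁻¹) * (h * aa y * h⁻¹) * (h * vv x * h⁻¹)⁻¹ * (h * aa y * h⁻¹)⁻¹ := by
          simp only [P]; group
      _ = P (h⁻¹ * x * h) (h⁻¹ * y * h) := by
          simp only [P, vv, aa] at *
          rw [e1, e2]
  -- the field
  letI : CommGroup Z :=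
    { (inferInstance : Group Z) with
      mul_comm := fun a b => Subtype.ext (e.central a a.2 b (hZS b.2)).eq }
  let M := Additive Z
  haveI : Finite M := inferInstanceAs (Finite Z)
  let ρ : H →* AddMonoid.End M :=
    { toFun := fun h => MonoidHom.toAdditive
        { toFun := fun z : Z => (⟨(h : G) * z * (h : G)⁻¹, hHZ h h.2 z z.2⟩ : Z)
          map_one' := Subtype.ext (by simp)
          map_mul' := fun a b => Subtype.ext (by simp [mul_assoc]) }
      map_one' := by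
        refine DFunLike.ext _ _ fun z => Additive.toMul.injective (Subtype.ext ?_)
        show (1 : G) * ((Additive.toMul z : Z) : G) * (1 : G)⁻¹ = ((Additive.toMul z : Z) : G)
        group
      map_mul' := fun a b => by
        refine DFunLike.ext _ _ fun z => Additive.toMul.injective (Subtype.ext ?_)
        show (a : G) * (b : G) * ((Additive.toMul z : Z) : G) * ((a : G) * (b : G))⁻¹ =
          (a : G) * ((b : G) * ((Additive.toMul z : Z) : G) * (b : G)⁻¹) * (a : G)⁻¹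
        group }
  have hρ : ∀ (h : H) (z : Z), ((Additive.toMul (ρ h (Additive.ofMul z)) : Z) : G) =
      (h : G) * z * (h : G)⁻¹ := fun _ _ => rfl
  let R : Subring (AddMonoid.End M) := Subring.closure (Set.range ρ)
  haveI hRc : IsMulCommutative R := Subring.isMulCommutative_closure (by
    rintro _ ⟨a, rfl⟩ _ ⟨b, rfl⟩
    rw [← map_mul, ← map_mul, show a * b = b * a from Subtype.ext (hHcomm a a.2 b b.2)])
  have hcomm : ∀ r s : R, r * s = s * r := fun r s => mul_comm' r s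
  have hmem : ∀ h : H, ρ h ∈ R := fun h => Subring.subset_closure ⟨h, rfl⟩
  obtain ⟨z₀, hz₀, hz₀1⟩ : ∃ z ∈ Z, z ≠ 1 := by
    by_contra! hc
    have h := e.card_Z
    rw [show Z = ⊥ from eq_bot_iff.mpr fun z hz => Subgroup.mem_bot.mpr (hc z hz),
      Subgroup.card_bot] at h
    have := e.one_lt
    omega
  let m₀ : M := Additive.ofMul (⟨z₀, hz₀⟩ : Z)
  have hreg : ∀ x : M, x ≠ 0 → ∃ h : H, ρ h m₀ = x := by
    let f : H → {x : M // x ≠ 0} := fun h => ⟨ρ h m₀, fun h0 => hz₀1 (by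
      have h1 : (h : G) * z₀ * (h : G)⁻¹ = 1 :=
        congrArg (fun x : M => ((Additive.toMul x : Z) : G)) h0
      rwa [mul_inv_eq_one, mul_eq_left] at h1)⟩
    have hf : Function.Injective f := by
      intro a b hab
      have h' : (a : G) * z₀ * (a : G)⁻¹ = (b : G) * z₀ * (b : G)⁻¹ :=
        congrArg (fun x : {x : M // x ≠ 0} => ((Additive.toMul x.1 : Z) : G)) hab
      refine Subtype.ext (inv_mul_eq_one.mp (hcit.eq_one (e.elem_V z₀ (e.Z_le_V hz₀)) hz₀1 ?_
        (hHo.of_dvd_nat (H.orderOf_dvd_natCard (mul_mem (inv_mem a.2) b.2)))))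
      show (a : G)⁻¹ * b * z₀ = z₀ * ((a : G)⁻¹ * b)
      calc (a : G)⁻¹ * b * z₀ = (a : G)⁻¹ * ((b : G) * z₀ * (b : G)⁻¹) * b := by group
        _ = (a : G)⁻¹ * ((a : G) * z₀ * (a : G)⁻¹) * b := by rw [h']
        _ = _ := by group
    have hc : Nat.card {x : M // x ≠ 0} = Nat.card H := by
      haveI := Fintype.ofFinite M
      rw [Nat.card_eq_fintype_card, Fintype.card_subtype_compl, Fintype.card_subtype_eq,
        ← Nat.card_eq_fintype_card, show Nat.card M = q from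
          (Nat.card_congr Additive.toMul).trans e.card_Z, hHc]
    intro x hx
    obtain ⟨h, hh⟩ := ((Nat.bijective_iff_injective_and_card f).mpr ⟨hf, hc.symm⟩).2 ⟨x, hx⟩
    exact ⟨h, congrArg Subtype.val hh⟩
  let ev : R →+ M :=
    { toFun := fun r => (r : AddMonoid.End M) m₀
      map_zero' := rfl
      map_add' := fun _ _ => rfl }
  have hev : Function.Injective ev := by
    rw [injective_iff_map_eq_zero]
    intro r hr
    refine Subtype.ext (DFunLike.ext _ _ fun x => ?_)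
    by_cases hx : x = 0
    · rw [hx, map_zero, map_zero]
    obtain ⟨h, rfl⟩ := hreg x hx
    have hc : (r : AddMonoid.End M) * ρ h = ρ h * r :=
      congrArg Subtype.val (hcomm r ⟨ρ h, hmem h⟩)
    calc (r : AddMonoid.End M) (ρ h m₀) = ((r : AddMonoid.End M) * ρ h) m₀ := rfl
      _ = (ρ h * (r : AddMonoid.End M)) m₀ := by rw [hc]
      _ = ρ h ((r : AddMonoid.End M) m₀) := rfl
      _ = 0 := by rw [show (r : AddMonoid.End M) m₀ = 0 from hr, map_zero]
  have hsurj : Function.Surjective ev := fun x => by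
    by_cases hx : x = 0
    · exact ⟨0, hx.symm⟩
    · obtain ⟨h, hh⟩ := hreg x hx
      exact ⟨⟨ρ h, hmem h⟩, hh⟩
  haveI : Finite R := Finite.of_injective ev hev
  have hrep : ∀ r : R, r ≠ 0 → ∃ h : H, r = ⟨ρ h, hmem h⟩ := fun r hr => by
    obtain ⟨h, hh⟩ := hreg (ev r) fun h0 => hr (hev (h0.trans ev.map_zero.symm))
    exact ⟨h, hev hh.symm⟩
  letI : CommRing R := { (inferInstance : Ring R) with mul_comm := hcomm }
  haveI : Nontrivial R := ⟨⟨1, 0, fun h => by
    have h1 : m₀ = 0 := congrArg ev h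
    exact hz₀1 (congrArg (fun x : M => ((Additive.toMul x : Z) : G)) h1)⟩⟩
  have hfield : IsField R := by
    refine ⟨exists_pair_ne R, mul_comm, fun {a} ha => ?_⟩
    obtain ⟨h, rfl⟩ := hrep a ha
    refine ⟨⟨ρ h⁻¹, hmem _⟩, Subtype.ext ?_⟩
    show ρ h * ρ h⁻¹ = 1
    rw [← map_mul, mul_inv_cancel, map_one]
  letI : Field R := hfield.toField
  have h2 : ∀ r : R, r + r = 0 := fun r => hev (by
    rw [map_add, map_zero]
    exact Additive.toMul.injective (Subtype.ext (e.elem_V _ (e.Z_le_V (Additive.toMul (ev r)).2))))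
  let evE : R ≃+ M := AddEquiv.ofBijective ev ⟨hev, hsurj⟩
  have hevE : ∀ r : R, evE r = ev r := fun _ => rfl
  let β : R → R → R := fun r s => evE.symm (Additive.ofMul
    (⟨P (Additive.toMul (ev r) : Z) (Additive.toMul (ev s) : Z),
      hPZ _ (Additive.toMul (ev r)).2 _ (Additive.toMul (ev s)).2⟩ : Z))
  have hβ : ∀ r s : R, ((Additive.toMul (ev (β r s)) : Z) : G) =
      P (Additive.toMul (ev r) : Z) (Additive.toMul (ev s) : Z) := fun r s => by
    rw [← hevE]
    simp only [β, AddEquiv.apply_symm_apply, toMul_ofMul]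
  have hext : ∀ r s : R, ((Additive.toMul (ev r) : Z) : G) = (Additive.toMul (ev s) : Z) → r = s :=
    fun r s h => hev (Additive.toMul.injective (Subtype.ext h))
  have hadd : ∀ a b : M, ((Additive.toMul (a + b) : Z) : G) =
      ((Additive.toMul a : Z) : G) * ((Additive.toMul b : Z) : G) := fun _ _ => rfl
  have hβ₁ : ∀ r r' s, β (r + r') s = β r s + β r' s := by
    intro r r' s
    refine hext _ _ ?_
    rw [hβ, ev.map_add, ev.map_add, hadd, hadd, hβ, hβ]
    exact hPadd₁ _ (Additive.toMul (ev r)).2 _ (Additive.toMul (ev r')).2 _ (Additive.toMul (ev s)).2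
  have hβ₂ : ∀ r s s', β r (s + s') = β r s + β r s' := by
    intro r s s'
    refine hext _ _ ?_
    rw [hβ, ev.map_add, ev.map_add, hadd, hadd, hβ, hβ]
    exact hPadd₂ _ (Additive.toMul (ev r)).2 _ (Additive.toMul (ev s)).2 _ (Additive.toMul (ev s')).2
  set c := β 1 1 with hc
  have hc0 : c ≠ 0 := fun h => by
    have h1 := hβ 1 1
    rw [← hc, h, map_zero, toMul_zero, Subgroup.coe_one] at h1
    exact hPne z₀ hz₀ hz₀1 z₀ hz₀ hz₀1 h1.symm
  have hdiag : ∀ r : R, r ≠ 0 → β r r = r⁻¹ * c := by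
    intro r hr
    obtain ⟨h, rfl⟩ := hrep r hr
    refine (eq_inv_mul_iff_mul_eq₀ hr).mpr (hext _ _ ?_)
    show (h : G) * ((Additive.toMul (ev (β _ _)) : Z) : G) * (h : G)⁻¹ = _
    rw [hβ, hc, hβ]
    show (h : G) * P ((h : G) * z₀ * (h : G)⁻¹) ((h : G) * z₀ * (h : G)⁻¹) * (h : G)⁻¹ = P z₀ z₀
    rw [hPequiv h h.2 _ (hHZ h h.2 z₀ hz₀) _ (hHZ h h.2 z₀ hz₀),
      show (h : G)⁻¹ * ((h : G) * z₀ * (h : G)⁻¹) * h = z₀ by group]
  let pol : R →+ R := AddMonoidHom.mk' (fun s => c⁻¹ * (β 1 s + β s 1)) fun s t => by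
    rw [hβ₁, hβ₂]; ring
  have hpol : ∀ s, s ≠ 0 → s ≠ 1 → pol s = (1 + s)⁻¹ + 1 + s⁻¹ := by
    intro s hs0 hs1
    have h1s : 1 + s ≠ 0 := fun h => hs1 (by
      calc s = (1 + 1) + s := by rw [h2 1, zero_add]
        _ = 1 + (1 + s) := by ring
        _ = 1 := by rw [h, add_zero])
    have e1 : β (1 + s) (1 + s) = c + (β 1 s + β s 1) + β s s := by
      rw [hβ₁, hβ₂, hβ₂, hc]; ring
    rw [hdiag _ h1s, hdiag s hs0] at e1
    show c⁻¹ * (β 1 s + β s 1) = _
    have e2 : β 1 s + β s 1 = (1 + s)⁻¹ * c + c + s⁻¹ * c := by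
      linear_combination -e1 - h2 (c + s⁻¹ * c)
    rw [e2]
    field_simp
  have hle := card_le_eight_of_polar h2 pol hpol
  rw [Nat.card_congr evE.toEquiv,
    show Nat.card M = q from (Nat.card_congr Additive.toMul).trans e.card_Z] at hle
  exact hq8 hle

end CfsgLib.CIT
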