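import Mathlib
import Cfsg.Agent.Lib.CIT.Split
import Cfsg.Agent.Lib.CIT.CaseProper
import Cfsg.Agent.Lib.CIT.Bound

/-!
Two exceptional local subgroups over one Sylow `2`-subgroup: the cosets of one of them are the
points of a projective plane of order `q`, the cosets of the other one its lines.
-/

set_option autoImplicit false
set_option linter.unusedSectionVars false
set_option linter.style.haveILetI false

namespace CfsgLib.CIT

universe u

variable {G : Type u} [Group G] [Finite G]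

/-- The points of the line given by `g`: the cosets of `L` meeting `g L'`. -/
def line (L L' : Subgroup G) (g : G) : Set (G ⧸ L) :=
  {p | ∃ y ∈ L', ((g * y : G) : G ⧸ L) = p}

theorem mem_line_self (L L' : Subgroup G) (g : G) : ((g : G) : G ⧸ L) ∈ line L L' g :=
  ⟨1, one_mem L', by rw [mul_one]⟩

theorem smul_mem_line {L L' : Subgroup G} {g : G} {p : G ⧸ L} (h : p ∈ line L L' g) (x : G) :
    x • p ∈ line L L' (x * g) := by
  obtain ⟨y, hy, rfl⟩ := h
  exact ⟨y, hy, by rw [mul_assoc]; rfl⟩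

theorem line_eq {L L' : Subgroup G} {g h : G} (hgh : g⁻¹ * h ∈ L') :
    line L L' g = line L L' h := by
  ext p
  constructor
  · rintro ⟨y, hy, rfl⟩
    exact ⟨(g⁻¹ * h)⁻¹ * y, mul_mem (inv_mem hgh) hy, by group⟩
  · rintro ⟨y, hy, rfl⟩
    exact ⟨g⁻¹ * h * y, mul_mem hgh hy, by group⟩

/-- A `2`-element of a subgroup containing the Sylow subgroup is conjugate into it. -/
theorem exists_conj_into (S : Sylow 2 G) {L : Subgroup G} (hSL : (S : Subgroup G) ≤ L) {u : G}
    (hu : u ∈ L) (h2 : u * u = 1) : ∃ l ∈ L, l⁻¹ * u * l ∈ (S : Subgroup G) := by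
  haveI : Fact (Nat.Prime 2) := ⟨Nat.prime_two⟩
  have hp : IsPGroup 2 (Subgroup.zpowers (⟨u, hu⟩ : L)) := by
    rintro ⟨_, i, rfl⟩
    refine ⟨1, Subtype.ext ?_⟩
    show ((⟨u, hu⟩ : L) ^ i) ^ 2 ^ 1 = 1
    rw [pow_one, ← zpow_natCast, ← zpow_mul, mul_comm, zpow_mul, zpow_natCast, pow_two,
      show (⟨u, hu⟩ : L) * ⟨u, hu⟩ = 1 from Subtype.ext h2, one_zpow]
  obtain ⟨R, hR⟩ := hp.exists_le_sylow
  obtain ⟨m, hm⟩ := MulAction.exists_smul_eq L R (S.subtype hSL)
  refine ⟨((m⁻¹ : L) : G), SetLike.coe_mem _, ?_⟩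
  have h : m * ⟨u, hu⟩ * m⁻¹ ∈ (S.subtype hSL : Subgroup L) := by
    rw [← hm, Sylow.coe_subgroup_smul]
    exact ⟨_, hR (Subgroup.mem_zpowers _), rfl⟩
  rw [Subgroup.coe_inv, inv_inv]
  exact h

/-- The involutions of the group. -/
abbrev Inv (G : Type u) [Group G] : Type u := {t : G // t * t = 1 ∧ t ≠ 1}

/-- The configuration of two exceptional local subgroups. -/
structure TwoLocals (S : Sylow 2 G) (V A Z : Subgroup G) (q : ℕ) : Prop where
  cit : IsCIT G
  dV : LocalData (Subgroup.normalizer (V : Set G)) (S : Subgroup G) V A Z q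
  dA : LocalData (Subgroup.normalizer (A : Set G)) (S : Subgroup G) A V Z q
  hNV : Subgroup.normalizer ((S : Subgroup G) : Set G) ≤ Subgroup.normalizer (V : Set G)

namespace TwoLocals

variable {S : Sylow 2 G} {V A Z : Subgroup G} {q : ℕ} (c : TwoLocals S V A Z q)
include c

theorem hNA : Subgroup.normalizer ((S : Subgroup G) : Set G) ≤ Subgroup.normalizer (A : Set G) := by
  intro x hx
  rcases c.dV.expl.conj_eq_or hx with ⟨-, h⟩ | ⟨h, -⟩
  · exact mem_normalizer_of_map_eq h
  · exact absurd ((map_eq_of_mem_normalizer (c.hNV hx)).symm.trans h) c.dV.expl.ne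

theorem symm : TwoLocals S A V Z q := ⟨c.cit, c.dA, c.dV, c.hNA⟩

theorem exists_center : ∃ z ∈ Z, z ≠ 1 := by
  by_contra! hc
  have h := c.dV.expl.card_Z
  rw [show Z = ⊥ from eq_bot_iff.mpr fun z hz => Subgroup.mem_bot.mpr (hc z hz),
    Subgroup.card_bot] at h
  have := c.dV.expl.one_lt
  omega

theorem centralizer_center {z : G} (hz : z ∈ Z) (hz1 : z ≠ 1) {x : G} (hx : Commute x z) :
    x ∈ (S : Subgroup G) := by
  have e := c.dV.expl
  have hle : (S : Subgroup G) ≤ Subgroup.centralizer ({z} : Set G) := fun s hs =>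
    Subgroup.mem_centralizer_singleton_iff.mpr (e.central z hz s hs).symm.eq
  rw [← S.3 (c.cit z (orderOf_two (e.elem_V z (e.Z_le_V hz)) hz1)) hle]
  exact Subgroup.mem_centralizer_singleton_iff.mpr hx.eq

/-- `A` is a trivial intersection set. -/
theorem ti {a x : G} (ha : a ∈ A) (ha1 : a ≠ 1) (hx : x⁻¹ * a * x ∈ A) :
    x ∈ Subgroup.normalizer (A : Set G) := by
  have e := c.dV.expl
  obtain ⟨z, hz, hz1⟩ := c.exists_center
  have hx1 : x⁻¹ * a * x ≠ 1 := fun h => ha1 (by
    rw [show a = x * (x⁻¹ * a * x) * x⁻¹ by group, h]; group)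
  obtain ⟨f₁, hf₁, e₁⟩ := c.dA.trans z (e.Z_le_A hz) hz1 a ha ha1
  obtain ⟨f₂, hf₂, e₂⟩ := c.dA.trans z (e.Z_le_A hz) hz1 _ hx hx1
  have hm : f₁⁻¹ * x * f₂ ∈ (S : Subgroup G) := by
    refine c.centralizer_center hz hz1 ?_
    show f₁⁻¹ * x * f₂ * z = z * (f₁⁻¹ * x * f₂)
    calc f₁⁻¹ * x * f₂ * z = f₁⁻¹ * x * (f₂ * z * f₂⁻¹) * f₂ := by group
      _ = f₁⁻¹ * x * (x⁻¹ * a * x) * f₂ := by rw [e₂]
      _ = f₁⁻¹ * (f₁ * z * f₁⁻¹) * x * f₂ := by rw [e₁]; group
      _ = _ := by group
  have := mul_mem (mul_mem hf₁ (c.dA.le hm)) (inv_mem hf₂)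
  rwa [show f₁ * (f₁⁻¹ * x * f₂) * f₂⁻¹ = x by group] at this

/-- The points fixed by an involution of `A` are those of its line. -/
theorem fix_iff {a g : G} (ha : a ∈ A) (ha1 : a ≠ 1) :
    g⁻¹ * a * g ∈ Subgroup.normalizer (V : Set G) ↔
      (g : G ⧸ Subgroup.normalizer (V : Set G)) ∈
        line (Subgroup.normalizer (V : Set G)) (Subgroup.normalizer (A : Set G)) 1 := by
  have e := c.dV.expl
  constructor
  · intro hg
    have hu2 : g⁻¹ * a * g * (g⁻¹ * a * g) = 1 := by
      rw [show g⁻¹ * a * g * (g⁻¹ * a * g) = g⁻¹ * (a * a) * g by group, e.elem_A a ha]; group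
    obtain ⟨l, hl, hlS⟩ := exists_conj_into S c.dV.le hg hu2
    obtain ⟨f, hf, hfA⟩ : ∃ f ∈ Subgroup.normalizer (V : Set G), (g * f)⁻¹ * a * (g * f) ∈ A := by
      have hw2 : l⁻¹ * (g⁻¹ * a * g) * l * (l⁻¹ * (g⁻¹ * a * g) * l) = 1 := by
        rw [show l⁻¹ * (g⁻¹ * a * g) * l * (l⁻¹ * (g⁻¹ * a * g) * l)
          = l⁻¹ * (g⁻¹ * a * g * (g⁻¹ * a * g)) * l by group, hu2]
        group
      have hgl : (g * l)⁻¹ * a * (g * l) = l⁻¹ * (g⁻¹ * a * g) * l := by group
      rcases e.invol _ hlS hw2 with hv | hv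
      · have hw1 : l⁻¹ * (g⁻¹ * a * g) * l ≠ 1 := fun h => ha1 (by
          rw [show a = g * l * (l⁻¹ * (g⁻¹ * a * g) * l) * (g * l)⁻¹ by group, h]; group)
        obtain ⟨z, hz, hz1⟩ := c.exists_center
        obtain ⟨f, hf, hfz⟩ := c.dV.trans z (e.Z_le_V hz) hz1 _ hv hw1
        refine ⟨l * f, mul_mem hl hf, ?_⟩
        rw [show (g * (l * f))⁻¹ * a * (g * (l * f)) = f⁻¹ * (l⁻¹ * (g⁻¹ * a * g) * l) * f by group,
          ← hfz, show f⁻¹ * (f * z * f⁻¹) * f = z by group]
        exact e.Z_le_A hz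
      · exact ⟨l, hl, hgl ▸ hv⟩
    refine ⟨g * f, c.ti ha ha1 hfA, ?_⟩
    rw [one_mul, QuotientGroup.eq, mul_inv_rev, mul_assoc, inv_mul_cancel, mul_one]
    exact inv_mem hf
  · rintro ⟨y, hy, hyg⟩
    rw [one_mul, QuotientGroup.eq] at hyg
    have hA : y⁻¹ * a * y ∈ A := by
      have := (Subgroup.mem_normalizer_iff.mp (inv_mem hy) a).mp ha
      rwa [inv_inv] at this
    have := mul_mem (mul_mem (inv_mem hyg) (c.dV.le (e.A_le hA))) hyg
    rwa [show (y⁻¹ * g)⁻¹ * (y⁻¹ * a * y) * (y⁻¹ * g) = g⁻¹ * a * g by group] at this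

theorem inter_le : Subgroup.normalizer (V : Set G) ⊓ Subgroup.normalizer (A : Set G) ≤
    Subgroup.normalizer ((S : Subgroup G) : Set G) := by
  intro x hx
  obtain ⟨hxV, hxA⟩ := Subgroup.mem_inf.mp hx
  by_contra hxS
  have hgen := c.dV.gen x hxV hxS
  have hle : Subgroup.normalizer (V : Set G) ≤ Subgroup.normalizer (A : Set G) := by
    calc Subgroup.normalizer (V : Set G) = A ⊔ A.map (MulAut.conj x).toMonoidHom := hgen.symm
      _ ≤ _ := sup_le Subgroup.le_normalizer (by
        rw [map_eq_of_mem_normalizer hxA]; exact Subgroup.le_normalizer)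
  refine c.dV.expl.ne (Subgroup.eq_of_le_of_card_ge (c.dV.largest A ?_
    (isPGroup_of_invol c.dV.expl.elem_A) hle) ?_).symm
  · exact c.dV.expl.A_le.trans c.dV.le
  · rw [c.dV.expl.card_A, c.dV.expl.card_V]

theorem index_normalizer_subgroupOf :
    ((Subgroup.normalizer ((S : Subgroup G) : Set G)).subgroupOf
      (Subgroup.normalizer (V : Set G))).index = q + 1 := by
  have h := ((Subgroup.normalizer ((S : Subgroup G) : Set G)).subgroupOf
      (Subgroup.normalizer (V : Set G))).card_mul_index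
  rw [Nat.card_congr (Subgroup.subgroupOfEquivOfLe c.hNV).toEquiv, c.dV.card_L,
    show Nat.card (Subgroup.normalizer ((S : Subgroup G) : Set G)) = q * q * q * (q - 1) by
      rw [← c.dV.card_N, inf_eq_right.mpr c.hNV]] at h
  have := c.dV.expl.one_lt
  exact Nat.eq_of_mul_eq_mul_left (Nat.mul_pos (by positivity) (by omega))
    (h.trans (by ring))

theorem card_line (g : G) :
    Nat.card (line (Subgroup.normalizer (V : Set G)) (Subgroup.normalizer (A : Set G)) g)
      = q + 1 := by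
  set L' := Subgroup.normalizer (A : Set G) with hL'
  set L := Subgroup.normalizer (V : Set G) with hL
  set N := (Subgroup.normalizer ((S : Subgroup G) : Set G)).subgroupOf L' with hN
  have hidx : N.index = q + 1 := c.symm.index_normalizer_subgroupOf
  rw [← hidx, Subgroup.index_eq_card]
  refine (Nat.card_congr (Equiv.ofBijective
    (fun x : L' ⧸ N => (⟨((g * (x.out : G) : G) : G ⧸ L), x.out, x.out.2, rfl⟩ : line L L' g))
    ⟨?_, ?_⟩)).symm
  · intro x y h
    have h' := QuotientGroup.eq.mp (congrArg Subtype.val h)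
    rw [show (g * (x.out : G))⁻¹ * (g * (y.out : G)) = (x.out : G)⁻¹ * y.out by group] at h'
    rw [← QuotientGroup.out_eq' x, ← QuotientGroup.out_eq' y, QuotientGroup.eq]
    exact c.inter_le (Subgroup.mem_inf.mpr ⟨h', mul_mem (inv_mem x.out.2) y.out.2⟩)
  · rintro ⟨_, y, hy, rfl⟩
    refine ⟨((⟨y, hy⟩ : L') : L' ⧸ N), Subtype.ext ?_⟩
    obtain ⟨n, hn⟩ := QuotientGroup.mk_out_eq_mul N (⟨y, hy⟩ : L')
    show ((g * _ : G) : G ⧸ L) = ((g * y : G) : G ⧸ L)
    rw [hn, QuotientGroup.eq, Subgroup.coe_mul,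
      show (g * (y * ((n : L') : G)))⁻¹ * (g * y) = ((n : L') : G)⁻¹ by group]
    exact inv_mem (c.hNV n.2)

/-- Two lines share at most one point. -/
theorem two_points {g h : G} {p p' : G ⧸ Subgroup.normalizer (V : Set G)} (hne : p ≠ p')
    (hg : p ∈ line _ (Subgroup.normalizer (A : Set G)) g) (hg' : p' ∈ line _ (Subgroup.normalizer (A : Set G)) g)
    (hh : p ∈ line _ (Subgroup.normalizer (A : Set G)) h) (hh' : p' ∈ line _ (Subgroup.normalizer (A : Set G)) h) :
    g⁻¹ * h ∈ Subgroup.normalizer (A : Set G) := by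
  obtain ⟨x, rfl⟩ := QuotientGroup.mk_surjective p
  obtain ⟨k, rfl⟩ := QuotientGroup.mk_surjective p'
  obtain ⟨y, hy, ey⟩ := hg
  obtain ⟨y', hy', ey'⟩ := hh
  rw [QuotientGroup.eq] at ey ey'
  set L := Subgroup.normalizer (V : Set G) with hL
  set L' := Subgroup.normalizer (A : Set G) with hL'
  -- move the first point to the base point
  set g₁ := (g * y)⁻¹ * x with hg₁
  set h₁ := (h * y')⁻¹ * x with hh₁
  by_cases hm : g₁ * h₁⁻¹ ∈ Subgroup.normalizer ((S : Subgroup G) : Set G)
  · have := mul_mem (mul_mem hy (c.hNA hm)) (inv_mem hy')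
    rwa [show y * (g₁ * h₁⁻¹) * y'⁻¹ = g⁻¹ * h by rw [hg₁, hh₁]; group] at this
  exfalso
  obtain ⟨y₁, hy₁, e₁⟩ := hg'
  obtain ⟨y₂, hy₂, e₂⟩ := hh'
  rw [QuotientGroup.eq] at e₁ e₂
  have hgen := c.dV.gen (g₁ * h₁⁻¹) (mul_mem ey (inv_mem ey')) hm
  have key : ∀ (f f₂ w : G), f ∈ L' → f₂ ∈ L' → (w * f₂)⁻¹ * k ∈ L → ∀ a ∈ A,
      ((w * f)⁻¹ * x)⁻¹ * a * ((w * f)⁻¹ * x) ∈ (L.comap (MulAut.conj (k⁻¹ * x)).toMonoidHom) := by
    intro f f₂ w hf hf₂ hk a ha
    rw [Subgroup.mem_comap]
    show k⁻¹ * x * (((w * f)⁻¹ * x)⁻¹ * a * ((w * f)⁻¹ * x)) * (k⁻¹ * x)⁻¹ ∈ L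
    have ha' : f₂⁻¹ * f * a * (f₂⁻¹ * f)⁻¹ ∈ A :=
      (Subgroup.mem_normalizer_iff.mp (mul_mem (inv_mem hf₂) hf) a).mp ha
    have := mul_mem (mul_mem (inv_mem hk) (c.dV.le (c.dV.expl.A_le ha'))) hk
    rwa [show k⁻¹ * x * (((w * f)⁻¹ * x)⁻¹ * a * ((w * f)⁻¹ * x)) * (k⁻¹ * x)⁻¹
      = ((w * f₂)⁻¹ * k)⁻¹ * (f₂⁻¹ * f * a * (f₂⁻¹ * f)⁻¹) * ((w * f₂)⁻¹ * k) by group]
  have hle : L ≤ L.comap (MulAut.conj (k⁻¹ * x)).toMonoidHom := by
    intro l hl
    have hl' : g₁ * l * g₁⁻¹ ∈ A ⊔ A.map (MulAut.conj (g₁ * h₁⁻¹)).toMonoidHom := by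
      rw [hgen]; exact mul_mem (mul_mem ey hl) (inv_mem ey)
    have hsup : A ⊔ A.map (MulAut.conj (g₁ * h₁⁻¹)).toMonoidHom ≤
        (L.comap (MulAut.conj (k⁻¹ * x)).toMonoidHom).comap (MulAut.conj g₁⁻¹).toMonoidHom := by
      refine sup_le (fun a ha => ?_) ?_
      · rw [Subgroup.mem_comap]
        show g₁⁻¹ * a * g₁⁻¹⁻¹ ∈ _
        rw [inv_inv]
        exact key y y₁ g hy hy₁ e₁ a ha
      · rintro _ ⟨a, ha, rfl⟩
        rw [Subgroup.mem_comap]
        show g₁⁻¹ * (g₁ * h₁⁻¹ * a * (g₁ * h₁⁻¹)⁻¹) * g₁⁻¹⁻¹ ∈ _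
        rw [show g₁⁻¹ * (g₁ * h₁⁻¹ * a * (g₁ * h₁⁻¹)⁻¹) * g₁⁻¹⁻¹ = h₁⁻¹ * a * h₁ by group]
        exact key y' y₂ h hy' hy₂ e₂ a ha
    have := hsup hl'
    rw [Subgroup.mem_comap] at this
    have e3 : (MulAut.conj g₁⁻¹).toMonoidHom (g₁ * l * g₁⁻¹) = l := by
      show g₁⁻¹ * (g₁ * l * g₁⁻¹) * g₁⁻¹⁻¹ = l
      group
    rwa [e3] at this
  -- so the element joining the points normalises `L`
  set n := k⁻¹ * x with hn
  have hnV : n ∈ Subgroup.normalizer (V : Set G) := by
    have hinj := MulEquiv.injective (MulAut.conj n)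
    have hmap : L.map (MulAut.conj n).toMonoidHom = L := Subgroup.eq_of_le_of_card_ge
      (Subgroup.map_le_iff_le_comap.mpr hle) (by rw [Subgroup.card_map_of_injective hinj])
    have hVc : V.map (MulAut.conj n).toMonoidHom ≤ V := by
      refine c.dV.largest _ ?_ ((isPGroup_of_invol c.dV.expl.elem_V).map _) ?_
      · exact (Subgroup.map_mono Subgroup.le_normalizer).trans hmap.le
      · calc L = L.map (MulAut.conj n).toMonoidHom := hmap.symm
          _ ≤ _ := Subgroup.le_normalizer_map _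
    exact mem_normalizer_of_map_eq (Subgroup.eq_of_le_of_card_ge hVc
      (by rw [Subgroup.card_map_of_injective hinj]))
  exact hne (QuotientGroup.eq.mpr (by
    have := inv_mem hnV
    rwa [hn, mul_inv_rev, inv_inv] at this))

theorem isConj_center {z t : G} (hz : z ∈ Z) (hz1 : z ≠ 1) (ht : t * t = 1) (ht1 : t ≠ 1) :
    ∃ g, g * z * g⁻¹ = t := by
  have e := c.dV.expl
  obtain ⟨l, -, hl⟩ := exists_conj_into S (L := ⊤) le_top (Subgroup.mem_top t) ht
  have h2 : l⁻¹ * t * l * (l⁻¹ * t * l) = 1 := by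
    rw [show l⁻¹ * t * l * (l⁻¹ * t * l) = l⁻¹ * (t * t) * l by group, ht]; group
  have h1 : l⁻¹ * t * l ≠ 1 := fun h => ht1 (by
    rw [show t = l * (l⁻¹ * t * l) * l⁻¹ by group, h]; group)
  rcases e.invol _ hl h2 with hv | hv
  · obtain ⟨f, -, hf⟩ := c.dV.trans z (e.Z_le_V hz) hz1 _ hv h1
    exact ⟨l * f, by rw [show l * f * z * (l * f)⁻¹ = l * (f * z * f⁻¹) * l⁻¹ by group, hf]; group⟩
  · obtain ⟨f, -, hf⟩ := c.dA.trans z (e.Z_le_A hz) hz1 _ hv h1
    exact ⟨l * f, by rw [show l * f * z * (l * f)⁻¹ = l * (f * z * f⁻¹) * l⁻¹ by group, hf]; group⟩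

/-- The fixed points of an involution form a line. -/
theorem exists_fix_line {t : G} (ht : t * t = 1) (ht1 : t ≠ 1) :
    ∃ g, ∀ p : G ⧸ Subgroup.normalizer (V : Set G),
      t • p = p ↔ p ∈ line _ (Subgroup.normalizer (A : Set G)) g := by
  obtain ⟨z, hz, hz1⟩ := c.exists_center
  obtain ⟨g, rfl⟩ := c.isConj_center hz hz1 ht ht1
  refine ⟨g, fun p => ?_⟩
  obtain ⟨x, rfl⟩ := QuotientGroup.mk_surjective p
  show ((g * z * g⁻¹ * x : G) : G ⧸ Subgroup.normalizer (V : Set G)) = _ ↔ _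
  rw [eq_comm, QuotientGroup.eq,
    show x⁻¹ * (g * z * g⁻¹ * x) = (g⁻¹ * x)⁻¹ * z * (g⁻¹ * x) by group,
    c.fix_iff (c.dV.expl.Z_le_A hz) hz1]
  constructor
  · intro h
    have := smul_mem_line h g
    rw [mul_one] at this
    rwa [show g • ((g⁻¹ * x : G) : G ⧸ Subgroup.normalizer (V : Set G)) = ((x : G) : G ⧸ _) from
      congrArg QuotientGroup.mk (mul_inv_cancel_left g x)] at this
  · intro h
    have := smul_mem_line h g⁻¹
    rw [inv_mul_cancel] at this
    exact this

theorem card_invol : Nat.card (Inv G) =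
    (Subgroup.normalizer (V : Set G)).index * (q * q - 1) := by
  have e := c.dV.expl
  obtain ⟨z, hz, hz1⟩ := c.exists_center
  have hSi : Nat.card (Inv G) = (S : Subgroup G).index := by
    rw [Subgroup.index_eq_card]
    refine (Nat.card_congr (Equiv.ofBijective (fun x : G ⧸ (S : Subgroup G) =>
      (⟨x.out * z * x.out⁻¹, by
        rw [show x.out * z * x.out⁻¹ * (x.out * z * x.out⁻¹) = x.out * (z * z) * x.out⁻¹ by group,
          e.elem_V z (e.Z_le_V hz)]
        group, fun h => hz1 (by rwa [mul_inv_eq_one, mul_eq_left] at h)⟩ : Inv G)) ⟨?_, ?_⟩)).symm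
    · intro x y h
      have h' : x.out * z * x.out⁻¹ = y.out * z * y.out⁻¹ := congrArg Subtype.val h
      rw [← QuotientGroup.out_eq' x, ← QuotientGroup.out_eq' y, QuotientGroup.eq]
      refine c.centralizer_center hz hz1 ?_
      show x.out⁻¹ * y.out * z = z * (x.out⁻¹ * y.out)
      calc x.out⁻¹ * y.out * z = x.out⁻¹ * (y.out * z * y.out⁻¹) * y.out := by group
        _ = x.out⁻¹ * (x.out * z * x.out⁻¹) * y.out := by rw [h']
        _ = _ := by group
    · rintro ⟨t, ht, ht1⟩
      obtain ⟨g, hg⟩ := c.isConj_center hz hz1 ht ht1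
      refine ⟨((g : G) : G ⧸ (S : Subgroup G)), Subtype.ext ?_⟩
      obtain ⟨s, hs⟩ := QuotientGroup.mk_out_eq_mul (S : Subgroup G) g
      show (_ : G) * z * _⁻¹ = t
      rw [hs, show g * (s : G) * z * (g * (s : G))⁻¹ = g * ((s : G) * z * (s : G)⁻¹) * g⁻¹ by group,
        ← (e.central z hz s s.2).eq, mul_inv_cancel_right, hg]
  rw [hSi]
  have h1 := (S : Subgroup G).card_mul_index
  have h2 := (Subgroup.normalizer (V : Set G)).card_mul_index
  rw [e.card_T] at h1
  rw [c.dV.card_L, ← h1] at h2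
  have hq := e.q_pos
  refine Nat.eq_of_mul_eq_mul_left (show 0 < q * q * q by positivity) ?_
  rw [← h2, show q * q - 1 = (q - 1) * (q + 1) by
    rw [mul_comm (q - 1), ← Nat.mul_self_sub_mul_self_eq, one_mul]]
  ring

/-- The number of involutions of a local subgroup. -/
theorem card_invol_local :
    Nat.card {t : Inv G // (t : G) ∈ Subgroup.normalizer (V : Set G)} = (q + 1) * (q * q - 1) := by
  classical
  haveI := Fintype.ofFinite (G ⧸ Subgroup.normalizer (V : Set G))
  haveI := Fintype.ofFinite (Inv G)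
  set L := Subgroup.normalizer (V : Set G) with hL
  have h1 : Nat.card (Σ t : Inv G, {p : G ⧸ L // (t : G) • p = p}) = Nat.card (Inv G) * (q + 1) := by
    rw [Nat.card_sigma, Finset.sum_congr rfl (fun t _ => ?_), Finset.sum_const, Finset.card_univ,
      smul_eq_mul, ← Nat.card_eq_fintype_card]
    obtain ⟨g, hg⟩ := c.exists_fix_line t.2.1 t.2.2
    rw [← c.card_line g]
    exact Nat.card_congr (Equiv.subtypeEquivRight hg)
  have h2 : Nat.card (Σ p : G ⧸ L, {t : Inv G // (t : G) • p = p}) =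
      L.index * Nat.card {t : Inv G // (t : G) ∈ L} := by
    rw [Nat.card_sigma, Finset.sum_congr rfl (fun p _ => ?_), Finset.sum_const, Finset.card_univ,
      smul_eq_mul, ← Nat.card_eq_fintype_card, ← Subgroup.index_eq_card]
    obtain ⟨g, rfl⟩ := QuotientGroup.mk_surjective p
    refine Nat.card_congr
      { toFun := fun t => ⟨⟨g⁻¹ * t.1 * g, ?_, ?_⟩, ?_⟩
        invFun := fun t => ⟨⟨g * t.1 * g⁻¹, ?_, ?_⟩, ?_⟩
        left_inv := fun t => Subtype.ext (Subtype.ext (by group))
        right_inv := fun t => Subtype.ext (Subtype.ext (by group)) }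
    · rw [show g⁻¹ * (t.1 : G) * g * (g⁻¹ * (t.1 : G) * g) = g⁻¹ * ((t.1 : G) * t.1) * g by group,
        t.1.2.1]
      group
    · intro h
      exact t.1.2.2 (by rw [show (t.1 : G) = g * (g⁻¹ * t.1 * g) * g⁻¹ by group, h]; group)
    · have h : g⁻¹ * ((t.1 : G) * g) ∈ L :=
        QuotientGroup.eq.mp (t.2.symm : ((g : G) : G ⧸ L) = (((t.1 : G) * g : G) : G ⧸ L))
      show g⁻¹ * (t.1 : G) * g ∈ L
      rwa [mul_assoc]
    · rw [show g * (t.1 : G) * g⁻¹ * (g * (t.1 : G) * g⁻¹) = g * ((t.1 : G) * t.1) * g⁻¹ by group,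
        t.1.2.1]
      group
    · intro h
      exact t.1.2.2 (by rw [show (t.1 : G) = g⁻¹ * (g * t.1 * g⁻¹) * g by group, h]; group)
    · show ((g * (t.1 : G) * g⁻¹ * g : G) : G ⧸ L) = ((g : G) : G ⧸ L)
      rw [inv_mul_cancel_right, QuotientGroup.eq, mul_inv_rev, mul_assoc, inv_mul_cancel, mul_one]
      exact inv_mem t.2
  have h3 : Nat.card (Σ t : Inv G, {p : G ⧸ L // (t : G) • p = p})
      = Nat.card (Σ p : G ⧸ L, {t : Inv G // (t : G) • p = p}) :=
    Nat.card_congr
      { toFun := fun x => ⟨x.2.1, x.1, x.2.2⟩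
        invFun := fun x => ⟨x.2.1, x.1, x.2.2⟩
        left_inv := fun _ => rfl
        right_inv := fun _ => rfl }
  rw [h1, h2, c.card_invol] at h3
  refine (Nat.eq_of_mul_eq_mul_left (Nat.pos_of_ne_zero (Subgroup.index_ne_zero_of_finite (H := L)))
    (h3.symm.trans ?_))
  ring

theorem card_invol_sylow :
    Nat.card {t : Inv G // (t : G) ∈ (S : Subgroup G)} + (q + 1) = 2 * (q * q) := by
  classical
  have e := c.dV.expl
  have hset : Nat.card {t : Inv G // (t : G) ∈ (S : Subgroup G)} =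
      (((V : Set G) ∪ (A : Set G)) \ {1}).ncard := by
    rw [← Nat.card_coe_set_eq]
    refine Nat.card_congr
      { toFun := fun t => ⟨(t.1 : G), e.invol _ t.2 t.1.2.1, t.1.2.2⟩
        invFun := fun x => ⟨⟨x.1, ?_, x.2.2⟩, ?_⟩
        left_inv := fun _ => rfl
        right_inv := fun _ => rfl }
    · rcases x.2.1 with h | h
      · exact e.elem_V _ h
      · exact e.elem_A _ h
    · rcases x.2.1 with h | h
      · exact e.V_le h
      · exact e.A_le h
  have h1 := Set.ncard_union_add_ncard_inter (V : Set G) (A : Set G)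
  rw [← Subgroup.coe_inf, e.inter, ← Nat.card_coe_set_eq (Z : Set G),
    ← Nat.card_coe_set_eq (V : Set G), ← Nat.card_coe_set_eq (A : Set G)] at h1
  have hV : Nat.card (V : Set G) = q * q := e.card_V
  have hA : Nat.card (A : Set G) = q * q := e.card_A
  have hZ : Nat.card (Z : Set G) = q := e.card_Z
  rw [hV, hA, hZ] at h1
  have h2 := Set.ncard_sdiff_singleton_add_one
    (show (1 : G) ∈ (V : Set G) ∪ (A : Set G) from Or.inl (one_mem V))
  omega

/-- The points on a line through the base point. -/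
theorem card_swap_line {g : G} (hg : g ∈ Subgroup.normalizer (V : Set G)) :
    Nat.card {t : Inv G //
      (t : G) • ((1 : G) : G ⧸ Subgroup.normalizer (V : Set G)) ∈
          line _ (Subgroup.normalizer (A : Set G)) g ∧
        (t : G) • ((1 : G) : G ⧸ Subgroup.normalizer (V : Set G)) ≠ ((1 : G) : G ⧸ _)}
      = q * q * (q - 1) := by
  classical
  set L := Subgroup.normalizer (V : Set G) with hL
  set L' := Subgroup.normalizer (A : Set G) with hL'
  set o : G ⧸ L := ((1 : G) : G ⧸ L) with ho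
  have ho_mem : o ∈ line L L' g :=
    ⟨1, one_mem L', by rw [mul_one, ho, QuotientGroup.eq, mul_one]; exact inv_mem hg⟩
  have hfix : ∀ x : G, x • o = o ↔ x ∈ L := fun x => by
    show ((x * 1 : G) : G ⧸ L) = ((1 : G) : G ⧸ L) ↔ _
    rw [QuotientGroup.eq, mul_one, mul_one, inv_mem_iff]
  have hiff : ∀ t : Inv G, ((t : G) • o ∈ line L L' g ∧ (t : G) • o ≠ o) ↔
      (g⁻¹ * (t : G) * g ∈ L' ∧ g⁻¹ * (t : G) * g ∉ L) := by
    intro t
    have hconj : g⁻¹ * (t : G) * g ∈ L ↔ (t : G) ∈ L := by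
      rw [mul_mem_cancel_right hg, mul_mem_cancel_left (inv_mem hg)]
    constructor
    · rintro ⟨hmem, hne⟩
      refine ⟨?_, fun h => hne ((hfix _).mpr (hconj.mp h))⟩
      have hback : (t : G) • o ∈ line L L' ((t : G) * g) := smul_mem_line ho_mem _
      have hback' : o ∈ line L L' ((t : G) * g) := by
        have := smul_mem_line hmem (t : G)
        rwa [← mul_smul, t.2.1, one_smul] at this
      have := c.two_points hne hmem ho_mem hback hback'
      rwa [← mul_assoc] at this
    · rintro ⟨h1, h2⟩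
      refine ⟨?_, fun h => h2 (hconj.mpr ((hfix _).mp h))⟩
      have := smul_mem_line ho_mem (t : G)
      rwa [← line_eq (g := g) (h := (t : G) * g) (by rw [← mul_assoc]; exact h1)] at this
  rw [Nat.card_congr (Equiv.subtypeEquivRight hiff)]
  have hc : Nat.card {t : Inv G // g⁻¹ * (t : G) * g ∈ L' ∧ g⁻¹ * (t : G) * g ∉ L}
      = Nat.card {t : Inv G // (t : G) ∈ L' ∧ (t : G) ∉ L} := by
    refine Nat.card_congr
      { toFun := fun t => ⟨⟨g⁻¹ * t.1 * g, ?_, ?_⟩, t.2⟩
        invFun := fun t => ⟨⟨g * t.1 * g⁻¹, ?_, ?_⟩, ?_⟩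
        left_inv := fun t => Subtype.ext (Subtype.ext (by group))
        right_inv := fun t => Subtype.ext (Subtype.ext (by group)) }
    · rw [show g⁻¹ * (t.1 : G) * g * (g⁻¹ * (t.1 : G) * g) = g⁻¹ * ((t.1 : G) * t.1) * g by group,
        t.1.2.1]
      group
    · intro h
      exact t.1.2.2 (by rw [show (t.1 : G) = g * (g⁻¹ * t.1 * g) * g⁻¹ by group, h]; group)
    · rw [show g * (t.1 : G) * g⁻¹ * (g * (t.1 : G) * g⁻¹) = g * ((t.1 : G) * t.1) * g⁻¹ by group,
        t.1.2.1]
      group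
    · intro h
      exact t.1.2.2 (by rw [show (t.1 : G) = g⁻¹ * (g * t.1 * g⁻¹) * g by group, h]; group)
    · rw [show g⁻¹ * (g * (t.1 : G) * g⁻¹) * g = (t.1 : G) by group]
      exact t.2
  rw [hc]
  have hL'card := c.symm.card_invol_local
  have hSc := c.card_invol_sylow
  haveI := Fintype.ofFinite (Inv G)
  simp only [Nat.card_eq_fintype_card, Fintype.card_subtype, ← hL'] at hL'card hSc ⊢
  have hsplit := Finset.card_filter_add_card_filter_not
    (s := (Finset.univ : Finset (Inv G)).filter fun t : Inv G => (t : G) ∈ L')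
    (fun t : Inv G => (t : G) ∈ L)
  rw [Finset.filter_filter, Finset.filter_filter, hL'card] at hsplit
  have hint : ((Finset.univ : Finset (Inv G)).filter fun t : Inv G => (t : G) ∈ L' ∧ (t : G) ∈ L)
      = Finset.univ.filter fun t : Inv G => (t : G) ∈ (S : Subgroup G) := by
    refine Finset.filter_congr fun t _ => ⟨fun h => ?_, fun h => ⟨c.dA.le h, c.dV.le h⟩⟩
    have hn := c.inter_le (Subgroup.mem_inf.mpr ⟨h.2, h.1⟩)
    obtain ⟨l, hl, hlS⟩ := exists_conj_into S Subgroup.le_normalizer hn t.2.1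
    have := (Subgroup.mem_normalizer_iff.mp hl _).mp hlS
    rwa [show l * (l⁻¹ * (t : G) * l) * l⁻¹ = (t : G) by group] at this
  rw [hint] at hsplit
  obtain ⟨m, hm⟩ : ∃ m, q = m + 1 := ⟨q - 1, by have := c.dV.expl.q_pos; omega⟩
  rw [hm, Nat.add_sub_cancel]
  rw [hm] at hSc hsplit
  obtain ⟨r, hr⟩ : ∃ r, (m + 1) * (m + 1) = r + 1 := ⟨m * m + 2 * m, by ring⟩
  rw [hr, Nat.add_sub_cancel] at hsplit
  nlinarith [hsplit, hSc, hr]

/-- The cosets of the first local subgroup form a projective plane. -/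
theorem plane (hq : 2 < q) :
    (Subgroup.normalizer (V : Set G)).index = q * q + q + 1 ∧
      ∀ p : G ⧸ Subgroup.normalizer (V : Set G), p ≠ ((1 : G) : G ⧸ _) →
        ∃ g ∈ Subgroup.normalizer (V : Set G), p ∈ line _ (Subgroup.normalizer (A : Set G)) g := by
  classical
  set L := Subgroup.normalizer (V : Set G) with hL
  set L' := Subgroup.normalizer (A : Set G) with hL'
  set o : G ⧸ L := ((1 : G) : G ⧸ L) with ho
  set C := (L ⧸ (Subgroup.normalizer ((S : Subgroup G) : Set G)).subgroupOf L) with hC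
  haveI := Fintype.ofFinite (G ⧸ L)
  haveI := Fintype.ofFinite (Inv G)
  haveI : Fintype C := Fintype.ofFinite _
  have hCcard : Fintype.card C = q + 1 := by
    rw [← Nat.card_eq_fintype_card, hC, ← Subgroup.index_eq_card]
    exact c.index_normalizer_subgroupOf
  set lineF : C → Finset (G ⧸ L) := fun x =>
    Finset.univ.filter fun p => p ∈ line L L' (x.out : G) ∧ p ≠ o with hlineF
  have ho_mem : ∀ g ∈ L, o ∈ line L L' g := fun g hg =>
    ⟨1, one_mem L', by rw [mul_one, ho, QuotientGroup.eq, mul_one]; exact inv_mem hg⟩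
  have hdisj : (Set.univ : Set C).PairwiseDisjoint lineF := by
    intro x _ y _ hxy
    rw [Function.onFun, Finset.disjoint_left]
    intro p hp hp'
    rw [hlineF, Finset.mem_filter] at hp hp'
    refine hxy ?_
    have h := c.two_points hp.2.2 hp.2.1 (ho_mem _ x.out.2) hp'.2.1 (ho_mem _ y.out.2)
    rw [← QuotientGroup.out_eq' x, ← QuotientGroup.out_eq' y, QuotientGroup.eq]
    exact c.inter_le (Subgroup.mem_inf.mpr ⟨mul_mem (inv_mem x.out.2) y.out.2, h⟩)
  set Col := Finset.univ.biUnion lineF with hCol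
  have hlc : ∀ x : C, (lineF x).card = q := by
    intro x
    have h := c.card_line (x.out : G)
    rw [← hL, ← hL', Nat.card_eq_fintype_card, Fintype.card_subtype] at h
    have he : lineF x = (Finset.univ.filter fun p => p ∈ line L L' (x.out : G)).erase o := by
      ext p
      simp [hlineF, and_comm]
    rw [he, Finset.card_erase_of_mem (Finset.mem_filter.mpr ⟨Finset.mem_univ _, ho_mem _ x.out.2⟩),
      h, Nat.add_sub_cancel]
  have hColcard : Col.card = (q + 1) * q := by
    rw [hCol, Finset.card_biUnion (by simpa using hdisj), Finset.sum_congr rfl fun x _ => hlc x,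
      Finset.sum_const, Finset.card_univ, hCcard, smul_eq_mul]
  set f : Inv G → G ⧸ L := fun t => (t : G) • o with hf
  set w : G ⧸ L → ℕ := fun p => (Finset.univ.filter fun t : Inv G => f t = p).card with hw
  have htot : ∑ p, w p = L.index * (q * q - 1) := by
    rw [← c.card_invol, Nat.card_eq_fintype_card, ← Finset.card_univ (α := Inv G),
      Finset.card_eq_sum_card_fiberwise (f := f) (t := Finset.univ) (fun _ _ => Finset.mem_univ _)]
  have hwo : w o = (q + 1) * (q * q - 1) := by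
    rw [← c.card_invol_local, Nat.card_eq_fintype_card, Fintype.card_subtype, hw]
    refine congrArg Finset.card (Finset.filter_congr fun t _ => ?_)
    show (((t : G) * 1 : G) : G ⧸ L) = ((1 : G) : G ⧸ L) ↔ _
    rw [QuotientGroup.eq, mul_one, mul_one, inv_mem_iff]
  have hwline : ∀ x : C, ∑ p ∈ lineF x, w p = q * q * (q - 1) := by
    intro x
    rw [← c.card_swap_line x.out.2, Nat.card_eq_fintype_card, Fintype.card_subtype,
      Finset.card_eq_sum_card_fiberwise (f := f) (t := lineF x) (fun t ht => by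
        simp only [Finset.coe_filter, Finset.mem_univ, true_and, Set.mem_ofPred_eq] at ht
        simp only [hlineF, Finset.coe_filter, Finset.mem_univ, true_and, Set.mem_ofPred_eq]
        exact ht)]
    refine Finset.sum_congr rfl fun p hp => ?_
    rw [hlineF, Finset.mem_filter] at hp
    rw [hw, Finset.filter_filter]
    refine congrArg Finset.card (Finset.filter_congr fun t _ => ?_)
    constructor
    · intro h
      refine ⟨?_, h⟩
      show f t ∈ _ ∧ f t ≠ o
      rw [h]; exact hp.2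
    · exact fun h => h.2
  have hwCol : ∑ p ∈ Col, w p = (q + 1) * (q * q * (q - 1)) := by
    rw [hCol, Finset.sum_biUnion (by simpa using hdisj), Finset.sum_congr rfl fun x _ => hwline x,
      Finset.sum_const, Finset.card_univ, hCcard, smul_eq_mul]
  have hoCol : o ∉ Col := by simp [hCol, hlineF]
  set R := Finset.univ \ insert o Col with hR
  have hRcard : R.card + (Col.card + 1) = L.index := by
    rw [hR, ← Finset.card_insert_of_notMem hoCol, Finset.card_sdiff_add_card_eq_card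
      (Finset.subset_univ _), Finset.card_univ, ← Nat.card_eq_fintype_card, Subgroup.index_eq_card]
  have hRsum : ∑ p ∈ R, w p + (w o + ∑ p ∈ Col, w p) = ∑ p, w p := by
    rw [hR, ← Finset.sum_insert hoCol, Finset.sum_sdiff (Finset.subset_univ _)]
  have hq0 := c.dV.expl.q_pos
  obtain ⟨a, ha1, ha⟩ := c.dV.expl.exists_two_pow
  have hsumR : ∑ p ∈ R, w p = R.card * (q * q - 1) := by
    rw [htot, hwo, hwCol, ← hRcard, hColcard] at hRsum
    obtain ⟨m, hm⟩ : ∃ m, q = m + 1 := ⟨q - 1, by omega⟩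
    obtain ⟨r, hr⟩ : ∃ r, q * q = r + 1 := ⟨q * q - 1, by
      have : 0 < q * q := Nat.mul_pos hq0 hq0
      omega⟩
    rw [show q * q - 1 = r by omega, show q - 1 = m by omega] at hRsum
    rw [show q * q - 1 = r by omega]
    subst hm
    nlinarith [hRsum, hr]
  -- points off all lines through the base point do not exist
  have hRempty : R = ∅ := by
    by_contra hne
    have hlt : ∀ p ∈ R, w p < q * q - 1 := by
      intro p hp
      rw [hR, Finset.mem_sdiff, Finset.mem_insert, not_or] at hp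
      obtain ⟨-, hpo, hpC⟩ := hp
      set D := L ⊓ MulAction.stabilizer G p with hD
      haveI := Fintype.ofFinite D
      have hDodd : Odd (Nat.card D) := by
        rw [← Nat.not_even_iff_odd, even_iff_two_dvd]
        intro h2
        haveI : Fact (Nat.Prime 2) := ⟨Nat.prime_two⟩
        obtain ⟨⟨t, ht⟩, hto⟩ := exists_prime_orderOf_dvd_card' (G := D) 2 h2
        rw [Subgroup.orderOf_mk] at hto
        have ht2 : t * t = 1 := by rw [← pow_two, ← hto, pow_orderOf_eq_one]
        have ht1 : t ≠ 1 := fun h => by simp [h] at hto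
        obtain ⟨htL, htp⟩ := Subgroup.mem_inf.mp ht
        obtain ⟨g, hg⟩ := c.exists_fix_line ht2 ht1
        have hto' : t • o = o := by
          show ((t * 1 : G) : G ⧸ L) = ((1 : G) : G ⧸ L)
          rw [QuotientGroup.eq, mul_one, mul_one]; exact inv_mem htL
        obtain ⟨y, hy, hye⟩ := (hg o).mp hto'
        rw [ho, QuotientGroup.eq, mul_one, inv_mem_iff] at hye
        have hpl : p ∈ line L L' (g * y) := by
          rw [← line_eq (g := g) (h := g * y) (by rwa [inv_mul_cancel_left])]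
          exact (hg p).mp (MulAction.mem_stabilizer_iff.mp htp)
        refine hpC (Finset.mem_biUnion.mpr ⟨((⟨g * y, hye⟩ : L) : C), Finset.mem_univ _, ?_⟩)
        obtain ⟨n, hn⟩ := QuotientGroup.mk_out_eq_mul
          ((Subgroup.normalizer ((S : Subgroup G) : Set G)).subgroupOf L) (⟨g * y, hye⟩ : L)
        simp only [hlineF, Finset.mem_filter, Finset.mem_univ, true_and]
        refine ⟨?_, hpo⟩
        rwa [← line_eq (g := g * y) (by
          rw [hn]
          show (g * y)⁻¹ * (g * y * ((n : L) : G)) ∈ L'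
          rw [inv_mul_cancel_left]
          exact c.hNA n.2)]
      have hle : w p ≤ Nat.card D := by
        by_cases hex : ∃ t₀ : Inv G, f t₀ = p
        · obtain ⟨t₀, ht₀⟩ := hex
          rw [hw, Nat.card_eq_fintype_card, ← Finset.card_univ]
          have hfix : ∀ t : Inv G, f t = p → (t₀ : G) * (t : G) ∈ D := fun t ht => by
            have htp : (t : G) • p = o := by
              rw [← ht, hf, ← mul_smul, t.2.1, one_smul]
            have ht₀p : (t₀ : G) • p = o := by
              rw [← ht₀, hf, ← mul_smul, t₀.2.1, one_smul]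
            refine Subgroup.mem_inf.mpr ⟨?_, MulAction.mem_stabilizer_iff.mpr ?_⟩
            · have h : ((t₀ : G) * (t : G)) • o = o := by
                rw [mul_smul, show (t : G) • o = p from ht, ht₀p]
              have h' : (((t₀ : G) * (t : G) * 1 : G) : G ⧸ L) = ((1 : G) : G ⧸ L) := h
              rwa [QuotientGroup.eq, mul_one, mul_one, inv_mem_iff] at h'
            · rw [mul_smul, htp]
              exact ht₀
          refine Finset.card_le_card_of_injOn
            (fun t : Inv G => if h : f t = p then (⟨(t₀ : G) * t, hfix t h⟩ : D) else 1)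
            (fun _ _ => Finset.mem_univ _) ?_
          intro s hs t ht h
          simp only [Finset.coe_filter, Finset.mem_univ, true_and, Set.mem_ofPred_eq] at hs ht
          simp only [hs, ht, dif_pos] at h
          exact Subtype.ext (mul_left_cancel (congrArg Subtype.val h :))
        · have : w p = 0 := by
            rw [hw, Finset.card_eq_zero, Finset.filter_eq_empty_iff]
            exact fun t _ h => hex ⟨t, h⟩
          omega
      refine lt_of_le_of_lt hle (lt_of_le_of_ne (Nat.le_of_dvd ?_ ?_) ?_)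
      · have : q * 2 ≤ q * q := Nat.mul_le_mul_left q (by omega)
        omega
      · have h1 : Nat.card D ∣ q * q * q * ((q - 1) * (q + 1)) := by
          rw [show q * q * q * ((q - 1) * (q + 1)) = Nat.card L by rw [hL, c.dV.card_L]; ring]
          exact Subgroup.card_dvd_of_le inf_le_left
        rw [show (q - 1) * (q + 1) = q * q - 1 by
          rw [mul_comm, ← Nat.mul_self_sub_mul_self_eq, one_mul]] at h1
        refine Nat.Coprime.dvd_of_dvd_mul_left ?_ h1
        have hc : Nat.Coprime (Nat.card D) q := by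
          rw [ha]; exact (Nat.coprime_two_right.mpr hDodd).pow_right _
        exact (hc.mul_right hc).mul_right hc
      · exact c.dV.no_odd hq D inf_le_left hDodd
    have := Finset.sum_lt_sum_of_nonempty (Finset.nonempty_iff_ne_empty.mpr hne) hlt
    rw [hsumR, Finset.sum_const, smul_eq_mul] at this
    exact lt_irrefl _ this
  refine ⟨?_, fun p hp => ?_⟩
  · rw [← hRcard, hRempty, Finset.card_empty, hColcard]; ring
  · have hmem : p ∈ insert o Col := by
      by_contra h
      have : p ∈ R := Finset.mem_sdiff.mpr ⟨Finset.mem_univ _, h⟩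
      rw [hRempty] at this
      exact Finset.notMem_empty _ this
    rcases Finset.mem_insert.mp hmem with h | h
    · exact absurd h hp
    · obtain ⟨x, -, hx⟩ := Finset.mem_biUnion.mp h
      rw [hlineF, Finset.mem_filter] at hx
      exact ⟨x.out, x.out.2, hx.2.1⟩

end TwoLocals

end CfsgLib.CIT
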