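import Mathlib
import Cfsg.Agent.Lib.CIT.Plane
import Cfsg.Agent.Lib.Steiner.Plane

/-!
The plane has order four, and the group is the projective special linear group of that plane.
-/

set_option autoImplicit false
set_option linter.unusedSectionVars false
set_option linter.style.haveILetI false

namespace CfsgLib.CIT

universe u

variable {G : Type u} [Group G] [Finite G]

theorem toPermHom_coset_injective [IsSimpleGroup G] {L : Subgroup G} (hL : L ≠ ⊤) :
    Function.Injective (MulAction.toPermHom G (G ⧸ L)) := by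
  rw [← MonoidHom.ker_eq_bot_iff]
  refine (MonoidHom.normal_ker (MulAction.toPermHom G (G ⧸ L))).eq_bot_or_eq_top.resolve_right
    fun h => hL ?_
  refine (Subgroup.eq_top_iff' _).mpr fun g => ?_
  have h1 : g ∈ (MulAction.toPermHom G (G ⧸ L)).ker := h ▸ Subgroup.mem_top g
  have h2 : ((g * 1 : G) : G ⧸ L) = ((1 : G) : G ⧸ L) :=
    DFunLike.congr_fun (MonoidHom.mem_ker.mp h1) ((1 : G) : G ⧸ L)
  rw [QuotientGroup.eq, mul_one, mul_one] at h2
  exact inv_mem_iff.mp h2

/-- No simple group has a subgroup of index `73` and order `32256`. -/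
theorem no_index_seventy_three [IsSimpleGroup G] {L : Subgroup G} (hidx : L.index = 73)
    (hcard : Nat.card L = 32256) : False := by
  classical
  haveI : Fact (Nat.Prime 73) := ⟨by norm_num⟩
  have hG : Nat.card G = 32256 * 73 := by rw [← L.card_mul_index, hidx, hcard]
  have hLt : L ≠ ⊤ := fun h => by rw [h, Subgroup.index_top] at hidx; omega
  have hinj := toPermHom_coset_injective hLt
  obtain ⟨P⟩ : Nonempty (Sylow 73 G) := inferInstance
  have hP : Nat.card (P : Subgroup G) = 73 := by
    rw [P.card_eq_multiplicity, hG, Nat.factorization_mul (by norm_num) (by norm_num),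
      Finsupp.add_apply, Nat.factorization_eq_zero_of_not_dvd (by norm_num),
      Nat.Prime.factorization_self (by norm_num)]
    norm_num
  set o : G ⧸ L := ((1 : G) : G ⧸ L) with ho
  have hfree : ∀ u ∈ (P : Subgroup G), ∀ p : G ⧸ L, u • p = p → u = 1 := by
    intro u hu p hp
    obtain ⟨g, rfl⟩ := QuotientGroup.mk_surjective p
    have h : g⁻¹ * u * g ∈ L := by
      have h' : ((u * g : G) : G ⧸ L) = (g : G ⧸ L) := hp
      have := inv_mem (QuotientGroup.eq.mp h')
      rwa [show ((u * g)⁻¹ * g)⁻¹ = g⁻¹ * u * g by group] at this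
    have hc : orderOf (g⁻¹ * u * g) = orderOf u := by
      rw [show g⁻¹ * u * g = MulAut.conj g⁻¹ u by simp [mul_assoc]]
      exact MulEquiv.orderOf_eq _ _
    have h1 : orderOf u ∣ 32256 := by rw [← hc, ← hcard]; exact L.orderOf_dvd_natCard h
    have h2 : orderOf u ∣ 73 := hP ▸ Subgroup.orderOf_dvd_natCard _ hu
    have h3 := Nat.dvd_gcd h1 h2
    rw [show Nat.gcd 32256 73 = 1 by norm_num] at h3
    exact orderOf_eq_one_iff.mp (Nat.dvd_one.mp h3)
  have hΩ : Nat.card (G ⧸ L) = 73 := by rw [← Subgroup.index_eq_card, hidx]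
  have hbij : Function.Bijective (fun u : (P : Subgroup G) => (u : G) • o) := by
    refine (Nat.bijective_iff_injective_and_card _).mpr ⟨fun u v h => ?_, hP.trans hΩ.symm⟩
    refine Subtype.ext (inv_mul_eq_one.mp (hfree _ (mul_mem (inv_mem v.2) u.2) o ?_)).symm
    rw [mul_smul]
    exact inv_smul_eq_iff.mpr h
  have hC : Subgroup.centralizer ((P : Subgroup G) : Set G) = (P : Subgroup G) := by
    have hcomm : (P : Subgroup G) ≤ Subgroup.centralizer ((P : Subgroup G) : Set G) := by
      haveI : IsCyclic (P : Subgroup G) := isCyclic_of_prime_card hP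
      intro u hu v hv
      exact congrArg Subtype.val (IsCyclic.commGroup.mul_comm (⟨v, hv⟩ : (P : Subgroup G)) ⟨u, hu⟩)
    refine (Subgroup.eq_of_le_of_card_ge hcomm ?_).symm
    refine le_trans ?_ (hP.trans hΩ.symm).ge
    refine Nat.card_le_card_of_injective
      (fun y : Subgroup.centralizer ((P : Subgroup G) : Set G) => (y : G) • o) fun y z h => ?_
    refine Subtype.ext (inv_mul_eq_one.mp ?_).symm
    refine hinj (Equiv.ext fun p => ?_)
    obtain ⟨u, hu⟩ := hbij.surjective p
    rw [map_one, Equiv.Perm.one_apply, ← hu]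
    have hc : (u : G) * ((z : G)⁻¹ * y) = ((z : G)⁻¹ * y) * u :=
      Subgroup.mem_centralizer_iff.mp (mul_mem (inv_mem z.2) y.2) _ u.2
    show ((z : G)⁻¹ * y) • (u : G) • o = (u : G) • o
    rw [← mul_smul, ← hc, mul_smul, mul_smul, inv_smul_eq_iff.mpr h]
  set N := Subgroup.normalizer ((P : Subgroup G) : Set G) with hN
  set φ : N →* MulAut (P : Subgroup G) := (P : Subgroup G).normalizerMonoidHom with hφ
  haveI hcyc : IsCyclic (P : Subgroup G) := isCyclic_of_prime_card hP
  have haut : Nat.card (MulAut (P : Subgroup G)) = 72 := by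
    rw [IsCyclic.card_mulAut, hP, Nat.totient_prime (by norm_num)]
  have hker : Nat.card φ.ker = 73 := by
    rw [hφ, Subgroup.normalizerMonoidHom_ker, hC,
      Nat.card_congr (Subgroup.subgroupOfEquivOfLe Subgroup.le_normalizer).toEquiv, hP]
  have he : φ.ker.index ∣ 72 := by
    rw [Subgroup.index_ker, ← haut]; exact Subgroup.card_subgroup_dvd_card _
  have hNcard : Nat.card N = 73 * φ.ker.index := by rw [← φ.ker.card_mul_index, hker]
  have hsyl : Nat.card (Sylow 73 G) ≡ 1 [MOD 73] := card_sylow_modEq_one 73 G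
  rw [P.card_eq_index_normalizer] at hsyl
  have hmul := N.card_mul_index
  rw [hNcard, hG] at hmul
  have hprod : φ.ker.index * N.index = 32256 :=
    Nat.eq_of_mul_eq_mul_left (show 0 < 73 by norm_num) (by rw [← mul_assoc, hmul, mul_comm])
  generalize φ.ker.index = e at he hprod
  have he72 : e ≤ 72 := Nat.le_of_dvd (by norm_num) he
  have hmod : e % 73 = 32256 % 73 := by
    rw [← hprod, Nat.mul_mod, show N.index % 73 = 1 % 73 from hsyl]
    simp
  rw [show 32256 % 73 = 63 by norm_num, Nat.mod_eq_of_lt (by omega)] at hmod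
  rw [hmod] at he
  norm_num at he

namespace TwoLocals

variable {S : Sylow 2 G} {V A Z : Subgroup G} {q : ℕ} (c : TwoLocals S V A Z q)
include c

theorem q_eq_four [IsSimpleGroup G] (hq : 2 < q) : q = 4 := by
  have hle := two_locals_bound c.cit c.dV c.dA c.hNV
  obtain ⟨a, ha1, rfl⟩ := c.dV.expl.exists_two_pow
  have ha : a ≤ 3 := by
    by_contra h
    have h' : 2 ^ 4 ≤ 2 ^ a := Nat.pow_le_pow_right (by norm_num) (by omega)
    omega
  interval_cases a
  · norm_num at hq
  · norm_num
  · exfalso
    refine no_index_seventy_three (L := Subgroup.normalizer (V : Set G)) ?_ ?_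
    · rw [(c.plane hq).1]; norm_num
    · rw [c.dV.card_L]; norm_num

/-- Two local subgroups with `q = 4` give the linear group of the plane of order four. -/
theorem iso_psl [IsSimpleGroup G] (hq : 2 < q) :
    ∃ (F : Type) (_ : Field F) (_ : Fintype F), Fintype.card F = 4 ∧
      Nonempty (G ≃* Matrix.ProjectiveSpecialLinearGroup (Fin 3) F) := by
  classical
  obtain rfl := c.q_eq_four hq
  obtain ⟨hidx, hjoin⟩ := c.plane hq
  set L := Subgroup.normalizer (V : Set G) with hL
  set L' := Subgroup.normalizer (A : Set G) with hL'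
  haveI := Fintype.ofFinite (G ⧸ L)
  have hΩ : Fintype.card (G ⧸ L) = 21 := by
    rw [← Nat.card_eq_fintype_card, ← Subgroup.index_eq_card, hidx]
  have hLt : L ≠ ⊤ := fun h => by rw [h, Subgroup.index_top] at hidx; omega
  have hinj := toPermHom_coset_injective hLt
  set B : Set (Finset (G ⧸ L)) :=
    {s | ∃ g : G, s = Finset.univ.filter fun p => p ∈ line L L' g} with hB
  have hsteiner : Cfsg.IsSteinerSystem 2 5 B := by
    refine ⟨?_, fun s hs => ?_⟩
    · rintro b ⟨g, rfl⟩
      have h := c.card_line g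
      rw [Nat.card_eq_fintype_card, Fintype.card_subtype] at h
      exact h
    · obtain ⟨p, p', hne, rfl⟩ := Finset.card_eq_two.1 hs
      obtain ⟨x, rfl⟩ := QuotientGroup.mk_surjective p
      have hx : ((x : G) : G ⧸ L) = x • ((1 : G) : G ⧸ L) := by
        show _ = ((x * 1 : G) : G ⧸ L); rw [mul_one]
      obtain ⟨g, hg, hgp⟩ := hjoin (x⁻¹ • p') (fun h => hne (by rw [hx, ← h, smul_inv_smul]))
      have ho : ((1 : G) : G ⧸ L) ∈ line L L' g :=
        ⟨1, one_mem L', by rw [mul_one, QuotientGroup.eq, mul_one]; exact inv_mem hg⟩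
      have h1 : ((x : G) : G ⧸ L) ∈ line L L' (x * g) := hx ▸ smul_mem_line ho x
      have h2 : p' ∈ line L L' (x * g) := smul_inv_smul x p' ▸ smul_mem_line hgp x
      refine ⟨_, ⟨⟨x * g, rfl⟩, ?_⟩, ?_⟩
      · rw [Finset.insert_subset_iff, Finset.singleton_subset_iff, Finset.mem_filter,
          Finset.mem_filter]
        exact ⟨⟨Finset.mem_univ _, h1⟩, Finset.mem_univ _, h2⟩
      · rintro b ⟨⟨k, rfl⟩, hsub⟩
        rw [Finset.insert_subset_iff, Finset.singleton_subset_iff, Finset.mem_filter,
          Finset.mem_filter] at hsub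
        rw [line_eq (c.two_points hne hsub.1.2 hsub.2.2 h1 h2)]
  have himage : ∀ (x : G) (s : Finset (G ⧸ L)), s ∈ B →
      s.image (MulAction.toPermHom G (G ⧸ L) x) ∈ B := by
    rintro x s ⟨g, rfl⟩
    refine ⟨x * g, ?_⟩
    ext p
    simp only [Finset.mem_image, Finset.mem_filter, Finset.mem_univ, true_and]
    constructor
    · rintro ⟨r, hr, rfl⟩
      exact smul_mem_line hr x
    · intro hp
      refine ⟨x⁻¹ • p, ?_, smul_inv_smul x p⟩
      have := smul_mem_line hp x⁻¹
      rwa [inv_mul_cancel_left] at this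
  have hmem : ∀ x : G, MulAction.toPermHom G (G ⧸ L) x ∈ Cfsg.setSystemAut B := by
    intro x
    rw [Steiner.mem_aut_iff]
    refine fun s => ⟨fun h => ?_, fun h => himage x s h⟩
    have h1 := himage x⁻¹ _ h
    rw [Finset.image_image] at h1
    rwa [show (⇑(MulAction.toPermHom G (G ⧸ L) x⁻¹) ∘ ⇑(MulAction.toPermHom G (G ⧸ L) x)) = id from
      funext fun p => inv_smul_smul x p, Finset.image_id] at h1
  obtain ⟨e, he⟩ := Steiner.lab21 hΩ hsteiner
  let emb : G →* Cfsg.setSystemAut (Steiner.sysL 21 Steiner.std21 : Set (Finset (Fin 21))) :=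
    ((MulEquiv.subgroupCongr (by rw [he])).trans (Steiner.autEquiv e B)).symm.toMonoidHom.comp
      ((MulAction.toPermHom G (G ⧸ L)).codRestrict _ hmem)
  have hemb : Function.Injective emb := by
    intro a b h
    simp only [emb, MonoidHom.coe_comp, Function.comp_apply, MulEquiv.coe_toMonoidHom,
      EmbeddingLike.apply_eq_iff_eq] at h
    exact hinj (congrArg Subtype.val h)
  letI F := GaloisField 2 2
  haveI : Fact (Nat.Prime 2) := ⟨Nat.prime_two⟩
  letI : Fintype (GaloisField 2 2) := Fintype.ofFinite _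
  have hF : Fintype.card (GaloisField 2 2) = 4 := by
    rw [← Nat.card_eq_fintype_card, GaloisField.card 2 2 two_ne_zero]; norm_num
  obtain ⟨R, ⟨eR⟩⟩ := Steiner.exists_embedding (GaloisField 2 2) hF
  haveI : IsSimpleGroup emb.range := (MonoidHom.ofInjective hemb).symm.isSimpleGroup
  have hG : Nat.card G = 20160 := by
    rw [← L.card_mul_index, hidx, c.dV.card_L]
  have hAc : Nat.card emb.range = 20160 := by
    rw [← hG]; exact Nat.card_congr (MonoidHom.ofInjective hemb).symm.toEquiv
  have hRc : Nat.card R = 20160 := by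
    rw [Nat.card_congr eR.toEquiv, Steiner.natCard_PSL34 _ hF]
  have hidx' : R.index ≤ 6 := by
    have h1 := R.card_mul_index
    have h2 := Steiner.natCard_aut21_le
    rw [hRc] at h1
    omega
  have hAR : emb.range = R := Steiner.subgroup_eq_of_simple inferInstance
    (hAc.trans hRc.symm) hidx' (by omega)
  exact ⟨GaloisField 2 2, inferInstance, inferInstance, hF,
    ⟨(MonoidHom.ofInjective hemb).trans ((MulEquiv.subgroupCongr hAR).trans eR)⟩⟩

end TwoLocals

end CfsgLib.CIT
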