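import Mathlib
import Cfsg.Agent.Lib.CIT.Split
import Cfsg.Agent.Lib.Invol.StronglyEmbedded
import Cfsg.Agent.Lib.ZStar.Main
import Cfsg.Agent.S0001
import Cfsg.Agent.S0340
import Cfsg.Agent.S2797

/-!
A strongly embedded subgroup with non-trivial `2`-core: the group is a Zassenhaus group.
-/

set_option autoImplicit false
set_option linter.unusedSectionVars false
set_option linter.style.haveILetI false

namespace CfsgLib.CIT

open CfsgLib.Invol
open scoped Pointwise

universe u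

variable {G : Type u} [Group G] [Finite G]

theorem isSolvable_of_two {P : Type*} [Group P] [Finite P] (hP : IsPGroup 2 P) :
    Group.IsSolvable P := by
  haveI : Fact (Nat.Prime 2) := ⟨Nat.prime_two⟩
  haveI := hP.isNilpotent
  infer_instance

/-- A group with non-trivial `2`-core in which every involution lies in a given normal `2`-subgroup
has a normal Sylow `2`-subgroup. -/
theorem sylow_normal_of_invol_mem {H : Type u} [Group H] [Finite H] (hcit : IsCIT H)
    (hall : ∀ t : H, orderOf t = 2 → t ∈ Cfsg.pCore 2 H)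
    (T : Sylow 2 H) : (T : Subgroup H) = Cfsg.pCore 2 H := by
  haveI : Fact (Nat.Prime 2) := ⟨Nat.prime_two⟩
  set Q := Cfsg.pCore 2 H with hQdef
  haveI : Q.Normal := pCore_two_normal
  have hQT : Q ≤ (T : Subgroup H) := pCore_le_sylow T
  by_contra hne
  obtain ⟨j, hj⟩ := T.2.exists_card_eq
  -- an involution of the quotient
  have h2 : 2 ∣ Nat.card (H ⧸ Q) := by
    by_contra hd
    refine hne (le_antisymm (fun x hx => ?_) hQT)
    have ho : orderOf (x : H ⧸ Q) ∣ 2 ^ j := by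
      refine (orderOf_map_dvd (QuotientGroup.mk' Q) x).trans ?_
      rw [← hj]
      exact (T : Subgroup H).orderOf_dvd_natCard hx
    obtain ⟨i, -, hi⟩ := (Nat.dvd_prime_pow Nat.prime_two).mp ho
    rcases i with _ | i
    · rw [pow_zero, orderOf_eq_one_iff, QuotientGroup.eq_one_iff] at hi
      exact hi
    · exact absurd ((dvd_pow_self 2 (Nat.succ_ne_zero i)).trans (hi ▸ orderOf_dvd_natCard _)) hd
  obtain ⟨tb, htb⟩ := exists_prime_orderOf_dvd_card' (G := H ⧸ Q) 2 h2
  have htb2 : tb * tb = 1 := by rw [← pow_two, ← htb, pow_orderOf_eq_one]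
  have htb1 : tb ≠ 1 := fun e => by simp [e] at htb
  obtain ⟨rb, hr1, hro, hrinv⟩ := exists_inverted pCore_quotient_eq_bot htb2 htb1
  obtain ⟨g, hgo, hg⟩ := exists_odd_lift hro
  obtain ⟨s, hs⟩ := QuotientGroup.mk_surjective tb
  set π := QuotientGroup.mk' Q with hπ
  set P := (Subgroup.zpowers rb).comap π with hP
  have hgP : g ∈ P := by
    show (g : H ⧸ Q) ∈ Subgroup.zpowers rb
    rw [hg]; exact Subgroup.mem_zpowers rb
  have hsg : s * g * s⁻¹ ∈ P := by
    show ((s * g * s⁻¹ : H) : H ⧸ Q) ∈ Subgroup.zpowers rb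
    rw [QuotientGroup.mk_mul, QuotientGroup.mk_mul, QuotientGroup.mk_inv, hg, hs, hrinv]
    exact inv_mem (Subgroup.mem_zpowers rb)
  have hQP : Q ≤ P := fun q hq => by
    show (q : H ⧸ Q) ∈ Subgroup.zpowers rb
    rw [(QuotientGroup.eq_one_iff q).mpr hq]
    exact one_mem _
  set N := Q.subgroupOf P with hN
  have hNp : IsPGroup 2 N :=
    (Fitting.pCore_isPGroup 2).of_equiv (Subgroup.subgroupOfEquivOfLe hQP).symm
  obtain ⟨a, ha⟩ := hNp.exists_card_eq
  -- both cyclic subgroups are complements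
  have hgb : orderOf g = orderOf rb := by
    refine Nat.dvd_antisymm (orderOf_dvd_of_pow_eq_one ?_) (hg ▸ orderOf_map_dvd π g)
    refine eq_one_of_odd_mem (Fitting.pCore_isPGroup 2) ?_ (hgo.of_dvd_nat (orderOf_pow_dvd _))
    refine (QuotientGroup.eq_one_iff (N := Q) _).mp ?_
    rw [QuotientGroup.mk_pow, hg, pow_orderOf_eq_one]
  have hPidx : N.index = orderOf rb := by
    have h1 : N = (π.comp P.subtype).ker := by
      rw [← MonoidHom.comap_ker, hπ, QuotientGroup.ker_mk']; rfl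
    rw [h1, Subgroup.index_ker, MonoidHom.range_comp, Subgroup.range_subtype, hP,
      Subgroup.map_comap_eq_self_of_surjective (QuotientGroup.mk'_surjective _), Nat.card_zpowers]
  have compl : ∀ y : P, orderOf (y : H) = orderOf rb →
      Subgroup.IsComplement' N (Subgroup.zpowers y) := by
    intro y hy
    refine Subgroup.isComplement'_of_coprime ?_ ?_
    · rw [Nat.card_zpowers, ← Subgroup.orderOf_coe, hy, ← hPidx]
      exact N.card_mul_index
    · rw [Nat.card_zpowers, ← Subgroup.orderOf_coe, hy, ha]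
      exact (Nat.coprime_two_left.mpr hro).pow_left _
  obtain ⟨p, hp⟩ := Cfsg.Agent.S0001.result N
    (by rw [ha, hPidx]; exact (Nat.coprime_two_left.mpr hro).pow_left _)
    (Or.inl (isSolvable_of_two hNp)) _ _ (compl ⟨g, hgP⟩ hgb)
    (compl ⟨s * g * s⁻¹, hsg⟩ (by
      show orderOf (s * g * s⁻¹) = orderOf rb
      rw [← hgb]
      exact orderOf_injective (MulAut.conj s).toMonoidHom (MulEquiv.injective _) g))
  set n := (p : H)⁻¹ * s with hn
  have hngg : n * g * n⁻¹ ∈ Subgroup.zpowers g := by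
    have : (⟨s * g * s⁻¹, hsg⟩ : P) ∈ MulAut.conj p • Subgroup.zpowers (⟨g, hgP⟩ : P) := by
      rw [hp]; exact Subgroup.mem_zpowers _
    obtain ⟨y, ⟨i, rfl⟩, hy⟩ := this
    have hy' : (p : H) * g ^ i * (p : H)⁻¹ = s * g * s⁻¹ := congrArg Subtype.val hy
    refine ⟨i, ?_⟩
    show g ^ i = n * g * n⁻¹
    rw [hn, show (p : H)⁻¹ * s * g * ((p : H)⁻¹ * s)⁻¹ = (p : H)⁻¹ * (s * g * s⁻¹) * p by group,
      ← hy']
    group
  have hnb : ∃ i : ℤ, (n : H ⧸ Q) = rb ^ i * tb := by
    obtain ⟨i, hi⟩ := p.2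
    refine ⟨-i, ?_⟩
    rw [hn, QuotientGroup.mk_mul, QuotientGroup.mk_inv, hs, zpow_neg]
    congr 2
    exact hi.symm
  obtain ⟨i, hni⟩ := hnb
  have hn2Q : n * n ∈ Q := by
    rw [← QuotientGroup.eq_one_iff, QuotientGroup.mk_mul, hni]
    calc rb ^ i * tb * (rb ^ i * tb) = rb ^ i * (tb * rb ^ i * tb⁻¹) * (tb * tb) := by group
      _ = 1 := by rw [htb2, ← conj_zpow, hrinv, inv_zpow, mul_inv_cancel, one_mul]
  have hnQ : n ∉ Q := by
    intro e
    rw [← QuotientGroup.eq_one_iff, hni, mul_eq_one_iff_eq_inv] at e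
    have h1 : orderOf tb ∣ orderOf rb := by
      refine orderOf_dvd_of_pow_eq_one ?_
      rw [show tb = (rb ^ i)⁻¹ by rw [e, inv_inv], inv_pow, ← zpow_natCast, ← zpow_mul, mul_comm,
        zpow_mul, zpow_natCast, pow_orderOf_eq_one, one_zpow, inv_one]
    rw [htb] at h1
    exact Nat.not_even_iff_odd.mpr hro (even_iff_two_dvd.mpr h1)
  have hn2 : n * n = 1 := by
    by_contra hne'
    -- the square centralises the cyclic subgroup
    set y := n * n with hy
    have hyg : y * g * y⁻¹ ∈ Subgroup.zpowers g := by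
      obtain ⟨i, hi⟩ := id hngg
      rw [hy, show n * n * g * (n * n)⁻¹ = n * (n * g * n⁻¹) * n⁻¹ by group,
        ← show g ^ i = n * g * n⁻¹ from hi, ← conj_zpow]
      exact zpow_mem hngg i
    have hc1 : y * g * y⁻¹ * g⁻¹ = 1 := by
      refine eq_one_of_odd_mem (Fitting.pCore_isPGroup (G := H) 2) ?_ ?_
      · rw [show y * g * y⁻¹ * g⁻¹ = y * (g * y⁻¹ * g⁻¹) by group]
        exact mul_mem hn2Q (pCore_two_normal.conj_mem _ (inv_mem hn2Q) g)
      · obtain ⟨l, hl⟩ := mul_mem hyg (inv_mem (Subgroup.mem_zpowers g))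
        rw [← show g ^ l = y * g * y⁻¹ * g⁻¹ from hl]
        exact hgo.of_dvd_nat (orderOf_dvd_of_mem_zpowers ⟨l, rfl⟩)
    have hc : Commute g y := (mul_inv_eq_iff_eq_mul.mp (mul_inv_eq_one.mp hc1)).symm
    have hg1 := hcit.eq_one_of_centralizes ((Fitting.pCore_isPGroup 2).to_le
      (Subgroup.zpowers_le.mpr hn2Q)) (by rwa [Ne, Subgroup.zpowers_eq_bot]) hgo
      (fun q hq => by
        obtain ⟨l, rfl⟩ := hq
        exact hc.zpow_right l)
    rw [hg1, QuotientGroup.mk_one] at hg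
    exact hr1 hg.symm
  exact hnQ (hall n (orderOf_two hn2 fun e => hnQ (e ▸ one_mem _)))

/-- The strongly embedded case. -/
theorem case_strongly_embedded_zassenhaus [IsSimpleGroup G] (hnc : ∃ a b : G, a * b ≠ b * a)
    (hcit : IsCIT G) (S : Sylow 2 G) (hS : (S : Subgroup G) ≠ ⊥) {M : Subgroup G} (hM : M ≠ ⊤)
    (hMc : HasCore M) (hNM : Subgroup.normalizer ((S : Subgroup G) : Set G) ≤ M)
    (hall : ∀ A : Subgroup G, A ≤ (S : Subgroup G) → A ≠ ⊥ →
      Subgroup.normalizer (A : Set G) ≤ M) :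
    ∃ (Ω : Type u) (_ : MulAction G Ω) (_ : Finite Ω), Cfsg.IsZassenhausGroup G Ω := by
  classical
  haveI : Fact (Nat.Prime 2) := ⟨Nat.prime_two⟩
  have hSM : (S : Subgroup G) ≤ M := Subgroup.le_normalizer.trans hNM
  obtain ⟨z, hzS, hz2, hz1, hzc⟩ := exists_central_invol S.2 hS
  have hzo : orderOf z = 2 := orderOf_two hz2 hz1
  have h2M : 2 ∣ Nat.card M := by
    rw [← hzo]
    exact M.orderOf_dvd_natCard (hSM hzS)
  -- strong embedding
  have hSE : Cfsg.IsStronglyEmbedded M := by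
    obtain ⟨e1, -, e3⟩ := Cfsg.Agent.S2797.result S M hM h2M _ rfl
    refine ⟨hM, even_iff_two_dvd.mpr h2M, fun g hg => ?_⟩
    have h := e1.mp (e3.mpr ⟨1, ?_⟩) g hg
    · exact Nat.not_even_iff_odd.mp fun e => h (even_iff_two_dvd.mp e)
    · rw [Subgroup.map_le_iff_le_comap]
      refine iSup_le fun A => ?_
      intro x hx
      rw [Subgroup.mem_comap]
      show (1 : G) * x * (1 : G)⁻¹ ∈ M
      rw [one_mul, inv_one, mul_one]
      exact hall A.1 A.2.1 A.2.2 hx
  obtain ⟨u₀, hu₀, hu₀M⟩ := strongly_exists_invol_not_mem hSE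
  -- all involutions of `M` lie in the Sylow subgroup, which is normal in `M`
  obtain ⟨N, hN1, hN2, hNM', hNn⟩ := hMc
  obtain ⟨s₀, hs₀N, hs₀2, hs₀1⟩ := exists_invol hN2 hN1
  have hNnorm : (N.subgroupOf M).Normal :=
    (Subgroup.normal_subgroupOf_iff_le_normalizer hNM').mpr hNn
  have hQle := Fitting.le_pCore hNnorm (hN2.of_equiv (Subgroup.subgroupOfEquivOfLe hNM').symm)
  have hinv : ∀ t : M, orderOf t = 2 → t ∈ Cfsg.pCore 2 M := by
    intro t ht
    obtain ⟨d, hd, hdt⟩ := strongly_inter_transitive hSE hu₀ hu₀M (orderOf_two hs₀2 hs₀1)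
      (hNM' hs₀N) ((Subgroup.orderOf_coe t).trans ht) t.2
    refine hQle ?_
    rw [Subgroup.mem_subgroupOf, ← hdt]
    exact (Subgroup.mem_normalizer_iff.mp (hNn (Subgroup.mem_inf.mp hd).1) s₀).mp hs₀N
  have hQ1 : Cfsg.pCore 2 M ≠ ⊥ := fun e => by
    rw [e, le_bot_iff, Subgroup.subgroupOf_eq_bot] at hQle
    exact hN1 (disjoint_self.mp (hQle.mono_right hNM'))
  have hST := sylow_normal_of_invol_mem (hcit.subgroup M) hinv (S.subtype hSM)
  haveI hSn : ((S : Subgroup G).subgroupOf M).Normal := by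
    rw [← S.coe_subtype (h := hSM), hST]; exact pCore_two_normal
  have hMS : M ≤ Subgroup.normalizer ((S : Subgroup G) : Set G) :=
    (Subgroup.normal_subgroupOf_iff_le_normalizer hSM).mp hSn
  have hconj : ∀ m ∈ M, ∀ s ∈ (S : Subgroup G), m * s * m⁻¹ ∈ (S : Subgroup G) := fun m hm s hs =>
    (Subgroup.mem_normalizer_iff.mp (hMS hm) s).mp hs
  have hinvS : ∀ t ∈ M, orderOf t = 2 → t ∈ (S : Subgroup G) := fun t ht ho => by
    have h := hinv ⟨t, ht⟩ ((Subgroup.orderOf_coe _).symm.trans ho)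
    rw [← hST] at h
    exact h
  -- the number `k` of involutions of `M`
  set N₀ := (S : Subgroup G).subgroupOf M with hN₀
  set k := N₀.index with hk
  have hcardS : Nat.card N₀ = Nat.card (S : Subgroup G) :=
    Nat.card_congr (Subgroup.subgroupOfEquivOfLe hSM).toEquiv
  have hMk : Nat.card M = Nat.card (S : Subgroup G) * k := by
    rw [← hcardS, hk, N₀.card_mul_index]
  have hkodd : Odd k := by
    rw [← Nat.not_even_iff_odd, even_iff_two_dvd]
    exact fun h => (S.subtype hSM).not_dvd_index (by rw [Sylow.coe_subtype]; exact h)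
  have hCz : ∀ g : G, Commute g z → g ∈ (S : Subgroup G) := by
    intro g hg
    have hle : (S : Subgroup G) ≤ Subgroup.centralizer ({z} : Set G) := fun s hs =>
      Subgroup.mem_centralizer_singleton_iff.mpr (hzc s hs).symm.eq
    rw [← S.3 (hcit z hzo) hle]
    exact Subgroup.mem_centralizer_singleton_iff.mpr hg.eq
  have hkT : Nat.card {t : G // orderOf t = 2 ∧ t ∈ M} = k := by
    rw [hk, Subgroup.index_eq_card]
    symm
    refine Nat.card_congr (Equiv.ofBijective (fun x : M ⧸ N₀ => (⟨(x.out : G) * z * (x.out : G)⁻¹,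
      conj_orderOf_two hzo _, mul_mem (mul_mem x.out.2 (hSM hzS)) (inv_mem x.out.2)⟩ :
      {t : G // orderOf t = 2 ∧ t ∈ M})) ⟨?_, ?_⟩)
    · intro x y e
      have e' : (x.out : G) * z * (x.out : G)⁻¹ = (y.out : G) * z * (y.out : G)⁻¹ :=
        congrArg Subtype.val e
      rw [← QuotientGroup.out_eq' x, ← QuotientGroup.out_eq' y, QuotientGroup.eq]
      refine hCz _ ?_
      show (x.out : G)⁻¹ * y.out * z = z * ((x.out : G)⁻¹ * y.out)
      calc (x.out : G)⁻¹ * y.out * z
          = (x.out : G)⁻¹ * ((y.out : G) * z * (y.out : G)⁻¹) * y.out := by group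
        _ = (x.out : G)⁻¹ * ((x.out : G) * z * (x.out : G)⁻¹) * y.out := by rw [e']
        _ = z * ((x.out : G)⁻¹ * y.out) := by group
    · rintro ⟨t, ht, htM⟩
      obtain ⟨d, hd, hdt⟩ := strongly_inter_transitive hSE hu₀ hu₀M hzo (hSM hzS) ht htM
      refine ⟨((⟨d, (Subgroup.mem_inf.mp hd).1⟩ : M) : M ⧸ N₀), Subtype.ext ?_⟩
      obtain ⟨n, hn⟩ := QuotientGroup.mk_out_eq_mul N₀ (⟨d, (Subgroup.mem_inf.mp hd).1⟩ : M)
      show (_ : G) * z * _⁻¹ = t
      rw [hn, ← hdt]
      show d * ((n : M) : G) * z * (d * ((n : M) : G))⁻¹ = d * z * d⁻¹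
      rw [show d * ((n : M) : G) * z * (d * ((n : M) : G))⁻¹
        = d * (((n : M) : G) * z * ((n : M) : G)⁻¹) * d⁻¹ by group,
        show ((n : M) : G) * z * ((n : M) : G)⁻¹ = z by
          rw [← (hzc ((n : M) : G) n.2).eq, mul_inv_cancel_right]]
  -- `k ≠ 1` by the theorem on isolated involutions
  have hk1 : 1 < k := by
    have hkpos : 0 < k := Nat.pos_of_ne_zero (Subgroup.index_ne_zero_of_finite)
    by_contra hk1
    have hk1' : k = 1 := by omega
    obtain ⟨T₀, hT₀, hodd, hcom⟩ := ZStar.exists_normal_odd_commutator_mem S z hzo hzS (by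
      intro g hg
      by_contra hne
      have h1 : Nat.card {t : G // orderOf t = 2 ∧ t ∈ M} ≤ 1 := hkT.le.trans hk1'.le
      rw [Finite.card_le_one_iff_subsingleton] at h1
      exact hne (congrArg Subtype.val (h1.elim ⟨g * z * g⁻¹, conj_orderOf_two hzo g, hSM hg⟩
        ⟨z, hzo, hSM hzS⟩)))
    rcases hT₀.eq_bot_or_eq_top with h | h
    · have hzc' : z ∈ Subgroup.center G := Subgroup.mem_center_iff.mpr fun g => by
        have := Subgroup.mem_bot.mp (h ▸ hcom g)
        exact (mul_inv_eq_iff_eq_mul.mp (mul_inv_eq_one.mp this)).symm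
      rcases (inferInstance : (Subgroup.center G).Normal).eq_bot_or_eq_top with h' | h'
      · exact hz1 (Subgroup.mem_bot.mp (h' ▸ hzc'))
      · obtain ⟨a, b, hab⟩ := hnc
        exact hab ((Subgroup.mem_center_iff.mp (h' ▸ Subgroup.mem_top b)) a)
    · rw [h, Subgroup.card_top] at hodd
      exact Nat.not_even_iff_odd.mpr hodd (even_iff_two_dvd.mpr (hzo ▸ orderOf_dvd_natCard z))
  -- the action on cosets
  let Ω := G ⧸ M
  set o : Ω := ((1 : G) : Ω) with ho
  have hoM : ∀ g : G, g • o = o ↔ g ∈ M := fun g => by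
    show ((g * 1 : G) : Ω) = ((1 : G) : Ω) ↔ _
    rw [QuotientGroup.eq, mul_one, mul_one, inv_mem_iff]
  let Dy : Ω → Subgroup G := fun y => M ⊓ MulAction.stabilizer G y
  have hDodd : ∀ y, y ≠ o → Odd (Nat.card (Dy y)) := by
    intro y hy
    obtain ⟨g, rfl⟩ := QuotientGroup.mk_surjective y
    have hg : g ∉ M := fun e => hy (by
      rw [ho, QuotientGroup.eq, mul_one]; exact inv_mem e)
    have : Dy (g : Ω) = M ⊓ M.map (MulAut.conj g).toMonoidHom := by
      ext x
      rw [Subgroup.mem_inf, Subgroup.mem_inf, MulAction.mem_stabilizer_iff, map_conj_mem]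
      refine and_congr_right fun _ => ?_
      show ((x * g : G) : Ω) = _ ↔ _
      rw [eq_comm, QuotientGroup.eq, ← mul_assoc]
    rw [this]
    exact hSE.2.2 g hg
  have hDle : ∀ y, y ≠ o → Nat.card (Dy y) ≤ k := by
    intro y hy
    refine Nat.le_of_dvd (by omega) ?_
    have hd : Nat.card (Dy y) ∣ Nat.card (S : Subgroup G) * k := by
      rw [← hMk]; exact Subgroup.card_dvd_of_le inf_le_left
    obtain ⟨e, he⟩ := S.2.exists_card_eq
    refine Nat.Coprime.dvd_of_dvd_mul_left ?_ hd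
    rw [he]
    exact (Nat.coprime_two_right.mpr (hDodd y hy)).pow_right _
  -- swappers
  have hsw : ∀ y, y ≠ o → Nat.card {i : G // orderOf i = 2 ∧ i • o = y} = k := fun y hy =>
    (strongly_card_swappers hSE o y hy.symm).trans hkT
  have hback : ∀ {i : G} {y : Ω}, orderOf i = 2 → i • o = y → i • y = o := by
    intro i y hi hiy
    rw [← hiy, ← mul_smul, mul_self_of_orderOf_two hi, one_smul]
  have hex : ∀ y, y ≠ o → ∃ i : G, orderOf i = 2 ∧ i • o = y := by
    intro y hy
    have : Nonempty {i : G // orderOf i = 2 ∧ i • o = y} := by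
      refine (Nat.card_pos_iff.mp ?_).1
      rw [hsw y hy]; omega
    obtain ⟨i, hi⟩ := this
    exact ⟨i, hi⟩
  have hinvert : ∀ y, y ≠ o → ∀ i : G, orderOf i = 2 → i • o = y →
      (∀ d ∈ Dy y, i * d * i⁻¹ = d⁻¹) ∧ Nat.card (Dy y) = k := by
    intro y hy i hi hiy
    let f : {j : G // orderOf j = 2 ∧ j • o = y} → Dy y := fun j =>
      ⟨i * j.1, Subgroup.mem_inf.mpr ⟨(hoM _).mp (by rw [mul_smul, j.2.2, hback hi hiy]),
        MulAction.mem_stabilizer_iff.mpr (by rw [mul_smul, hback j.2.1 j.2.2, hiy])⟩⟩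
    have hf : Function.Injective f := fun a b e =>
      Subtype.ext (mul_left_cancel (congrArg Subtype.val e :))
    have hcard : Nat.card (Dy y) = k :=
      le_antisymm (hDle y hy) ((hsw y hy).symm.le.trans (Nat.card_le_card_of_injective f hf))
    refine ⟨fun d hd => ?_, hcard⟩
    obtain ⟨j, hj⟩ := ((Nat.bijective_iff_injective_and_card f).mpr
      ⟨hf, (hsw y hy).trans hcard.symm⟩).2 ⟨d, hd⟩
    have hjd : i * j.1 = d := congrArg Subtype.val hj
    rw [← hjd, mul_inv_rev, inv_of_orderOf_two hi, inv_of_orderOf_two j.2.1,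
      ← mul_assoc i i, mul_self_of_orderOf_two hi, one_mul]
  have hDcard : ∀ y, y ≠ o → Nat.card (Dy y) = k := fun y hy => by
    obtain ⟨i, hi, hiy⟩ := hex y hy
    exact (hinvert y hy i hi hiy).2
  have hDS : ∀ y, y ≠ o → ∀ d ∈ Dy y, d ∈ (S : Subgroup G) → d = 1 := fun y hy d hd hdS =>
    eq_one_of_odd_mem S.2 hdS ((hDodd y hy).of_dvd_nat ((Dy y).orderOf_dvd_natCard hd))
  have hcompl : ∀ y, y ≠ o → Subgroup.IsComplement' N₀ ((Dy y).subgroupOf M) := by
    intro y hy
    refine Subgroup.isComplement'_of_card_mul_and_disjoint ?_ ?_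
    · rw [hcardS, Nat.card_congr (Subgroup.subgroupOfEquivOfLe inf_le_left).toEquiv, hDcard y hy,
        hMk]
    · rw [disjoint_iff, eq_bot_iff]
      rintro x ⟨hxS, hxD⟩
      rw [Subgroup.mem_bot]
      exact Subtype.ext (hDS y hy x hxD hxS)
  have hdecomp : ∀ y, y ≠ o → ∀ m ∈ M, ∃ s ∈ (S : Subgroup G), ∃ d ∈ Dy y, s * d = m := by
    intro y hy m hm
    obtain ⟨⟨s, d⟩, hsd⟩ := (hcompl y hy).2 ⟨m, hm⟩
    exact ⟨((s : M) : G), s.2, ((d : M) : G), d.2, congrArg Subtype.val hsd⟩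
  -- only two fixed points
  have huniq : ∀ y, y ≠ o → ∀ y', y' ≠ o → Dy y ≤ MulAction.stabilizer G y' → y' = y := by
    intro y hy y' hy' hfix
    by_contra hne
    have heq : ∀ w, w ≠ o → Dy y ≤ MulAction.stabilizer G w → Dy w = Dy y := fun w hw hfw =>
      (Subgroup.eq_of_le_of_card_ge (le_inf inf_le_left hfw)
        (by rw [hDcard y hy, hDcard w hw])).symm
    obtain ⟨u, hu, huy⟩ := hex y hy
    obtain ⟨v, hv, hvy⟩ := hex y' hy'
    have hui := (hinvert y hy u hu huy).1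
    have hvi := (hinvert y' hy' v hv hvy).1
    rw [heq y' hy' hfix] at hvi
    set w := u • y' with hw
    have hwo : w ≠ o := fun e => hne (by
      have := congrArg (fun x => u • x) e
      simp only [hw, ← mul_smul, mul_self_of_orderOf_two hu, one_smul] at this
      rw [this, huy])
    have hfw : Dy y ≤ MulAction.stabilizer G w := by
      intro d hd
      rw [MulAction.mem_stabilizer_iff, hw, ← mul_smul,
        show d * u = u * (u⁻¹ * d * u) by group, mul_smul,
        MulAction.mem_stabilizer_iff.mp (hfix (show u⁻¹ * d * u ∈ Dy y from ?_))]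
      have := hui d hd
      rw [inv_of_orderOf_two hu] at this ⊢
      rw [this]
      exact inv_mem hd
    obtain ⟨i, hi, hiw⟩ := hex w hwo
    have hii := (hinvert w hwo i hi hiw).1
    rw [heq w hwo hfw] at hii
    set m := i * (u * v) with hm
    have hmM : m ∈ M := (hoM _).mp (by rw [hm, mul_smul, mul_smul, hvy, ← hw, hback hi hiw])
    have hmd : ∀ d ∈ Dy y, m * d * m⁻¹ = d⁻¹ := by
      intro d hd
      rw [hm, show i * (u * v) * d * (i * (u * v))⁻¹ = i * (u * (v * d * v⁻¹) * u⁻¹) * i⁻¹ by group,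
        hvi d hd, hui _ (inv_mem hd), inv_inv, hii d hd]
    obtain ⟨d₀, hd₀, hd₀1⟩ : ∃ d ∈ Dy y, d ≠ 1 := by
      by_contra! hc
      have h := hDcard y hy
      rw [show Dy y = ⊥ from eq_bot_iff.mpr fun d hd => Subgroup.mem_bot.mpr (hc d hd),
        Subgroup.card_bot] at h
      omega
    obtain ⟨s, hs, e, he, hse⟩ := hdecomp y hy m hmM
    have hcomm : e * d₀ * e⁻¹ = d₀ := by
      -- the torus is abelian, being inverted
      have h1 := hui _ (mul_mem he hd₀)
      rw [show u * (e * d₀) * u⁻¹ = (u * e * u⁻¹) * (u * d₀ * u⁻¹) by group, hui e he,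
        hui d₀ hd₀, ← mul_inv_rev, inv_inj] at h1
      rw [← h1, mul_inv_cancel_right]
    have hd2 : d₀ * d₀ ∈ (S : Subgroup G) := by
      have h1 := hmd d₀ hd₀
      rw [← hse, show s * e * d₀ * (s * e)⁻¹ = s * (e * d₀ * e⁻¹) * s⁻¹ by group, hcomm] at h1
      have h2 : s * d₀ * s⁻¹ * d₀⁻¹ ∈ (S : Subgroup G) := by
        rw [show s * d₀ * s⁻¹ * d₀⁻¹ = s * (d₀ * s⁻¹ * d₀⁻¹) by group]
        exact mul_mem hs (hconj d₀ (Subgroup.mem_inf.mp hd₀).1 _ (inv_mem hs))
      rw [h1, ← mul_inv_rev] at h2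
      exact inv_mem_iff.mp h2
    refine hd₀1 (eq_one_of_odd_two ((hDodd y hy).of_dvd_nat ((Dy y).orderOf_dvd_natCard hd₀))
      (k := 1) ?_)
    rw [pow_one, pow_two]
    exact hDS y hy _ (mul_mem hd₀ hd₀) hd2
  obtain ⟨y₀, hy₀⟩ : ∃ y : Ω, y ≠ o := ⟨((u₀ : G) : Ω), fun e => hu₀M (by
    rw [ho, QuotientGroup.eq, mul_one, inv_mem_iff] at e
    exact e)⟩
  have hkeep : ∀ m ∈ M, ∀ y, y ≠ o → m • y ≠ o := by
    intro m hm y hy e
    refine hy ?_
    have := congrArg (fun x => m⁻¹ • x) e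
    simp only [inv_smul_smul] at this
    rw [this, (hoM _).mpr (inv_mem hm)]
  have horbit : ∀ y, y ≠ o → ∃ m ∈ M, m • y = y₀ := by
    intro y hy
    obtain ⟨m, hm⟩ := Cfsg.Agent.S0001.result N₀
      (by
        rw [hcardS, ← hk]
        obtain ⟨e, he⟩ := S.2.exists_card_eq
        rw [he]
        exact (Nat.coprime_two_left.mpr hkodd).pow_left _)
      (Or.inl (isSolvable_of_two (S.2.of_equiv (Subgroup.subgroupOfEquivOfLe hSM).symm))) _ _
      (hcompl y hy) (hcompl y₀ hy₀)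
    refine ⟨(m : G), m.2, huniq y₀ hy₀ _ (hkeep m m.2 y hy) fun d hd => ?_⟩
    have hmem : (⟨d, (Subgroup.mem_inf.mp hd).1⟩ : M) ∈ MulAut.conj m • (Dy y).subgroupOf M := by
      rw [hm]; exact hd
    obtain ⟨d', hd', hdd⟩ := hmem
    have hdd' : (m : G) * (d' : G) * (m : G)⁻¹ = d := congrArg Subtype.val hdd
    rw [MulAction.mem_stabilizer_iff, ← mul_smul, ← hdd',
      show (m : G) * (d' : G) * (m : G)⁻¹ * m = m * d' by group, mul_smul,
      show (d' : G) • y = y from MulAction.mem_stabilizer_iff.mp (Subgroup.mem_inf.mp hd').2]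
  -- three points
  have hthree : ∀ y, y ≠ o → ∀ y', y' ≠ o → y' ≠ y → ∀ d : G,
      d • o = o → d • y = y → d • y' = y' → d = 1 := by
    intro y hy y' hy' hne d hdo hdy hdy'
    have hd : d ∈ Dy y := Subgroup.mem_inf.mpr ⟨(hoM d).mp hdo, MulAction.mem_stabilizer_iff.mpr hdy⟩
    obtain ⟨m₁, hm₁, e₁⟩ := horbit y hy
    obtain ⟨m₂, hm₂, e₂⟩ := horbit y' hy'
    obtain ⟨s, hs, e, he, hse⟩ := hdecomp y hy (m₂⁻¹ * m₁) (mul_mem (inv_mem hm₂) hm₁)
    have hsy : s • y = y' := by
      have h := congrArg (fun g => g • y) hse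
      simp only [mul_smul] at h
      rw [MulAction.mem_stabilizer_iff.mp (Subgroup.mem_inf.mp he).2, e₁, ← e₂, inv_smul_smul] at h
      exact h
    have hs1 : s ≠ 1 := fun h => hne (by rw [← hsy, h, one_smul])
    have hd' : s⁻¹ * d * s ∈ Dy y := Subgroup.mem_inf.mpr
      ⟨mul_mem (mul_mem (inv_mem (hSM hs)) (Subgroup.mem_inf.mp hd).1) (hSM hs),
        MulAction.mem_stabilizer_iff.mpr (by
          rw [mul_smul, mul_smul, hsy, hdy', ← hsy, inv_smul_smul])⟩
    have h1 : s⁻¹ * d * s * d⁻¹ = 1 := by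
      refine hDS y hy _ (mul_mem hd' (inv_mem hd)) ?_
      rw [show s⁻¹ * d * s * d⁻¹ = s⁻¹ * (d * s * d⁻¹) by group]
      exact mul_mem (inv_mem hs) (hconj d (Subgroup.mem_inf.mp hd).1 s hs)
    have hc : Commute d s := by
      show d * s = s * d
      have := mul_inv_eq_one.mp h1
      calc d * s = s * (s⁻¹ * d * s) := by group
        _ = s * d := by rw [this]
    exact hcit.eq_one_of_centralizes (S.2.to_le (Subgroup.zpowers_le.mpr hs))
      (by rwa [Ne, Subgroup.zpowers_eq_bot])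
      ((hDodd y hy).of_dvd_nat ((Dy y).orderOf_dvd_natCard hd))
      (fun q hq => by obtain ⟨l, rfl⟩ := hq; exact hc.zpow_right l)
  -- the action is that of a Zassenhaus group
  have hto : ∀ a : Ω, ∃ g : G, g • a = o := fun a => by
    obtain ⟨g, rfl⟩ := QuotientGroup.mk_surjective a
    exact ⟨g⁻¹, by show ((g⁻¹ * g : G) : Ω) = _; rw [inv_mul_cancel]⟩
  haveI hfaith : FaithfulSMul G Ω := by
    refine ⟨fun {g h} e => ?_⟩
    let π : G →* Equiv.Perm Ω := MulAction.toPermHom G Ω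
    have hmem : h⁻¹ * g ∈ π.ker := MonoidHom.mem_ker.mpr (Equiv.ext fun x => by
      show (h⁻¹ * g) • x = x
      rw [mul_smul, e x, inv_smul_smul])
    rcases (inferInstance : π.ker.Normal).eq_bot_or_eq_top with hb | ht
    · rw [hb, Subgroup.mem_bot] at hmem
      exact (inv_mul_eq_one.mp hmem).symm
    · exfalso
      refine hM (eq_top_iff.mpr fun x _ => (hoM x).mp ?_)
      have hxk : x ∈ π.ker := by rw [ht]; exact Subgroup.mem_top x
      have hx : π x = 1 := MonoidHom.mem_ker.mp hxk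
      exact Equiv.congr_fun hx o
  have htwo : ∀ a b : Ω, a ≠ b → ∃ g : G, g • a = o ∧ g • b = y₀ := by
    intro a b hab
    obtain ⟨g, hg⟩ := hto a
    have hgb : g • b ≠ o := fun e => hab (MulAction.injective g (hg.trans e.symm))
    obtain ⟨m, hm, hmy⟩ := horbit _ hgb
    exact ⟨m * g, by rw [mul_smul, hg, (hoM m).mpr hm], by rw [mul_smul, hmy]⟩
  have hZ : Cfsg.IsZassenhausGroup G Ω := by
    refine ⟨hfaith, ?_, ?_, ?_, ?_⟩
    · rw [MulAction.is_two_pretransitive_iff]
      intro a b c d hab hcd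
      obtain ⟨g₁, h1, h2⟩ := htwo a b hab
      obtain ⟨g₂, h3, h4⟩ := htwo c d hcd
      exact ⟨g₂⁻¹ * g₁, by rw [mul_smul, h1, inv_smul_eq_iff, h3],
        by rw [mul_smul, h2, inv_smul_eq_iff, h4]⟩
    · intro g a b c hab hbc hac ha hb hc
      obtain ⟨x, hx⟩ := hto a
      have hx' : ∀ w : Ω, g • w = w → (x * g * x⁻¹) • (x • w) = x • w := fun w hw => by
        rw [← mul_smul, inv_mul_cancel_right, mul_smul, hw]
      have := hthree (x • b) (fun e => hab (MulAction.injective x (hx.trans e.symm))) (x • c)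
        (fun e => hac (MulAction.injective x (hx.trans e.symm)))
        (fun e => hbc (MulAction.injective x e).symm)
        (x * g * x⁻¹) (hx ▸ hx' a ha) (hx' b hb) (hx' c hc)
      rwa [mul_inv_eq_one, mul_eq_left] at this
    · obtain ⟨d, hd, hd1⟩ : ∃ d ∈ Dy y₀, d ≠ 1 := by
        by_contra! hc
        have h := hDcard y₀ hy₀
        rw [show Dy y₀ = ⊥ from eq_bot_iff.mpr fun d hd => Subgroup.mem_bot.mpr (hc d hd),
          Subgroup.card_bot] at h
        omega
      exact ⟨d, hd1, o, y₀, hy₀.symm, (hoM d).mpr (Subgroup.mem_inf.mp hd).1,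
        MulAction.mem_stabilizer_iff.mp (Subgroup.mem_inf.mp hd).2⟩
    · intro N' hN' htr
      rcases hN'.eq_bot_or_eq_top with hb | ht
      · exfalso
        obtain ⟨⟨g, hg⟩, hgo⟩ := htr.exists_smul_eq o y₀
        rw [hb, Subgroup.mem_bot] at hg
        subst hg
        have hgo' : (1 : G) • o = y₀ := hgo
        rw [one_smul] at hgo'
        exact hy₀ hgo'.symm
      · refine ⟨o, fun e => hz1 ?_⟩
        have hmem : (⟨z, ht ▸ Subgroup.mem_top z⟩ : N') ∈ MulAction.stabilizer N' o :=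
          MulAction.mem_stabilizer_iff.mpr ((hoM z).mpr (hSM hzS))
        exact congrArg Subtype.val (Subgroup.mem_bot.mp (show _ ∈ (⊥ : Subgroup N') from e ▸ hmem))
  exact ⟨Ω, inferInstance, inferInstance, hZ⟩

/-- The strongly embedded case ends with `PSL₂` or a group of Suzuki order. -/
theorem case_strongly_embedded [IsSimpleGroup G] (hnc : ∃ a b : G, a * b ≠ b * a)
    (hcit : IsCIT G) (S : Sylow 2 G) (hS : (S : Subgroup G) ≠ ⊥) {M : Subgroup G} (hM : M ≠ ⊤)
    (hMc : HasCore M) (hNM : Subgroup.normalizer ((S : Subgroup G) : Set G) ≤ M)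
    (hall : ∀ A : Subgroup G, A ≤ (S : Subgroup G) → A ≠ ⊥ →
      Subgroup.normalizer (A : Set G) ≤ M) :
    (∃ (F : Type) (_ : Field F) (_ : Fintype F),
      Nonempty (G ≃* Matrix.ProjectiveSpecialLinearGroup (Fin 2) F)) ∨ Cfsg.IsSuzuki G := by
  obtain ⟨Ω, i1, i2, hZ⟩ := case_strongly_embedded_zassenhaus hnc hcit S hS hM hMc hNM hall
  exact Cfsg.Agent.S0340.result hZ

end CfsgLib.CIT
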