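import Mathlib
import Cfsg.Agent.Lib.CIT.CaseSE
import Cfsg.Agent.Lib.CIT.Dihedral
import Cfsg.Agent.Lib.CIT.CaseProper
import Cfsg.Agent.Lib.CIT.CasePlane
import Cfsg.Agent.Lib.CIT.PSLCond
import Cfsg.Agent.Lib.RealClassGraph.Basic

/-!
Simple groups in which the centralisers of involutions are `2`-groups.
-/

set_option autoImplicit false
set_option linter.unusedSectionVars false
set_option linter.style.haveILetI false

namespace CfsgLib.CIT

universe u

variable {G : Type u} [Group G] [Finite G]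

theorem sylow_two_ne_bot [IsSimpleGroup G] (hnc : ∃ a b : G, a * b ≠ b * a) (S : Sylow 2 G) :
    (S : Subgroup G) ≠ ⊥ := by
  haveI : Fact (Nat.Prime 2) := ⟨Nat.prime_two⟩
  intro h
  have hnd : ¬ 2 ∣ Nat.card G := fun h2 => by
    have h3 := S.dvd_card_of_dvd_card h2
    rw [h, Subgroup.card_bot] at h3
    omega
  have hsol : Group.IsSolvable G := RealClassGraph.solvable_of_odd
    (Nat.not_even_iff_odd.mp fun he => hnd (even_iff_two_dvd.mp he))
  obtain ⟨a, b, hab⟩ := hnc
  exact hab (IsSimpleGroup.comm_iff_isSolvable.mpr hsol a b)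

/-- The classification, keeping the permutation representation in the strongly embedded case. -/
theorem classify [IsSimpleGroup G] (hnc : ∃ a b : G, a * b ≠ b * a) (hcit : IsCIT G) :
    (∃ (F : Type) (_ : Field F) (_ : Fintype F),
        (Fintype.card F = 9 ∨ (∃ n : ℕ, Fintype.card F = 2 ^ n) ∨
          ((Fintype.card F).Prime ∧
            ∃ k : ℕ, Fintype.card F = 2 ^ k + 1 ∨ Fintype.card F + 1 = 2 ^ k)) ∧
        Nonempty (G ≃* Matrix.ProjectiveSpecialLinearGroup (Fin 2) F)) ∨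
    (∃ (F : Type) (_ : Field F) (_ : Fintype F), Fintype.card F = 4 ∧
        Nonempty (G ≃* Matrix.ProjectiveSpecialLinearGroup (Fin 3) F)) ∨
    (∃ (Ω : Type u) (_ : MulAction G Ω) (_ : Finite Ω), Cfsg.IsZassenhausGroup G Ω) := by
  classical
  haveI : Fact (Nat.Prime 2) := ⟨Nat.prime_two⟩
  obtain ⟨S⟩ : Nonempty (Sylow 2 G) := inferInstance
  have hS := sylow_two_ne_bot hnc S
  rcases configurations hnc hcit S hS with
    ⟨M, hM, hMc, hNM, hall⟩ | ⟨V, A, Z, q, dV, dA, hNV⟩ | ⟨T, V, A, Z, q, d, hTS, hTV⟩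
  · exact Or.inr (Or.inr (case_strongly_embedded_zassenhaus hnc hcit S hS hM hMc hNM hall))
  · rcases eq_or_lt_of_le (show 2 ≤ q from dV.expl.one_lt) with hq | hq
    · subst hq
      obtain ⟨F, i1, i2, -, ⟨e⟩⟩ := exists_psl_of_dihedral hcit S (n := 4) (by norm_num)
        (dihedral_of_order_eight S dV.expl)
      exact Or.inl ⟨F, i1, i2, psl_cond hcit e, ⟨e⟩⟩
    · exact Or.inr (Or.inl ((TwoLocals.mk hcit dV dA hNV).iso_psl hq))
  · rcases eq_or_lt_of_le (show 2 ≤ q from d.expl.one_lt) with hq | hq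
    · subst hq
      obtain ⟨F, i1, i2, -, ⟨e⟩⟩ := exists_psl_case_small hnc hcit S d.expl hTS hTV
      exact Or.inl ⟨F, i1, i2, psl_cond hcit e, ⟨e⟩⟩
    · exact (proper_false hnc hcit S d hTS hTV hq).elim

end CfsgLib.CIT
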