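import Mathlib
import Cfsg.Agent.Lib.CIT.Main
import Cfsg.Agent.Lib.SL2.Klein

/-!
A simple CIT group has a single class of involutions; the central involutions of a Sylow
`2`-subgroup are permuted regularly by the odd part of its normaliser.
-/

set_option autoImplicit false
set_option linter.unusedSectionVars false
set_option linter.style.haveILetI false

namespace CfsgLib.CIT

universe u

variable {G : Type u} [Group G] [Finite G]

theorem isConj_of_psl {F : Type*} [Field F] [Fintype F] (hodd : Odd (Fintype.card F))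
    (e : G ≃* Matrix.ProjectiveSpecialLinearGroup (Fin 2) F) {t u : G} (ht : t * t = 1)
    (ht1 : t ≠ 1) (hu : u * u = 1) (hu1 : u ≠ 1) : IsConj t u := by
  obtain ⟨g, hg⟩ := SL2.invol_conj (F := F) (by rwa [Nat.card_eq_fintype_card])
    (c := e t) (d := e u) ⟨by rw [← map_mul, ht, map_one], fun h => ht1 (e.injective (by rw [h, map_one]))⟩
    ⟨by rw [← map_mul, hu, map_one], fun h => hu1 (e.injective (by rw [h, map_one]))⟩
  exact isConj_iff.mpr ⟨e.symm g, e.injective (by simp [hg])⟩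

/-- A simple CIT group has one class of involutions. -/
theorem isConj_invol [IsSimpleGroup G] (hnc : ∃ a b : G, a * b ≠ b * a) (hcit : IsCIT G) {t u : G}
    (ht : t * t = 1) (ht1 : t ≠ 1) (hu : u * u = 1) (hu1 : u ≠ 1) : IsConj t u := by
  classical
  haveI : Fact (Nat.Prime 2) := ⟨Nat.prime_two⟩
  obtain ⟨S⟩ : Nonempty (Sylow 2 G) := inferInstance
  have hS := sylow_two_ne_bot hnc S
  rcases configurations hnc hcit S hS with
    ⟨M, hM, hMc, hNM, hall⟩ | ⟨V, A, Z, q, dV, dA, hNV⟩ | ⟨T, V, A, Z, q, d, hTS, hTV⟩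
  · have hSM : (S : Subgroup G) ≤ M := Subgroup.le_normalizer.trans hNM
    obtain ⟨z, hzS, hz2, hz1, -⟩ := exists_central_invol S.2 hS
    have h2M : 2 ∣ Nat.card M := by
      rw [← orderOf_two hz2 hz1]
      exact M.orderOf_dvd_natCard (hSM hzS)
    have hSE : Cfsg.IsStronglyEmbedded M := by
      obtain ⟨e1, -, e3⟩ := Cfsg.Agent.S2797.result S M hM h2M _ rfl
      refine ⟨hM, even_iff_two_dvd.mpr h2M, fun g hg => ?_⟩
      have h := e1.mp (e3.mpr ⟨1, ?_⟩) g hg
      · exact Nat.not_even_iff_odd.mp fun e => h (even_iff_two_dvd.mp e)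
      · rw [Subgroup.map_le_iff_le_comap]
        refine iSup_le fun A => ?_
        intro x hx
        rw [Subgroup.mem_comap]
        show (1 : G) * x * (1 : G)⁻¹ ∈ M
        rw [one_mul, inv_one, mul_one]
        exact hall A.1 A.2.1 A.2.2 hx
    exact Invol.strongly_isConj hSE (orderOf_two ht ht1) (orderOf_two hu hu1)
  · rcases eq_or_lt_of_le (show 2 ≤ q from dV.expl.one_lt) with hq | hq
    · subst hq
      obtain ⟨F, i1, i2, hodd, ⟨e⟩⟩ := exists_psl_of_dihedral hcit S (n := 4) (by norm_num)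
        (dihedral_of_order_eight S dV.expl)
      exact isConj_of_psl hodd e ht ht1 hu hu1
    · have c := TwoLocals.mk hcit dV dA hNV
      obtain ⟨z, hz, hz1⟩ := c.exists_center
      obtain ⟨g, hg⟩ := c.isConj_center hz hz1 ht ht1
      obtain ⟨h, hh⟩ := c.isConj_center hz hz1 hu hu1
      exact (isConj_iff.mpr ⟨g, hg⟩ : IsConj z t).symm.trans (isConj_iff.mpr ⟨h, hh⟩)
  · rcases eq_or_lt_of_le (show 2 ≤ q from d.expl.one_lt) with hq | hq
    · subst hq
      obtain ⟨F, i1, i2, hodd, ⟨e⟩⟩ := exists_psl_case_small hnc hcit S d.expl hTS hTV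
      exact isConj_of_psl hodd e ht ht1 hu hu1
    · exact (proper_false hnc hcit S d hTS hTV hq).elim

/-- The odd part of the normaliser of a Sylow `2`-subgroup is regular on the involutions of the
centre: the normaliser has order `|S|` times their number. -/
theorem card_normalizer_sylow [IsSimpleGroup G] (hnc : ∃ a b : G, a * b ≠ b * a) (hcit : IsCIT G)
    (S : Sylow 2 G) :
    Nat.card (Subgroup.normalizer ((S : Subgroup G) : Set G)) =
      Nat.card (S : Subgroup G) * (Nat.card (omegaCenter (S : Subgroup G)) - 1) := by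
  classical
  haveI : Fact (Nat.Prime 2) := ⟨Nat.prime_two⟩
  obtain ⟨z, hzS, hz2, hz1, hzc⟩ := exists_central_invol S.2 (sylow_two_ne_bot hnc S)
  set N := Subgroup.normalizer ((S : Subgroup G) : Set G) with hN
  set Ω := omegaCenter (S : Subgroup G)
  have hCz : ∀ g : G, Commute g z → g ∈ (S : Subgroup G) := by
    intro g hg
    have hle : (S : Subgroup G) ≤ Subgroup.centralizer ({z} : Set G) := fun s hs =>
      Subgroup.mem_centralizer_singleton_iff.mpr (hzc s hs).symm.eq
    rw [← S.3 (hcit z (orderOf_two hz2 hz1)) hle]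
    exact Subgroup.mem_centralizer_singleton_iff.mpr hg.eq
  have hNΩ : N ≤ Subgroup.normalizer (Ω : Set G) := normalizer_le_normalizer_omegaCenter _
  have hSN : (S : Subgroup G) ≤ N := Subgroup.le_normalizer
  set N₀ := (S : Subgroup G).subgroupOf N
  have hbij : Nat.card (N ⧸ N₀) = Nat.card {x : Ω // x ≠ 1} := by
    refine Nat.card_congr (Equiv.ofBijective (fun x : N ⧸ N₀ =>
      (⟨⟨(x.out : G) * z * (x.out : G)⁻¹,
          (Subgroup.mem_normalizer_iff.mp (hNΩ x.out.2) z).mp ⟨hzS, hz2, hzc⟩⟩,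
        fun h => hz1 (by
          have h' : (x.out : G) * z * (x.out : G)⁻¹ = 1 := congrArg Subtype.val h
          exact conj_eq_one_iff.mp h')⟩ : {x : Ω // x ≠ 1})) ⟨fun x y h => ?_, ?_⟩)
    · have e' : (x.out : G) * z * (x.out : G)⁻¹ = (y.out : G) * z * (y.out : G)⁻¹ :=
        congrArg (fun w : {x : Ω // x ≠ 1} => ((w.1 : Ω) : G)) h
      rw [← QuotientGroup.out_eq' x, ← QuotientGroup.out_eq' y, QuotientGroup.eq]
      refine hCz _ ?_
      show (x.out : G)⁻¹ * y.out * z = z * ((x.out : G)⁻¹ * y.out)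
      calc (x.out : G)⁻¹ * y.out * z
          = (x.out : G)⁻¹ * ((y.out : G) * z * (y.out : G)⁻¹) * y.out := by group
        _ = (x.out : G)⁻¹ * ((x.out : G) * z * (x.out : G)⁻¹) * y.out := by rw [e']
        _ = z * ((x.out : G)⁻¹ * y.out) := by group
    · rintro ⟨⟨w, hwS, hw2, hwc⟩, hw⟩
      have hw1 : w ≠ 1 := fun h => hw (Subtype.ext h)
      obtain ⟨g, hg⟩ := isConj_iff.mp (isConj_invol hnc hcit hz2 hz1 hw2 hw1)
      obtain ⟨n, hn, hnz⟩ := S.conj_eq_normalizer_conj_of_mem_centralizer z g⁻¹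
        (Subgroup.mem_centralizer_iff.mpr fun s hs => (hzc s hs).symm.eq)
        (by
          rw [inv_inv, hg]
          exact Subgroup.mem_centralizer_iff.mpr fun s hs => (hwc s hs).symm.eq)
      rw [inv_inv, hg] at hnz
      refine ⟨((⟨n⁻¹, inv_mem hn⟩ : N) : N ⧸ N₀), Subtype.ext (Subtype.ext ?_)⟩
      obtain ⟨s, hs⟩ := QuotientGroup.mk_out_eq_mul N₀ (⟨n⁻¹, inv_mem hn⟩ : N)
      show (_ : G) * z * _⁻¹ = w
      rw [hs]
      show n⁻¹ * ((s : N) : G) * z * (n⁻¹ * ((s : N) : G))⁻¹ = w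
      rw [show n⁻¹ * ((s : N) : G) * z * (n⁻¹ * ((s : N) : G))⁻¹
          = n⁻¹ * (((s : N) : G) * z * ((s : N) : G)⁻¹) * n by group,
        ← (hzc ((s : N) : G) s.2).eq, mul_inv_cancel_right, ← hnz]
  have h1 := N₀.card_mul_index
  rw [Subgroup.index_eq_card, hbij, Nat.card_congr (Subgroup.subgroupOfEquivOfLe hSN).toEquiv] at h1
  rw [← h1]
  congr 1
  haveI := Fintype.ofFinite Ω
  rw [Nat.card_eq_fintype_card, Nat.card_eq_fintype_card, Fintype.card_subtype_compl,
    Fintype.card_subtype_eq]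

end CfsgLib.CIT
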