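import Mathlib
import Cfsg.Agent.Lib.CIT.Basic
import Cfsg.Agent.Lib.CIT.Main
import Cfsg.Agent.Lib.Hall.Basic
import Cfsg.Agent.Lib.RealClassGraph.Basic

/-!
A non-solvable CIT group with trivial `2`-core has a simple normal subgroup with trivial
centraliser.
-/

set_option autoImplicit false
set_option linter.unusedSectionVars false
set_option linter.style.haveILetI false

namespace CfsgLib.CIT

universe u

variable {G : Type u} [Group G] [Finite G]

theorem exists_minimal_normal_le {M : Subgroup G} (hMn : M.Normal) (hM : M ≠ ⊥) :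
    ∃ N : Subgroup G, N.Normal ∧ N ≤ M ∧ N ≠ ⊥ ∧
      ∀ K : Subgroup G, K.Normal → K ≤ N → K = ⊥ ∨ K = N := by
  obtain ⟨N, hN, hmin⟩ := (Set.toFinite {N : Subgroup G | N.Normal ∧ N ≤ M ∧ N ≠ ⊥}).exists_minimal
    ⟨M, hMn, le_rfl, hM⟩
  exact ⟨N, hN.1, hN.2.1, hN.2.2, fun K h1 h2 => or_iff_not_imp_left.mpr fun h3 =>
    le_antisymm h2 (hmin ⟨h1, h2.trans hN.2.1, h3⟩ h2)⟩

theorem exists_invol_of_not_solvable {H : Subgroup G} (h : ¬ Group.IsSolvable H) :
    ∃ t ∈ H, t * t = 1 ∧ t ≠ 1 := by
  haveI : Fact (Nat.Prime 2) := ⟨Nat.prime_two⟩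
  have h2 : 2 ∣ Nat.card H := by
    by_contra h2
    exact h (RealClassGraph.solvable_of_odd
      (Nat.not_even_iff_odd.mp fun e => h2 (even_iff_two_dvd.mp e)))
  obtain ⟨⟨t, ht⟩, ho⟩ := exists_prime_orderOf_dvd_card' (G := H) 2 h2
  rw [Subgroup.orderOf_mk] at ho
  exact ⟨t, ht, by rw [← pow_two, ← ho, pow_orderOf_eq_one], fun e => by simp [e] at ho⟩

/-- Two involutions with product of odd order in a normal subgroup are conjugate under it. -/
theorem conj_in_of_odd_product {C : Subgroup G} {t u : G} (ht : t * t = 1) (hu : u * u = 1)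
    (hC : t * u ∈ C) (ho : Odd (orderOf (t * u))) :
    ∃ c ∈ C, c⁻¹ * t * c = u := by
  obtain ⟨j, hj⟩ := ho
  set d := t * u with hd
  have htdt : t * d * t = d⁻¹ := by
    rw [hd, mul_inv_rev, inv_eq_self hu, inv_eq_self ht,
      show t * (t * u) * t = (t * t) * u * t by group, ht, one_mul]
  have hd2 : t * d = u := by rw [hd, ← mul_assoc, ht, one_mul]
  clear_value d
  have hpow : ∀ n : ℕ, t * d ^ n * t = (d ^ n)⁻¹ := by
    intro n
    induction n with
    | zero => rw [pow_zero, mul_one, ht, inv_one]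
    | succ n ih =>
      calc t * d ^ (n + 1) * t = t * d ^ n * (t * t) * d * t := by rw [ht, pow_succ]; group
        _ = (t * d ^ n * t) * (t * d * t) := by group
        _ = (d ^ (n + 1))⁻¹ := by rw [ih, htdt, pow_succ', mul_inv_rev]
  refine ⟨d ^ (j + 1), pow_mem hC _, ?_⟩
  have h1 : (d ^ (j + 1))⁻¹ * t = t * d ^ (j + 1) := by
    rw [← hpow (j + 1), mul_assoc, ht, mul_one]
  have h2 : d ^ (j + 1) * d ^ (j + 1) = d := by
    rw [← pow_add, show j + 1 + (j + 1) = orderOf d + 1 by omega, pow_succ, pow_orderOf_eq_one,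
      one_mul]
  rw [h1, mul_assoc, h2, hd2]

/-- A CIT group with a non-trivial normal odd abelian subgroup is solvable. -/
theorem isSolvable_of_odd_normal (hcit : IsCIT G) {V : Subgroup G} [hVn : V.Normal]
    (hV : Odd (Nat.card V)) (hV1 : V ≠ ⊥) : Group.IsSolvable G := by
  classical
  by_contra hns
  obtain ⟨t, -, ht, ht1⟩ := exists_invol_of_not_solvable (G := G) (H := ⊤) (fun h => hns (by
    haveI := h
    exact Group.isSolvable_of_surjective (f := (Subgroup.topEquiv (G := G)).toMonoidHom)
      (Subgroup.topEquiv (G := G)).surjective))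
  set C := Subgroup.centralizer (V : Set G) with hC
  haveI : C.Normal := inferInstance
  have hCodd : Odd (Nat.card C) := by
    rw [← Nat.not_even_iff_odd, even_iff_two_dvd]
    intro h2
    haveI : Fact (Nat.Prime 2) := ⟨Nat.prime_two⟩
    obtain ⟨⟨s, hs⟩, ho⟩ := exists_prime_orderOf_dvd_card' (G := C) 2 h2
    rw [Subgroup.orderOf_mk] at ho
    refine hV1 ((Subgroup.eq_bot_iff_forall _).mpr fun v hv => hcit.eq_one (t := s)
      (by rw [← pow_two, ← ho, pow_orderOf_eq_one]) (fun e => by simp [e] at ho)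
      (Subgroup.mem_centralizer_iff.mp hs v hv) (hV.of_dvd_nat (V.orderOf_dvd_natCard hv)))
  have hinv : ∀ s : G, s * s = 1 → s ≠ 1 → ∀ v ∈ V, s * v * s⁻¹ = v⁻¹ := fun s hs hs1 v hv =>
    hcit.inverts hs hs1 hV (fun d hd => hVn.conj_mem d hd s) hv
  have hgen : ∀ g : G, ∃ c ∈ C, Commute (c * g) t := by
    intro g
    have hu : g * t * g⁻¹ * (g * t * g⁻¹) = 1 := by
      rw [show g * t * g⁻¹ * (g * t * g⁻¹) = g * (t * t) * g⁻¹ by group, ht]; group
    have hu1 : g * t * g⁻¹ ≠ 1 := fun e => ht1 (by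
      rw [show t = g⁻¹ * (g * t * g⁻¹) * g by group, e]; group)
    have hmem : t * (g * t * g⁻¹) ∈ C := by
      refine Subgroup.mem_centralizer_iff.mpr fun v hv => ?_
      have h1 := hinv _ hu hu1 v hv
      have h2 := hinv t ht ht1 _ (inv_mem hv)
      rw [inv_inv] at h2
      set u := g * t * g⁻¹
      calc v * (t * u) = (t * v⁻¹ * t⁻¹) * (t * u) := by rw [h2]
        _ = t * (u * v * u⁻¹) * u := by rw [h1]; group
        _ = t * u * v := by group
    obtain ⟨c, hc, hct⟩ := conj_in_of_odd_product ht hu hmem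
      (hCodd.of_dvd_nat (C.orderOf_dvd_natCard hmem))
    refine ⟨c, hc, ?_⟩
    show c * g * t = t * (c * g)
    calc c * g * t = c * (g * t * g⁻¹) * g := by group
      _ = c * (c⁻¹ * t * c) * g := by rw [hct]
      _ = t * (c * g) := by group
  haveI : Fact (Nat.Prime 2) := ⟨Nat.prime_two⟩
  have hq : IsPGroup 2 (G ⧸ C) := by
    refine (hcit t (orderOf_two ht ht1)).of_surjective
      ((QuotientGroup.mk' C).comp (Subgroup.centralizer ({t} : Set G)).subtype) fun x => ?_
    obtain ⟨g, rfl⟩ := QuotientGroup.mk_surjective x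
    obtain ⟨c, hc, hcg⟩ := hgen g
    refine ⟨⟨c * g, Subgroup.mem_centralizer_singleton_iff.mpr hcg.eq⟩, ?_⟩
    show ((c * g : G) : G ⧸ C) = g
    rw [QuotientGroup.mk_mul, (QuotientGroup.eq_one_iff c).mpr hc, one_mul]
  exact hns (RealClassGraph.solvable_of_normal C (RealClassGraph.solvable_of_odd hCodd)
    (isSolvable_of_two hq))

theorem normal_map_of_characteristic {N : Subgroup G} [N.Normal] (K : Subgroup N)
    [K.Characteristic] : (K.map N.subtype).Normal :=
  ConjAct.normal_of_characteristic_of_normal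

/-- A non-solvable CIT group with trivial `2`-core has no non-trivial normal solvable subgroup. -/
theorem eq_bot_of_solvable_normal (hcit : IsCIT G) (hns : ¬ Group.IsSolvable G)
    (hO : Cfsg.pCore 2 G = ⊥) {R : Subgroup G} [R.Normal] (hR : Group.IsSolvable R) : R = ⊥ := by
  by_contra hR1
  haveI : Nontrivial R := (Subgroup.nontrivial_iff_ne_bot R).2 hR1
  obtain ⟨r, hr, V, hVn, hV1, hVr, hVc⟩ := CfsgLib.Hall.exists_normal_pgroup_ne_bot (G := R)
  haveI := Fact.mk hr
  haveI := Fitting.pCore_normal (G := R) r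
  haveI : (Cfsg.pCore r R).Characteristic := PSolvable.pCore_characteristic r
  have hle := Fitting.le_pCore hVn hVr
  have hW : ((Cfsg.pCore r R).map R.subtype).Normal := normal_map_of_characteristic _
  have hWr : IsPGroup r ((Cfsg.pCore r R).map R.subtype) := (Fitting.pCore_isPGroup r).map _
  have hW1 : (Cfsg.pCore r R).map R.subtype ≠ ⊥ := by
    rw [Ne, Subgroup.map_eq_bot_iff_of_injective _ R.subtype_injective]
    exact fun e => hV1 (le_bot_iff.mp (hle.trans e.le))
  by_cases hr2 : r = 2
  · subst hr2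
    exact hW1 (le_bot_iff.mp ((Fitting.le_pCore hW hWr).trans hO.le))
  · obtain ⟨k, hk⟩ := IsPGroup.iff_card.1 hWr
    exact hns (isSolvable_of_odd_normal (hVn := hW) hcit
      (hk ▸ (hr.odd_of_ne_two hr2).pow) hW1)

/-- The simple normal subgroup. -/
theorem exists_simple_normal (hcit : IsCIT G) (hns : ¬ Group.IsSolvable G)
    (hO : Cfsg.pCore 2 G = ⊥) :
    ∃ N : Subgroup G, N.Normal ∧ IsSimpleGroup N ∧ (∃ a b : N, a * b ≠ b * a) ∧
      Subgroup.centralizer (N : Set G) = ⊥ := by
  classical
  haveI : Nontrivial G := by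
    by_contra h
    rw [not_nontrivial_iff_subsingleton] at h
    exact hns (Group.isSolvable_of_comm fun a b => Subsingleton.elim _ _)
  obtain ⟨N, hNn, -, hN1, hmin⟩ := exists_minimal_normal_le
    (inferInstance : (⊤ : Subgroup G).Normal) top_ne_bot
  haveI := hNn
  have hNns : ¬ Group.IsSolvable N := fun h => hN1 (eq_bot_of_solvable_normal hcit hns hO h)
  have hC : Subgroup.centralizer (N : Set G) = ⊥ := by
    refine eq_bot_of_solvable_normal hcit hns hO ?_
    obtain ⟨t, htN, ht, ht1⟩ := exists_invol_of_not_solvable hNns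
    refine isSolvable_of_two ((hcit t (orderOf_two ht ht1)).to_le fun c hc => ?_)
    exact Subgroup.mem_centralizer_singleton_iff.mpr (Subgroup.mem_centralizer_iff.mp hc t htN).symm
  haveI : Nontrivial N := (Subgroup.nontrivial_iff_ne_bot N).2 hN1
  have hrad : ∀ (R : Subgroup N), R.Normal → Group.IsSolvable R → R = ⊥ := by
    intro R hRn hRs
    by_contra hR1
    haveI : Nontrivial R := (Subgroup.nontrivial_iff_ne_bot R).2 hR1
    haveI := hRn
    obtain ⟨r, hr, V, hVn, hV1, hVr, hVc⟩ := CfsgLib.Hall.exists_normal_pgroup_ne_bot (G := R)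
    haveI := Fact.mk hr
    haveI := Fitting.pCore_normal (G := R) r
    haveI : (Cfsg.pCore r R).Characteristic := PSolvable.pCore_characteristic r
    have hW : ((Cfsg.pCore r R).map R.subtype).Normal := normal_map_of_characteristic _
    have hWle := Fitting.le_pCore hW ((Fitting.pCore_isPGroup r).map _)
    haveI : (Cfsg.pCore r N).Characteristic := PSolvable.pCore_characteristic r
    haveI := Fitting.pCore_normal (G := N) r
    haveI hU : ((Cfsg.pCore r N).map N.subtype).Normal := normal_map_of_characteristic _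
    haveI : Group.IsNilpotent ((Cfsg.pCore r N).map N.subtype) :=
      ((Fitting.pCore_isPGroup (G := N) r).map N.subtype).isNilpotent
    have h0 := eq_bot_of_solvable_normal hcit hns hO (R := (Cfsg.pCore r N).map N.subtype)
      inferInstance
    rw [Subgroup.map_eq_bot_iff_of_injective _ N.subtype_injective] at h0
    rw [h0, le_bot_iff, Subgroup.map_eq_bot_iff_of_injective _ R.subtype_injective] at hWle
    exact hV1 (le_bot_iff.mp ((Fitting.le_pCore hVn hVr).trans hWle.le))
  -- a minimal normal subgroup of `N` is normal in the whole group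
  have hsimple : ∀ K : Subgroup N, K.Normal → K ≠ ⊥ →
      (∀ L : Subgroup N, L.Normal → L ≤ K → L = ⊥ ∨ L = K) → K = ⊤ := by
    intro K hK hK1 hKmin
    have hKns : ¬ Group.IsSolvable K := fun h => hK1 (hrad K hK h)
    obtain ⟨t, htK, ht, ht1⟩ := exists_invol_of_not_solvable hKns
    have hn : (K.map N.subtype).Normal := by
      refine ⟨?_⟩
      rintro _ ⟨x, hx, rfl⟩ g
      by_contra hne
      let f : MulAut N := (MulAut.conjNormal g)
      have hKf : (K.map f.toMonoidHom).Normal :=
        hK.map _ f.surjective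
      have hint : K ⊓ K.map f.toMonoidHom = ⊥ := by
        refine (hKmin _ (by haveI := hK; haveI := hKf; infer_instance) inf_le_left).resolve_right
          fun e => hne ?_
        have hle : K ≤ K.map f.toMonoidHom := inf_eq_left.mp e
        have heq : K = K.map f.toMonoidHom := Subgroup.eq_of_le_of_card_ge hle
          (Subgroup.card_map_of_injective (f := f.toMonoidHom) f.injective).le
        exact ⟨f x, by rw [heq]; exact ⟨x, hx, rfl⟩, by simp [f]⟩
      have hcomm := Subgroup.commute_of_normal_of_disjoint K (K.map f.toMonoidHom) hK hKf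
        (disjoint_iff.mpr hint)
      refine hKns ?_
      haveI : Fact (Nat.Prime 2) := ⟨Nat.prime_two⟩
      have hle2 : ∀ y ∈ K.map f.toMonoidHom, Commute y t := fun y hy => (hcomm t y htK hy).symm
      have hp := (hcit.subgroup N) t (orderOf_two ht ht1)
      have hp2 : IsPGroup 2 (K.map f.toMonoidHom) := hp.to_le fun y hy =>
        Subgroup.mem_centralizer_singleton_iff.mpr (hle2 y hy).eq
      exact isSolvable_of_two (hp2.of_equiv (Subgroup.equivMapOfInjective K _ f.injective).symm)
    have hmap := (hmin _ hn (Subgroup.map_subtype_le K)).resolve_left (by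
      rwa [Subgroup.map_eq_bot_iff_of_injective _ N.subtype_injective])
    rw [eq_top_iff]
    intro y _
    obtain ⟨z, hz, hzy⟩ : (y : G) ∈ K.map N.subtype := by rw [hmap]; exact y.2
    exact (Subtype.ext hzy : z = y) ▸ hz
  refine ⟨N, hNn, ⟨fun K hK => ?_⟩, ?_, hC⟩
  · by_cases hK1 : K = ⊥
    · exact Or.inl hK1
    obtain ⟨L, hL, hLK, hL1, hLmin⟩ := exists_minimal_normal_le hK hK1
    exact Or.inr (top_le_iff.mp ((hsimple L hL hL1 hLmin).ge.trans hLK))
  · by_contra! h
    exact hNns (Group.isSolvable_of_comm h)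

end CfsgLib.CIT
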