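import Mathlib
import Cfsg.Agent.Lib.CIT.Fusion
import Cfsg.Agent.Lib.SpecPSL2.Core
import Cfsg.Agent.Lib.Coprime.SchurZassenhaus

/-!
A CIT group with a simple normal subgroup: the index is a power of two, and it is one as soon as
the centre of a Sylow `2`-subgroup of the simple subgroup has more than four elements of order
at most two.
-/

set_option autoImplicit false
set_option linter.unusedSectionVars false
set_option linter.style.haveILetI false

namespace CfsgLib.CIT

open scoped Pointwise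

universe u

variable {G : Type u} [Group G] [Finite G]

theorem card_mul_relIndex' {A B : Subgroup G} (h : A ≤ B) :
    Nat.card A * A.relIndex B = Nat.card B := by
  rw [← Subgroup.relIndex_bot_left, ← Subgroup.relIndex_bot_left,
    Subgroup.relIndex_mul_relIndex _ _ _ bot_le h]

theorem omegaCenter_map {G' : Type*} [Group G'] (f : G →* G') (hf : Function.Injective f)
    (S : Subgroup G) : omegaCenter (S.map f) = (omegaCenter S).map f := by
  ext x
  constructor
  · rintro ⟨hx, h2, hc⟩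
    obtain ⟨s, hs, rfl⟩ := hx
    refine ⟨s, ⟨hs, hf (by rw [map_mul, h2, map_one]), fun y hy => hf ?_⟩, rfl⟩
    rw [map_mul, map_mul]
    exact (hc _ ⟨y, hy, rfl⟩).eq
  · rintro ⟨s, ⟨hs, h2, hc⟩, rfl⟩
    refine ⟨⟨s, hs, rfl⟩, by rw [← map_mul, h2, map_one], ?_⟩
    rintro _ ⟨y, hy, rfl⟩
    exact (hc y hy).map f

theorem card_omegaCenter_pred_odd {S : Subgroup G} (hS : IsPGroup 2 S) (hS1 : S ≠ ⊥) :
    1 < Nat.card (omegaCenter S) ∧ Odd (Nat.card (omegaCenter S) - 1) := by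
  haveI : Fact (Nat.Prime 2) := ⟨Nat.prime_two⟩
  obtain ⟨a, ha⟩ := (hS.to_le (omegaCenter_le S)).exists_card_eq
  have ha0 : a ≠ 0 := fun h => omegaCenter_ne_bot hS hS1
    (Subgroup.card_eq_one.mp (by rw [ha, h, pow_zero]))
  rw [ha]
  refine ⟨Nat.one_lt_two_pow ha0, ?_⟩
  rw [Nat.odd_iff]
  obtain ⟨b, hb⟩ := dvd_pow_self 2 ha0
  have := Nat.one_lt_two_pow ha0
  omega

section

variable (hcit : IsCIT G) {N : Subgroup G} [N.Normal] [IsSimpleGroup N]
  (hnc : ∃ a b : N, a * b ≠ b * a) (S : Sylow 2 N)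
include hcit hnc

theorem card_inf_normalizer :
    Nat.card ↥(N ⊓ Subgroup.normalizer ((S : Subgroup N).map N.subtype : Set G)) =
      Nat.card (S : Subgroup N) * (Nat.card (omegaCenter (S : Subgroup N)) - 1) := by
  rw [← card_normalizer_sylow hnc (hcit.subgroup N) S]
  suffices heq : N ⊓ Subgroup.normalizer ((S : Subgroup N).map N.subtype : Set G) =
      (Subgroup.normalizer ((S : Subgroup N) : Set N)).map N.subtype by
    rw [heq, Subgroup.card_map_of_injective N.subtype_injective]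
  ext g
  constructor
  · rintro ⟨hgN, hg⟩
    refine ⟨⟨g, hgN⟩, Subgroup.mem_normalizer_iff.mpr fun s => ?_, rfl⟩
    have h := Subgroup.mem_normalizer_iff.mp hg (s : G)
    constructor
    · intro hs
      obtain ⟨r, hr, hre⟩ := h.mp ⟨s, hs, rfl⟩
      exact (Subtype.ext hre : r = ⟨g, hgN⟩ * s * (⟨g, hgN⟩ : N)⁻¹) ▸ hr
    · intro hs
      obtain ⟨r, hr, hre⟩ := h.mpr ⟨_, hs, rfl⟩
      exact (Subtype.ext hre : r = s) ▸ hr
  · rintro ⟨n, hn, rfl⟩
    refine ⟨n.2, Subgroup.mem_normalizer_iff.mpr fun y => ⟨?_, ?_⟩⟩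
    · rintro ⟨r, hr, rfl⟩
      exact ⟨n * r * n⁻¹, (Subgroup.mem_normalizer_iff.mp hn r).mp hr, rfl⟩
    · rintro ⟨r, hr, hre⟩
      refine ⟨n⁻¹ * r * n, ?_, ?_⟩
      · refine (Subgroup.mem_normalizer_iff.mp hn _).mpr ?_
        rwa [show n * (n⁻¹ * r * n) * n⁻¹ = r by group]
      · show (n : G)⁻¹ * (r : G) * n = y
        rw [show (r : G) = (n : G) * y * (n : G)⁻¹ from hre]
        group

/-- The index of the simple subgroup is a power of two. -/
theorem not_dvd_index {r : ℕ} (hr : r.Prime) (hr2 : r ≠ 2) : ¬ r ∣ N.index := by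
  classical
  haveI : Fact (Nat.Prime 2) := ⟨Nat.prime_two⟩
  haveI := Fact.mk hr
  obtain ⟨S⟩ : Nonempty (Sylow 2 N) := inferInstance
  set S' := (S : Subgroup N).map N.subtype with hS'
  set K := Subgroup.normalizer (S' : Set G) with hK
  set Ω := omegaCenter S' with hΩ
  have hS'p : IsPGroup 2 S' := S.2.map _
  have hKΩ : K ≤ Subgroup.normalizer (Ω : Set G) := normalizer_le_normalizer_omegaCenter S'
  have hidx : (N ⊓ K).relIndex K = N.index := by
    rw [Subgroup.inf_relIndex_right, ← Subgroup.relIndex_sup_right K N,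
      Sylow.normalizer_sup_eq_top S, Subgroup.relIndex_top_right]
  obtain ⟨R⟩ : Nonempty (Sylow r K) := inferInstance
  have hRdvd : Nat.card (R : Subgroup K) ∣ Nat.card Ω - 1 := by
    rw [Nat.card_congr (Subgroup.equivMapOfInjective (R : Subgroup K) K.subtype
      K.subtype_injective).toEquiv]
    refine SpecPSL2.card_dvd_sub_one ((Subgroup.map_subtype_le _).trans hKΩ)
      fun a ha v hv hv1 hc => ?_
    obtain ⟨k, hk⟩ := (R.2.map K.subtype) ⟨a, ha⟩
    exact hcit.eq_one (omegaCenter_invol hv) hv1 hc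
      ((hr.odd_of_ne_two hr2).pow.of_dvd_nat
        (orderOf_dvd_of_pow_eq_one (congrArg Subtype.val hk : a ^ r ^ k = 1)))
  have hΩc : Nat.card Ω = Nat.card (omegaCenter (S : Subgroup N)) := by
    rw [hΩ, hS', omegaCenter_map _ N.subtype_injective,
      ← Nat.card_congr (Subgroup.equivMapOfInjective _ N.subtype N.subtype_injective).toEquiv]
  have hNKc : Nat.card ↥(N ⊓ K) = Nat.card (S : Subgroup N) * (Nat.card Ω - 1) := by
    rw [hK, hS', hΩc, card_inf_normalizer hcit hnc S]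
  have hRN : Nat.card (R : Subgroup K) ∣ Nat.card ↥(N ⊓ K) := hNKc.symm ▸ hRdvd.mul_left _
  intro hd
  have h1 := card_mul_relIndex' (inf_le_right : N ⊓ K ≤ K)
  rw [hidx] at h1
  rw [R.card_eq_multiplicity] at hRN
  refine Nat.pow_succ_factorization_not_dvd (Nat.card_pos (α := K)).ne' hr ?_
  rw [pow_succ, ← h1]
  exact Nat.mul_dvd_mul (h1.symm ▸ hRN) hd

/-- With a large centre the simple subgroup is everything. -/
theorem eq_top_of_omega (hΩ4 : 4 < Nat.card (omegaCenter (S : Subgroup N))) : N = ⊤ := by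
  classical
  haveI : Fact (Nat.Prime 2) := ⟨Nat.prime_two⟩
  by_contra hN
  set S' := (S : Subgroup N).map N.subtype with hS'
  set K := Subgroup.normalizer (S' : Set G) with hK
  set Ω := omegaCenter S' with hΩ
  set J := N ⊓ K with hJ
  have hS'p : IsPGroup 2 S' := S.2.map _
  have hKΩ : K ≤ Subgroup.normalizer (Ω : Set G) := normalizer_le_normalizer_omegaCenter S'
  have hS'N : S' ≤ N := Subgroup.map_subtype_le _
  have hS'J : S' ≤ J := le_inf hS'N Subgroup.le_normalizer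
  have hS'c : Nat.card S' = Nat.card (S : Subgroup N) :=
    (Nat.card_congr (Subgroup.equivMapOfInjective _ N.subtype N.subtype_injective).toEquiv).symm
  have hΩc : Nat.card Ω = Nat.card (omegaCenter (S : Subgroup N)) := by
    rw [hΩ, hS', omegaCenter_map _ N.subtype_injective,
      ← Nat.card_congr (Subgroup.equivMapOfInjective _ N.subtype N.subtype_injective).toEquiv]
  have hJc : Nat.card J = Nat.card S' * (Nat.card Ω - 1) := by
    rw [hJ, hK, hS'c, hΩc]; exact card_inf_normalizer hcit hnc S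
  have hS'1 : S' ≠ ⊥ := by
    rw [Ne, Subgroup.map_eq_bot_iff_of_injective _ N.subtype_injective]
    exact sylow_two_ne_bot hnc S
  have hkodd : Odd (Nat.card Ω - 1) := (card_omegaCenter_pred_odd hS'p hS'1).2
  obtain ⟨a, ha⟩ := hS'p.exists_card_eq
  have hcop : (Nat.card S').Coprime (Nat.card Ω - 1) := by
    rw [ha]; exact (Nat.coprime_two_left.mpr hkodd).pow_left _
  have hJn : J ≤ Subgroup.normalizer (S' : Set G) := inf_le_right
  have hrel : S'.relIndex J = Nat.card Ω - 1 := by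
    have h := card_mul_relIndex' hS'J
    rw [hJc] at h
    exact Nat.eq_of_mul_eq_mul_left Nat.card_pos h
  obtain ⟨H, hHJ, hsup, hinf, hHc⟩ := Coprime.exists_complement_of_coprime hJn (by
    rw [inf_eq_left.mpr hS'J, hrel]; exact hcop)
  rw [inf_eq_left.mpr hS'J] at hsup hinf
  rw [hrel] at hHc
  have hHodd : Odd (Nat.card H) := hHc ▸ hkodd
  have hH1 : H ≠ ⊥ := fun h => by
    rw [h, Subgroup.card_bot] at hHc
    omega
  -- Frattini
  have hfr : ∀ g ∈ K, ∃ x ∈ S', x⁻¹ * g ∈ Subgroup.normalizer (H : Set G) := by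
    intro g hg
    have hsupg : S' ⊔ H = S' ⊔ MulAut.conj g • H := by
      have e1 : MulAut.conj g • S' = S' := Coprime.conj_smul_eq_self_of_mem_normalizer hg
      have e2 : MulAut.conj g • J = J := by
        refine Coprime.conj_smul_eq_self_of_mem_normalizer (Subgroup.mem_normalizer_iff.mpr
          fun y => ⟨fun hy => ⟨(inferInstance : N.Normal).conj_mem y hy.1 g,
            K.mul_mem (K.mul_mem hg hy.2) (K.inv_mem hg)⟩, fun hy => ⟨?_, ?_⟩⟩)
        · have := Subgroup.Normal.conj_mem (inferInstance : N.Normal) _ hy.1 g⁻¹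
          rwa [inv_inv, show g⁻¹ * (g * y * g⁻¹) * g = y by group] at this
        · have := mul_mem (mul_mem (inv_mem hg) hy.2) hg
          rwa [show g⁻¹ * (g * y * g⁻¹) * g = y by group] at this
      rw [hsup]
      conv_lhs => rw [← e2, ← hsup, Subgroup.smul_sup, e1]
    obtain ⟨x, hx, hxe⟩ := Coprime.exists_conj_of_coprime (hHJ.trans hJn)
      (by rw [hHc]; exact hcop) (by rw [Coprime.card_conj_smul, hHc]; exact hcop) hsupg
      (Or.inl (isSolvable_of_two hS'p))
    refine ⟨x, hx, ?_⟩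
    rw [Coprime.mem_normalizer_iff_conj_smul, map_mul, map_inv, mul_smul, inv_smul_eq_iff, hxe]
  -- the outer involution
  obtain ⟨g, hgK, hgN⟩ : ∃ g ∈ K, g ∉ N := by
    by_contra! h
    refine hN ?_
    rw [← Sylow.normalizer_sup_eq_top S]
    exact (sup_eq_right.mpr fun x hx => h x hx).symm
  obtain ⟨s, hs, hsg⟩ := hfr g hgK
  have hg'N : s⁻¹ * g ∉ N := fun h => hgN (by
    have := mul_mem (hS'N hs) h
    rwa [mul_inv_cancel_left] at this)
  have hg'K : s⁻¹ * g ∈ K := mul_mem (inv_mem (Subgroup.le_normalizer hs)) hgK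
  generalize s⁻¹ * g = g at hg'N hg'K hsg
  obtain ⟨y, hyp, hy2, hyN⟩ : ∃ y, y ∈ Subgroup.zpowers g ∧ (∃ j, y ^ 2 ^ j = 1) ∧ y ∉ N := by
    obtain ⟨e, hnd, hm⟩ := Nat.exists_eq_pow_mul_and_not_dvd (orderOf_pos g).ne' 2 (by norm_num)
    refine ⟨g ^ hnd, Subgroup.npow_mem_zpowers g hnd, ⟨e, by
      rw [← pow_mul, mul_comm, ← hm.2, pow_orderOf_eq_one]⟩, fun hmem => hg'N ?_⟩
    obtain ⟨j, hj⟩ : ∃ j, N.index = 2 ^ j :=
      ⟨_, Nat.eq_prime_pow_of_unique_prime_dvd Subgroup.index_ne_zero_of_finite fun {r} hr hd =>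
        by_contra fun hne => not_dvd_index hcit hnc hr hne hd⟩
    have h1 : (g : G ⧸ N) ^ hnd = 1 := by
      rw [← QuotientGroup.mk_pow, QuotientGroup.eq_one_iff]; exact hmem
    have h2 : (g : G ⧸ N) ^ 2 ^ j = 1 := by
      rw [← hj, Subgroup.index_eq_card]; exact pow_card_eq_one'
    rw [← QuotientGroup.eq_one_iff]
    have h3 := pow_gcd_eq_one.mpr ⟨h1, h2⟩
    rwa [show Nat.gcd hnd (2 ^ j) = 1 from ((Nat.prime_two.coprime_iff_not_dvd.mpr hm.1).symm.pow_right _),
      pow_one] at h3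
  obtain ⟨j, hj⟩ := hy2
  obtain ⟨x, hxp, hxN, hx2⟩ : ∃ x, x ∈ Subgroup.zpowers g ∧ x ∉ N ∧ x * x ∈ N ∧ ∃ i, x ^ 2 ^ i = 1 := by
    induction j generalizing y with
    | zero => rw [pow_zero, pow_one] at hj; exact absurd (hj ▸ one_mem N) hyN
    | succ j ih =>
      by_cases h : y * y ∈ N
      · exact ⟨y, hyp, hyN, h, j + 1, hj⟩
      · exact ih (y * y) (mul_mem hyp hyp) h (by rw [← pow_two, ← pow_mul, ← pow_succ', hj])
  obtain ⟨hxx, i, hi⟩ := hx2
  have hxK : x ∈ K := Subgroup.zpowers_le.mpr hg'K hxp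
  have hxH : x ∈ Subgroup.normalizer (H : Set G) := Subgroup.zpowers_le.mpr hsg hxp
  have hHN : H ≤ N := hHJ.trans inf_le_left
  obtain ⟨h₀, hh₀, hh₀1⟩ : ∃ h ∈ H, h ≠ 1 := by
    by_contra! hc
    exact hH1 ((Subgroup.eq_bot_iff_forall _).mpr hc)
  have hsq : x * x = 1 := by
    by_contra hne
    have hxS : x * x ∈ S' := by
      have hP : IsPGroup 2 (Subgroup.zpowers (x * x)) := by
        rintro ⟨_, l, rfl⟩
        refine ⟨i, Subtype.ext ?_⟩
        show ((x * x) ^ l) ^ 2 ^ i = 1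
        rw [← zpow_natCast, ← zpow_mul, mul_comm, zpow_mul, zpow_natCast, ← pow_two, ← pow_mul,
          mul_comm, pow_mul, hi, one_pow, one_zpow]
      have hxxK : x * x ∈ K := mul_mem hxK hxK
      have hsupP := hP.to_sup_of_normal_right'
        (S.2.map N.subtype) (Subgroup.zpowers_le.mpr hxxK)
      have hle : Subgroup.zpowers (x * x) ⊔ S' ≤ N := sup_le (Subgroup.zpowers_le.mpr hxx) hS'N
      have heq := S.3 (Q := (Subgroup.zpowers (x * x) ⊔ S').subgroupOf N)
        (hsupP.of_equiv (Subgroup.subgroupOfEquivOfLe hle).symm) (fun t ht => by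
          rw [Subgroup.mem_subgroupOf]
          exact le_sup_right (a := Subgroup.zpowers (x * x)) ⟨t, ht, rfl⟩)
      refine ⟨⟨x * x, hxx⟩, ?_, rfl⟩
      rw [← heq]
      show x * x ∈ Subgroup.zpowers (x * x) ⊔ S'
      exact le_sup_left (b := S') (Subgroup.mem_zpowers _)
    have hxxH : x * x ∈ Subgroup.normalizer (H : Set G) := mul_mem hxH hxH
    refine hh₀1 (hcit.eq_one_of_centralizes (Q := Subgroup.zpowers (x * x))
      (hS'p.to_le (Subgroup.zpowers_le.mpr hxS)) (by rwa [Ne, Subgroup.zpowers_eq_bot])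
      (hHodd.of_dvd_nat (H.orderOf_dvd_natCard hh₀)) ?_)
    intro w hw
    obtain ⟨l, rfl⟩ := hw
    refine Commute.zpow_right ?_ l
    have h1 : x * x * h₀ * (x * x)⁻¹ * h₀⁻¹ = 1 := by
      rw [← Subgroup.mem_bot, ← hinf]
      refine ⟨?_, H.mul_mem ((Subgroup.mem_normalizer_iff.mp hxxH h₀).mp hh₀) (H.inv_mem hh₀)⟩
      rw [show x * x * h₀ * (x * x)⁻¹ * h₀⁻¹ = x * x * (h₀ * (x * x)⁻¹ * h₀⁻¹) by group]
      exact mul_mem hxS ((Subgroup.mem_normalizer_iff.mp (hHJ hh₀).2 _).mp (inv_mem hxS))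
    show h₀ * (x * x) = x * x * h₀
    exact (mul_inv_eq_iff_eq_mul.mp (mul_inv_eq_one.mp h1)).symm
  have hx1 : x ≠ 1 := fun h => hxN (h ▸ one_mem N)
  have hinvH : ∀ h ∈ H, x * h * x⁻¹ = h⁻¹ := fun h hh =>
    hcit.inverts hsq hx1 hHodd (fun d hd => (Subgroup.mem_normalizer_iff.mp hxH d).mp hd) hh
  -- at most one non-trivial central involution commutes with it
  have hfree : ∀ h ∈ H, ∀ z ∈ Ω, z ≠ 1 → Commute h z → h = 1 := fun h hh z hz hz1 hc =>
    hcit.eq_one (omegaCenter_invol hz) hz1 hc (hHodd.of_dvd_nat (H.orderOf_dvd_natCard hh))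
  have hone : ∀ z ∈ Ω, ∀ z' ∈ Ω, z ≠ 1 → z' ≠ 1 → Commute x z → Commute x z' → z = z' := by
    intro z hz z' hz' hz1 hz'1 hcz hcz'
    let f : H → {w : Ω // w ≠ 1} := fun h => ⟨⟨(h : G) * z * (h : G)⁻¹,
      (Subgroup.mem_normalizer_iff.mp (hKΩ (hHJ h.2).2) z).mp hz⟩, fun e => hz1
        (conj_eq_one_iff.mp (congrArg Subtype.val e : (h : G) * z * (h : G)⁻¹ = 1))⟩
    have hf : Function.Injective f := by
      intro h h' e
      have e' : (h : G) * z * (h : G)⁻¹ = (h' : G) * z * (h' : G)⁻¹ :=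
        congrArg (fun w : {w : Ω // w ≠ 1} => ((w.1 : Ω) : G)) e
      refine Subtype.ext (inv_mul_eq_one.mp
        (hfree _ (mul_mem (inv_mem h'.2) h.2) z hz hz1 ?_)).symm
      show (h' : G)⁻¹ * h * z = z * ((h' : G)⁻¹ * h)
      calc (h' : G)⁻¹ * h * z = (h' : G)⁻¹ * ((h : G) * z * (h : G)⁻¹) * h := by group
        _ = z * ((h' : G)⁻¹ * h) := by rw [e']; group
    have hbij := (Nat.bijective_iff_injective_and_card f).mpr ⟨hf, by
      haveI := Fintype.ofFinite Ω
      rw [hHc, Nat.card_eq_fintype_card, Nat.card_eq_fintype_card (α := {w : Ω // w ≠ 1}),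
        Fintype.card_subtype_compl, Fintype.card_subtype_eq]⟩
    obtain ⟨h, hh⟩ := hbij.2 ⟨⟨z', hz'⟩, fun e => hz'1 (congrArg Subtype.val e)⟩
    have hh' : (h : G) * z * (h : G)⁻¹ = z' :=
      congrArg (fun w : {w : Ω // w ≠ 1} => ((w.1 : Ω) : G)) hh
    have h2 : ((h : G) * h) = 1 := by
      refine hfree _ (mul_mem h.2 h.2) z hz hz1 ?_
      have e1 : x * z' * x⁻¹ = z' := by rw [hcz'.eq, mul_inv_cancel_right]
      have e2 : x * z * x⁻¹ = z := by rw [hcz.eq, mul_inv_cancel_right]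
      rw [← hh', show x * ((h : G) * z * (h : G)⁻¹) * x⁻¹
        = (x * h * x⁻¹) * (x * z * x⁻¹) * (x * h * x⁻¹)⁻¹ by group, hinvH h h.2, e2, inv_inv] at e1
      show (h : G) * h * z = z * ((h : G) * h)
      calc (h : G) * h * z = h * ((h : G) * z * (h : G)⁻¹) * h := by group
        _ = h * ((h : G)⁻¹ * z * h) * h := by rw [e1]
        _ = _ := by group
    have h1 : (h : G) = 1 :=
      eq_one_of_odd_two (hHodd.of_dvd_nat (H.orderOf_dvd_natCard h.2)) (k := 1)
        (by rw [pow_one, pow_two, h2])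
    rw [h1, one_mul, inv_one, mul_one] at hh'
    exact hh'
  let φ : Ω →* Ω :=
    { toFun := fun z => ⟨(z : G) * (x * z * x⁻¹),
        mul_mem z.2 ((Subgroup.mem_normalizer_iff.mp (hKΩ hxK) z).mp z.2)⟩
      map_one' := Subtype.ext (by simp)
      map_mul' := fun z w => Subtype.ext (by
        have hc : Commute (w : G) (x * z * x⁻¹) :=
          ((Subgroup.mem_normalizer_iff.mp (hKΩ hxK) z).mp z.2).2.2 w (omegaCenter_le _ w.2) |>.symm
        show (z : G) * w * (x * ((z : G) * w) * x⁻¹) =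
          (z : G) * (x * z * x⁻¹) * ((w : G) * (x * w * x⁻¹))
        calc (z : G) * w * (x * ((z : G) * w) * x⁻¹)
            = (z : G) * ((w : G) * (x * z * x⁻¹)) * (x * w * x⁻¹) := by group
          _ = _ := by rw [hc.eq]; group) }
  have hmemker : ∀ z : Ω, z ∈ φ.ker ↔ Commute x (z : G) := fun z => by
    rw [MonoidHom.mem_ker, Subtype.ext_iff]
    show (z : G) * (x * z * x⁻¹) = 1 ↔ _
    rw [mul_eq_one_iff_eq_inv, mul_inv_rev, mul_inv_rev, inv_inv, inv_eq_self (omegaCenter_invol z.2)]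
    rw [inv_eq_self hsq]
    constructor
    · intro h
      show x * (z : G) = z * x
      conv_rhs => rw [h]
      rw [mul_assoc, mul_assoc, hsq, mul_one]
    · intro h
      rw [← mul_assoc, h.eq, mul_assoc, hsq, mul_one]
  have hker : Nat.card φ.ker ≤ 2 := by
    by_contra hlt
    haveI := Fintype.ofFinite φ.ker
    rw [Nat.card_eq_fintype_card] at hlt
    obtain ⟨c₁, c₂, c₃, h12, h13, h23⟩ :=
      (Fintype.two_lt_card_iff (α := φ.ker)).mp (by omega)
    have key : ∀ u v : φ.ker, u ≠ 1 → v ≠ 1 → u = v := fun u v hu hv =>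
      Subtype.ext (Subtype.ext (hone _ u.1.2 _ v.1.2 (fun e => hu (Subtype.ext (Subtype.ext e)))
        (fun e => hv (Subtype.ext (Subtype.ext e))) ((hmemker _).mp u.2) ((hmemker _).mp v.2)))
    by_cases e1 : c₁ = 1
    · exact h23 (key c₂ c₃ (fun e => h12 (e1.trans e.symm)) (fun e => h13 (e1.trans e.symm)))
    by_cases e2 : c₂ = 1
    · exact h13 (key c₁ c₃ e1 (fun e => h23 (e2.trans e.symm)))
    exact h12 (key c₁ c₂ e1 e2)
  have hrange : φ.range ≤ φ.ker := by
    rintro _ ⟨z, rfl⟩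
    rw [hmemker]
    show Commute x ((z : G) * (x * z * x⁻¹))
    have hc : Commute (z : G) (x * z * x⁻¹) :=
      ((Subgroup.mem_normalizer_iff.mp (hKΩ hxK) z).mp z.2).2.2 z (omegaCenter_le _ z.2) |>.symm
    show x * ((z : G) * (x * z * x⁻¹)) = (z : G) * (x * z * x⁻¹) * x
    rw [inv_eq_self hsq] at hc ⊢
    calc x * ((z : G) * (x * z * x)) = x * (x * z * x * z) := by rw [hc.eq]
      _ = (x * x) * z * x * z := by group
      _ = (z : G) * x * z := by rw [hsq, one_mul]
      _ = (z : G) * (x * z * x) * x := by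
        rw [show (z : G) * (x * z * x) * x = z * x * z * (x * x) by group, hsq, mul_one]
  have h1 := φ.ker.card_mul_index
  rw [Subgroup.index_ker] at h1
  have h2 : Nat.card φ.range ≤ 2 := (Subgroup.card_le_of_le hrange).trans hker
  have h3 : Nat.card Ω ≤ 4 := by rw [← h1]; exact (Nat.mul_le_mul hker h2).trans (by norm_num)
  omega

end

end CfsgLib.CIT
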