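import Mathlib
import Cfsg.Agent.Lib.CIT.Radical
import Cfsg.Agent.Lib.CIT.Socle
import Cfsg.Agent.Lib.CIT.Local
import Cfsg.Agent.Lib.Spectrum.ThreePrimes

/-!
Groups whose prime graph has `2` as an isolated vertex and three pairwise non-adjacent vertices:
modulo the `2`-core there is a simple normal CIT subgroup with the same prime graph.
-/

set_option autoImplicit false
set_option linter.unusedSectionVars false
set_option linter.style.haveILetI false

namespace CfsgLib.CIT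

universe u v

variable {G : Type u} [Group G] [Finite G] {P : Type v} [Group P] [Finite P]

/-- The same prime graph. -/
def SamePG (P : Type v) (G : Type u) [Group P] [Group G] : Prop :=
  (∀ r : ℕ, r.Prime → (r ∣ Nat.card P ↔ r ∣ Nat.card G)) ∧
    ∀ r s : ℕ, r.Prime → s.Prime → r ≠ s →
      ((∃ x : P, orderOf x = r * s) ↔ ∃ y : G, orderOf y = r * s)

theorem isCIT_of_no_two_mul (h : ∀ r : ℕ, r.Prime → r ≠ 2 → ∀ x : G, orderOf x ≠ 2 * r) :
    IsCIT G := by
  intro t ht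
  refine IsPGroup.iff_card.2 ⟨_, Nat.eq_prime_pow_of_unique_prime_dvd Nat.card_pos.ne'
    fun {r} hr hd => by_contra fun hne => ?_⟩
  haveI := Fact.mk hr
  obtain ⟨⟨x, hx⟩, ho⟩ := exists_prime_orderOf_dvd_card' r hd
  rw [Subgroup.orderOf_mk] at ho
  have hc : Commute t x := (Subgroup.mem_centralizer_singleton_iff.mp hx).symm
  refine h r hr hne (t * x) ?_
  rw [hc.orderOf_mul_eq_mul_orderOf_of_coprime, ht, ho]
  rw [ht, ho]
  exact (Nat.coprime_two_left.mpr (hr.odd_of_ne_two hne))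

theorem IsCIT.no_two_mul (h : IsCIT G) {r : ℕ} (hr : r.Prime) (hr2 : r ≠ 2) (x : G) :
    orderOf x ≠ 2 * r := by
  intro hx
  have h1 : orderOf (x ^ r) = 2 := by
    rw [orderOf_pow_of_dvd hr.ne_zero (hx ▸ dvd_mul_left r 2), hx, Nat.mul_div_cancel _ hr.pos]
  have h2 : orderOf (x ^ 2) = r := by
    rw [orderOf_pow_of_dvd two_ne_zero (hx ▸ dvd_mul_right 2 r), hx,
      Nat.mul_div_cancel_left _ two_pos]
  have := h.eq_one (t := x ^ r) (x := x ^ 2) (by rw [← pow_two, ← h1, pow_orderOf_eq_one])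
    (fun e => by simp [e] at h1) (Commute.pow_pow_self x 2 r) (h2 ▸ hr.odd_of_ne_two hr2)
  rw [this, orderOf_one] at h2
  exact hr.one_lt.ne h2

theorem IsCIT.of_injective {G' : Type*} [Group G'] (h : IsCIT G) (f : G' →* G)
    (hf : Function.Injective f) : IsCIT G' := by
  intro t ht x
  have ht' : orderOf (f t) = 2 := by rw [orderOf_injective f hf, ht]
  obtain ⟨k, hk⟩ := h _ ht' ⟨f x, Subgroup.mem_centralizer_singleton_iff.mpr (by
    rw [← map_mul, ← map_mul, Subgroup.mem_centralizer_singleton_iff.mp x.2])⟩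
  refine ⟨k, Subtype.ext (hf ?_)⟩
  rw [Subgroup.coe_pow, map_pow, Subgroup.coe_one, map_one]
  exact congrArg Subtype.val hk

theorem cit_quotient' (hcit : IsCIT G) : IsCIT (G ⧸ Cfsg.pCore 2 G) := by
  by_cases hQ : Cfsg.pCore 2 G = ⊥
  · have hinj : Function.Injective (QuotientGroup.mk' (Cfsg.pCore 2 G)) := by
      rw [← MonoidHom.ker_eq_bot_iff, QuotientGroup.ker_mk', hQ]
    exact hcit.of_injective
      (MulEquiv.ofBijective _ ⟨hinj, QuotientGroup.mk'_surjective _⟩).symm.toMonoidHom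
      (MulEquiv.injective _)
  · exact cit_quotient hcit hQ

/-- Odd element orders are the same in the quotient by the `2`-core. -/
theorem exists_odd_order_quotient_iff {n : ℕ} (hn : Odd n) :
    (∃ x : G, orderOf x = n) ↔ ∃ y : G ⧸ Cfsg.pCore 2 G, orderOf y = n := by
  haveI := Fitting.pCore_normal (G := G) 2
  constructor
  · rintro ⟨x, rfl⟩
    refine ⟨(x : G ⧸ Cfsg.pCore 2 G), Nat.dvd_antisymm
      (orderOf_map_dvd (QuotientGroup.mk' _) x) (orderOf_dvd_of_pow_eq_one ?_)⟩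
    refine eq_one_of_odd_mem (Fitting.pCore_isPGroup 2) ?_ (hn.of_dvd_nat (orderOf_pow_dvd _))
    rw [← QuotientGroup.eq_one_iff, QuotientGroup.mk_pow, pow_orderOf_eq_one]
  · rintro ⟨y, rfl⟩
    obtain ⟨g, hg, hgy⟩ := exists_odd_lift hn
    refine ⟨g, Nat.dvd_antisymm (orderOf_dvd_of_pow_eq_one ?_)
      (hgy ▸ orderOf_map_dvd (QuotientGroup.mk' _) g)⟩
    refine eq_one_of_odd_mem (Fitting.pCore_isPGroup 2) ?_ (hg.of_dvd_nat (orderOf_pow_dvd _))
    rw [← QuotientGroup.eq_one_iff, QuotientGroup.mk_pow, hgy, pow_orderOf_eq_one]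

/-- Elements of odd order lie in a normal subgroup of `2`-power index. -/
theorem mem_of_odd_index {N : Subgroup G} [N.Normal]
    (hN : ∀ r : ℕ, r.Prime → r ≠ 2 → ¬ r ∣ N.index) {x : G} (hx : Odd (orderOf x)) : x ∈ N := by
  rw [← QuotientGroup.eq_one_iff]
  have h1 : orderOf (x : G ⧸ N) ∣ orderOf x := orderOf_map_dvd (QuotientGroup.mk' N) x
  have h2 : orderOf (x : G ⧸ N) ∣ N.index := N.index_eq_card ▸ orderOf_dvd_natCard _
  by_contra hne
  obtain ⟨r, hr, hrd⟩ := Nat.exists_prime_and_dvd (fun e => hne (orderOf_eq_one_iff.mp e))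
  refine hN r hr (fun e => ?_) (hrd.trans h2)
  subst e
  exact Nat.not_even_iff_odd.mpr hx (even_iff_two_dvd.mpr (hrd.trans h1))

/-- The reduction to a simple CIT group. -/
theorem exists_simple_samePG (h : SamePG P G) (h2 : 2 ∣ Nat.card P)
    (hiso : ∀ r : ℕ, r.Prime → r ≠ 2 → ∀ x : P, orderOf x ≠ 2 * r)
    {a b : ℕ} (ha : a.Prime) (hb : b.Prime) (hab : a ≠ b) (ha2 : a ≠ 2) (hb2 : b ≠ 2)
    (had : a ∣ Nat.card P) (hbd : b ∣ Nat.card P) (hno : ∀ x : P, orderOf x ≠ a * b) :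
    ∃ N : Subgroup (G ⧸ Cfsg.pCore 2 G), N.Normal ∧ IsSimpleGroup N ∧
      (∃ x y : N, x * y ≠ y * x) ∧ IsCIT N ∧ SamePG P N ∧
      ∀ U : Subgroup N, IsPGroup 2 U → ¬ 2 ∣ U.index → 4 < Nat.card (omegaCenter U) → N = ⊤ := by
  classical
  haveI : Fact (Nat.Prime 2) := ⟨Nat.prime_two⟩
  haveI := Fitting.pCore_normal (G := G) 2
  have hG2 : ∀ r : ℕ, r.Prime → r ≠ 2 → ∀ y : G, orderOf y ≠ 2 * r := fun r hr hr2 y hy => by
    obtain ⟨x, hx⟩ := (h.2 2 r Nat.prime_two hr (Ne.symm hr2)).mpr ⟨y, hy⟩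
    exact hiso r hr hr2 x hx
  have hcit : IsCIT G := isCIT_of_no_two_mul hG2
  have hns : ¬ Group.IsSolvable G := by
    intro hs
    obtain ⟨p, hp, q, hq, hpq, g, hg⟩ := Spectrum.exists_adjacent_pair (G := G) {2, a, b}
      (le_of_eq (Finset.card_eq_three.mpr ⟨2, a, b, ha2.symm, hb2.symm, hab, rfl⟩).symm)
      (by
        intro p hp
        simp only [Finset.mem_insert, Finset.mem_singleton] at hp
        rcases hp with rfl | rfl | rfl
        exacts [Nat.prime_two, ha, hb])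
      (by
        intro p hp
        simp only [Finset.mem_insert, Finset.mem_singleton] at hp
        rcases hp with rfl | rfl | rfl
        exacts [(h.1 2 Nat.prime_two).mp h2, (h.1 _ ha).mp had, (h.1 _ hb).mp hbd])
    have hab' : ∀ y : G, orderOf y ≠ a * b := fun y hy => by
      obtain ⟨x, hx⟩ := (h.2 a b ha hb hab).mpr ⟨y, hy⟩
      exact hno x hx
    simp only [Finset.mem_insert, Finset.mem_singleton] at hp hq
    rcases hp with rfl | rfl | rfl <;> rcases hq with rfl | rfl | rfl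
    · exact hpq rfl
    · exact hG2 _ ha ha2 g hg
    · exact hG2 _ hb hb2 g hg
    · exact hG2 _ ha ha2 g (by rw [hg, mul_comm])
    · exact hpq rfl
    · exact hab' g hg
    · exact hG2 _ hb hb2 g (by rw [hg, mul_comm])
    · exact hab' g (by rw [hg, mul_comm])
    · exact hpq rfl
  set Q := G ⧸ Cfsg.pCore 2 G
  have hQcit : IsCIT Q := cit_quotient' hcit
  have hQns : ¬ Group.IsSolvable Q := fun hs => hns (RealClassGraph.solvable_of_normal _
    (isSolvable_of_two (Fitting.pCore_isPGroup 2)) hs)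
  obtain ⟨N, hNn, hNs, hNnc, -⟩ := exists_simple_normal hQcit hQns pCore_quotient_eq_bot
  haveI := hNn
  haveI := hNs
  have hidx : ∀ r : ℕ, r.Prime → r ≠ 2 → ¬ r ∣ N.index := fun r hr hr2 =>
    not_dvd_index hQcit hNnc hr hr2
  have hNcit : IsCIT N := hQcit.subgroup N
  refine ⟨N, hNn, hNs, hNnc, hNcit, ⟨fun r hr => ?_, fun r s hr hs hrs => ?_⟩, fun U hU hUi hU4 => ?_⟩
  · by_cases hr2 : r = 2
    · subst hr2
      refine iff_of_true h2 ?_
      obtain ⟨t, ht⟩ : ∃ t : N, orderOf t = 2 := by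
        obtain ⟨S⟩ : Nonempty (Sylow 2 N) := inferInstance
        obtain ⟨t, -, ht, ht1⟩ := exists_invol S.2 (sylow_two_ne_bot hNnc S)
        exact ⟨t, orderOf_two ht ht1⟩
      have h' := orderOf_dvd_natCard t
      rwa [ht] at h' 
    · rw [h.1 r hr]
      obtain ⟨k, hk⟩ := (Fitting.pCore_isPGroup (G := G) 2).exists_card_eq
      rw [← (Cfsg.pCore 2 G).card_mul_index, hk, Subgroup.index_eq_card, ← N.card_mul_index,
        hr.dvd_mul, hr.dvd_mul]
      constructor
      · rintro (h' | h' | h')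
        · exact absurd ((Nat.prime_dvd_prime_iff_eq hr Nat.prime_two).mp (hr.dvd_of_dvd_pow h')) hr2
        · exact h'
        · exact absurd h' (hidx r hr hr2)
      · exact fun h' => Or.inr (Or.inl h')
  · by_cases hr2 : r = 2
    · subst hr2
      exact iff_of_false (fun ⟨x, hx⟩ => hiso s hs (Ne.symm hrs) x hx)
        (fun ⟨x, hx⟩ => hNcit.no_two_mul hs (Ne.symm hrs) x hx)
    by_cases hs2 : s = 2
    · subst hs2
      exact iff_of_false (fun ⟨x, hx⟩ => hiso r hr hr2 x (by rw [hx, mul_comm]))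
        (fun ⟨x, hx⟩ => hNcit.no_two_mul hr hr2 x (by rw [hx, mul_comm]))
    have hodd : Odd (r * s) := (hr.odd_of_ne_two hr2).mul (hs.odd_of_ne_two hs2)
    rw [h.2 r s hr hs hrs, exists_odd_order_quotient_iff hodd]
    constructor
    · rintro ⟨y, hy⟩
      exact ⟨⟨y, mem_of_odd_index hidx (hy ▸ hodd)⟩, (Subgroup.orderOf_mk ..).trans hy⟩
    · rintro ⟨y, hy⟩
      exact ⟨(y : Q), by rw [Subgroup.orderOf_coe, hy]⟩
  · exact eq_top_of_omega hQcit hNnc (hU.toSylow hUi) hU4

/-- A large elementary abelian centre of a Sylow `2`-subgroup, transported along an isomorphism. -/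
theorem exists_omega_of_equiv {N : Type*} [Group N] [Finite N] (e : N ≃* P) {U : Subgroup P}
    (hU : IsPGroup 2 U) (hUi : ¬ 2 ∣ U.index) (hU4 : 4 < Nat.card (omegaCenter U)) :
    ∃ V : Subgroup N, IsPGroup 2 V ∧ ¬ 2 ∣ V.index ∧ 4 < Nat.card (omegaCenter V) := by
  refine ⟨U.map e.symm.toMonoidHom, hU.map _, ?_, ?_⟩
  · rwa [show (U.map e.symm.toMonoidHom).index = U.index from
      Subgroup.index_map_equiv U e.symm]
  · rwa [omegaCenter_map _ e.symm.injective,
      Subgroup.card_map_of_injective e.symm.injective]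

end CfsgLib.CIT
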