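import Mathlib
import Cfsg.Agent.Lib.NumberTheory.Zsigmondy
import Cfsg.Agent.Lib.CIT.PSLCond
import Cfsg.Agent.Lib.CIT.IsolatedTwo
import Cfsg.Agent.Lib.SL2.Large

/-!
Primitive prime divisors of `2 ^ n - 1`, and facts on `PSL₂` used for prime graphs.
-/

set_option autoImplicit false
set_option linter.unusedSectionVars false
set_option linter.style.haveILetI false

namespace CfsgLib.CIT

theorem exists_big_prime {n : ℕ} (hn : 1 < n) (h6 : n ≠ 6) :
    ∃ r : ℕ, r.Prime ∧ r ∣ 2 ^ n - 1 ∧ n < r ∧ ∀ k : ℕ, 0 < k → r ∣ 2 ^ k - 1 → n ∣ k := by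
  obtain ⟨r, hr, hd, hmin⟩ := NumberTheory.exists_primitive_prime (a := 2) (by norm_num) hn
    (fun h => h6 h.2) (by
      rintro ⟨-, m, hm⟩
      rcases m with _ | m
      · simp at hm
      · rw [pow_succ] at hm; omega)
  have hdiv : ∀ k : ℕ, 0 < k → r ∣ 2 ^ k - 1 → n ∣ k := by
    intro k hk hrk
    have h := Nat.dvd_gcd hd hrk
    rw [Nat.pow_sub_one_gcd_pow_sub_one] at h
    have hg : 0 < n.gcd k := Nat.gcd_pos_of_pos_right _ hk
    have hle : n ≤ n.gcd k := by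
      by_contra hlt
      exact hmin _ hg (by omega) h
    exact Nat.gcd_eq_left_iff_dvd.mp (le_antisymm (Nat.le_of_dvd (by omega) (Nat.gcd_dvd_left n k)) hle)
  refine ⟨r, hr, hd, ?_, hdiv⟩
  have h1 : 1 ≤ 2 ^ n := Nat.one_le_two_pow
  have hr2 : r ≠ 2 := by
    rintro rfl
    have : 2 ∣ 2 ^ n := dvd_pow_self 2 (by omega)
    omega
  have hcop : Nat.Coprime 2 r := Nat.coprime_two_left.mpr (hr.odd_of_ne_two hr2)
  have hfer : r ∣ 2 ^ (r - 1) - 1 := by
    rw [← Nat.totient_prime hr]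
    exact (Nat.modEq_iff_dvd' Nat.one_le_two_pow).mp (Nat.ModEq.pow_totient hcop).symm
  have h2 := Nat.le_of_dvd (by have := hr.two_le; omega) (hdiv (r - 1) (by have := hr.two_le; omega) hfer)
  have := hr.two_le
  omega

/-- A prime dividing `2 ^ m ∓ 1` and `2 ^ (m - 1) ± 1` is three. -/
theorem eq_three_of_dvd_of_dvd {s a b : ℕ} (hs : s.Prime) (ha : s ∣ 2 ^ a - 1) (hb : s ∣ 2 ^ b - 1)
    (hab : Nat.gcd a b ∣ 2) : s = 3 := by
  have h := Nat.dvd_gcd ha hb
  rw [Nat.pow_sub_one_gcd_pow_sub_one] at h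
  have hg : Nat.gcd a b ≤ 2 := Nat.le_of_dvd two_pos hab
  interval_cases hg' : Nat.gcd a b
  · norm_num at hab
  · norm_num at h
    exact absurd h hs.ne_one
  · norm_num at h
    exact (Nat.prime_dvd_prime_iff_eq hs Nat.prime_three).mp h

theorem three_dvd_four_pow_sub_one (n : ℕ) : 3 ∣ 4 ^ n - 1 := by
  have := Nat.sub_dvd_pow_sub_pow 4 1 n
  simpa using this

/-- `PSL₂` over fields of equal order. -/
theorem psl_two_equiv {K F : Type*} [Field K] [Field F] [Finite K] [Finite F]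
    (h : Nat.card K = Nat.card F) :
    Nonempty (Matrix.ProjectiveSpecialLinearGroup (Fin 2) K ≃*
      Matrix.ProjectiveSpecialLinearGroup (Fin 2) F) := by
  obtain ⟨f⟩ := CfsgLib.SL2.nonempty_ringHom_of_pow_card (F := F) (K := K) 1
    (by rw [pow_one]; exact h)
  refine ⟨MulEquiv.ofBijective (CfsgLib.SL2.pslMap f) ((Nat.bijective_iff_injective_and_card _).2
    ⟨CfsgLib.SL2.pslMap_injective f, ?_⟩)⟩
  have h1 := CfsgLib.SL2.card_PSL (F := K)
  have h2 := CfsgLib.SL2.card_PSL (F := F)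
  rw [h] at h1
  rw [← h2] at h1
  exact Nat.eq_of_mul_eq_mul_left (Nat.gcd_pos_of_pos_left _ two_pos) h1

theorem SamePG.of_equiv {P G H : Type*} [Group P] [Group G] [Group H] (h : SamePG P G)
    (e : G ≃* H) : SamePG P H := by
  refine ⟨fun r hr => by rw [h.1 r hr, Nat.card_congr e.toEquiv],
    fun r s hr hs hrs => (h.2 r s hr hs hrs).trans ⟨?_, ?_⟩⟩
  · rintro ⟨y, hy⟩; exact ⟨e y, by rw [MulEquiv.orderOf_eq, hy]⟩
  · rintro ⟨y, hy⟩; exact ⟨e.symm y, by rw [MulEquiv.orderOf_eq, hy]⟩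

end CfsgLib.CIT
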