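import Cfsg.Agent.Lib.CIT.Main
import Cfsg.Agent.Lib.SuzUniq.Zassenhaus

/-!
# The simple CIT-groups up to isomorphism
-/

set_option autoImplicit false
set_option linter.style.haveILetI false

namespace CfsgLib.CIT

/-- A simple CIT-group is `PSL(2, q)`, `PSL(3, 4)` or a Suzuki group. -/
theorem classification_iso {G : Type*} [Group G] [Finite G] [IsSimpleGroup G]
    (hG : ∃ a b : G, a * b ≠ b * a)
    (hCIT : ∀ t : G, orderOf t = 2 → IsPGroup 2 (Subgroup.centralizer ({t} : Set G))) :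
    (∃ (F : Type) (_ : Field F) (_ : Fintype F),
        (Fintype.card F = 9 ∨ (∃ n : ℕ, Fintype.card F = 2 ^ n) ∨
          ((Fintype.card F).Prime ∧ ∃ k : ℕ, Fintype.card F = 2 ^ k + 1 ∨ Fintype.card F + 1 = 2 ^ k)) ∧
        Nonempty (G ≃* Matrix.ProjectiveSpecialLinearGroup (Fin 2) F)) ∨
    (∃ (F : Type) (_ : Field F) (_ : Fintype F), Fintype.card F = 4 ∧
        Nonempty (G ≃* Matrix.ProjectiveSpecialLinearGroup (Fin 3) F)) ∨
    Cfsg.Lie.IsoSuzuki G := by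
  rcases classify hG hCIT with h | h | ⟨Ω, i1, i2, hZ⟩
  · exact Or.inl h
  · exact Or.inr (Or.inl h)
  · rcases CfsgLib.SuzUniq.zassenhaus_simple hZ with ⟨F, j1, j2, ⟨e⟩⟩ | h
    · exact Or.inl ⟨F, j1, j2, psl_cond hCIT e, ⟨e⟩⟩
    · exact Or.inr (Or.inr h)

end CfsgLib.CIT
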