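import Mathlib
import Cfsg.Agent.Lib.CIT.GraphArith
import Cfsg.Agent.S0348

/-!
Recognition of `PSL₂(2^m)` by its prime graph.
-/

set_option autoImplicit false
set_option linter.unusedSectionVars false
set_option linter.style.haveILetI false

namespace CfsgLib.CIT

open Matrix
open scoped MatrixGroups

universe u

variable {F : Type*} [Field F] [Fintype F] {m : ℕ}

theorem charP_two_of_card (hF : Fintype.card F = 2 ^ m) : CharP F 2 := by
  obtain ⟨p, hc⟩ := CharP.exists F
  obtain ⟨n, hp, hn⟩ := FiniteField.card F p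
  rw [hF] at hn
  have : p ∣ 2 ^ m := hn ▸ dvd_pow_self p n.ne_zero
  rwa [(Nat.prime_dvd_prime_iff_eq hp Nat.prime_two).mp (hp.dvd_of_dvd_pow this)] at hc

theorem gcd_two_pow_sub_one (hm : 1 ≤ m) : Nat.gcd 2 (2 ^ m - 1) = 1 := by
  obtain ⟨j, rfl⟩ : ∃ j, m = j + 1 := ⟨m - 1, by omega⟩
  refine Nat.coprime_two_left.mpr (Nat.odd_iff.mpr ?_)
  have := Nat.one_le_two_pow (n := j)
  rw [pow_succ]
  omega

theorem card_psl_two_pow (hm : 1 ≤ m) (hF : Fintype.card F = 2 ^ m) :
    Nat.card (ProjectiveSpecialLinearGroup (Fin 2) F) = 2 ^ m * ((2 ^ m - 1) * (2 ^ m + 1)) := by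
  have h := SL2.card_PSL (F := F)
  rw [Nat.card_eq_fintype_card (α := F), hF, gcd_two_pow_sub_one hm, one_mul] at h
  exact h

theorem order_iff_two_pow (hm : 2 ≤ m) (hF : Fintype.card F = 2 ^ m) (n : ℕ) :
    (∃ x : ProjectiveSpecialLinearGroup (Fin 2) F, orderOf x = n) ↔
      n ∣ 2 ∨ n ∣ 2 ^ m - 1 ∨ n ∣ 2 ^ m + 1 := by
  haveI := charP_two_of_card hF
  haveI : Fact (Nat.Prime 2) := ⟨Nat.prime_two⟩
  have h4 : 4 ≤ Nat.card F := by
    rw [Nat.card_eq_fintype_card, hF, show 4 = 2 ^ 2 by norm_num]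
    exact Nat.pow_le_pow_right two_pos hm
  have h := SL2.spectrum_PSL (F := F) 2 h4
  rw [Nat.card_eq_fintype_card, hF, gcd_two_pow_sub_one (by omega), Nat.div_one, Nat.div_one] at h
  exact Set.ext_iff.mp h n

theorem prime_dvd_card_iff (hm : 1 ≤ m) (hF : Fintype.card F = 2 ^ m) {r : ℕ} (hr : r.Prime) :
    r ∣ Nat.card (ProjectiveSpecialLinearGroup (Fin 2) F) ↔
      r = 2 ∨ r ∣ 2 ^ m - 1 ∨ r ∣ 2 ^ m + 1 := by
  rw [card_psl_two_pow hm hF, hr.dvd_mul, hr.dvd_mul]
  refine or_congr ⟨fun h => (Nat.prime_dvd_prime_iff_eq hr Nat.prime_two).mp (hr.dvd_of_dvd_pow h),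
    fun h => ?_⟩ Iff.rfl
  subst h
  exact dvd_pow_self 2 (by omega)

/-- The upper unitriangular subgroup. -/
theorem exists_elementary_sylow (hm : 3 ≤ m) (hF : Fintype.card F = 2 ^ m) :
    ∃ U : Subgroup (ProjectiveSpecialLinearGroup (Fin 2) F),
      IsPGroup 2 U ∧ ¬ 2 ∣ U.index ∧ 4 < Nat.card (omegaCenter U) := by
  haveI := charP_two_of_card hF
  let T : Multiplicative F →* SL(2, F) :=
    { toFun := fun t => ⟨!![1, t.toAdd; 0, 1], by simp [Matrix.det_fin_two_of]⟩
      map_one' := Subtype.ext (by simp [Matrix.one_fin_two])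
      map_mul' := fun s t => Subtype.ext (by
        show !![(1 : F), (s * t).toAdd; 0, 1] = !![1, s.toAdd; 0, 1] * !![1, t.toAdd; 0, 1]
        simp [add_comm]) }
  set f := SL2.proj.comp T with hf
  have hinj : Function.Injective f := by
    rw [injective_iff_map_eq_one]
    intro t ht
    rcases SL2.eq_one_or_eq_neg_one_of_mem_center _ ((SL2.proj_eq_one_iff _).mp ht) with e | e
    · have := congrArg (fun z : SL(2, F) => z.1 0 1) e
      refine Multiplicative.toAdd.injective ?_
      have h0 : (T t).1 0 1 = t.toAdd := rfl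
      rw [toAdd_one, ← h0]
      simpa using this
    · have := congrArg (fun z : SL(2, F) => z.1 0 1) e
      refine Multiplicative.toAdd.injective ?_
      have h0 : (T t).1 0 1 = t.toAdd := rfl
      rw [toAdd_one, ← h0]
      simpa using this
  have hcard : Nat.card f.range = 2 ^ m := by
    rw [← Nat.card_congr (MonoidHom.ofInjective hinj).toEquiv, Nat.card_congr Multiplicative.toAdd,
      Nat.card_eq_fintype_card, hF]
  have hp : IsPGroup 2 f.range := IsPGroup.of_card hcard
  refine ⟨f.range, hp, ?_, ?_⟩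
  · have h := f.range.card_mul_index
    rw [hcard, card_psl_two_pow (by omega) hF] at h
    rw [Nat.eq_of_mul_eq_mul_left (by positivity) h, Nat.prime_two.dvd_mul]
    have h2 : 2 ∣ 2 ^ m := dvd_pow_self 2 (by omega)
    have := Nat.one_le_two_pow (n := m)
    omega
  · have : omegaCenter f.range = f.range := by
      refine le_antisymm (omegaCenter_le _) ?_
      rintro _ ⟨s, rfl⟩
      refine ⟨⟨s, rfl⟩, ?_, ?_⟩
      · rw [← map_mul, show s * s = 1 from Multiplicative.toAdd.injective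
          (CharTwo.add_self_eq_zero s.toAdd), map_one]
      · rintro _ ⟨t, rfl⟩
        exact (Commute.all s t).map f
    rw [this, hcard]
    calc 4 < 2 ^ 3 := by norm_num
      _ ≤ 2 ^ m := Nat.pow_le_pow_right two_pos hm

/-- No `PSL₂` of odd characteristic other than `2` has the graph of `PSL₂(2^m)`. -/
theorem prime_field_false (hm : 4 ≤ m) (hF : Fintype.card F = 2 ^ m) {K : Type*} [Field K]
    [Fintype K] (hp : (Fintype.card K).Prime) (h5 : 5 ≤ Fintype.card K)
    (h : SamePG (ProjectiveSpecialLinearGroup (Fin 2) F)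
      (ProjectiveSpecialLinearGroup (Fin 2) K)) : False := by
  set p := Fintype.card K with hpdef
  haveI := Fact.mk hp
  haveI : CharP K p := by
    obtain ⟨c, hc⟩ := CharP.exists K
    obtain ⟨n, hcp, hn⟩ := FiniteField.card K c
    have : c = p := (Nat.prime_dvd_prime_iff_eq hcp hp).mp (by
      rw [hpdef, hn]; exact dvd_pow_self c n.ne_zero)
    rwa [this] at hc
  have hodd := hp.odd_of_ne_two (by omega)
  have hg : Nat.gcd 2 (p - 1) = 2 := by
    obtain ⟨r, hr⟩ := hodd
    exact Nat.gcd_eq_left ⟨r, by omega⟩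
  have hspec := SL2.spectrum_PSL (F := K) p (by rw [Nat.card_eq_fintype_card]; omega)
  rw [Nat.card_eq_fintype_card, ← hpdef, hg] at hspec
  have hcard := SL2.card_PSL (F := K)
  rw [Nat.card_eq_fintype_card (α := K), ← hpdef, hg] at hcard
  have hdK : p ∣ Nat.card (ProjectiveSpecialLinearGroup (Fin 2) K) := by
    refine (Nat.Coprime.dvd_mul_left ?_).mp (Dvd.intro _ hcard.symm)
    exact Nat.coprime_two_right.mpr hodd
  -- the neighbours of `p`
  have hnadj : ∀ r : ℕ, r.Prime → r ≠ p →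
      ¬ ∃ x : ProjectiveSpecialLinearGroup (Fin 2) K, orderOf x = p * r := by
    rintro r hr hrp ⟨x, hx⟩
    have hmem : p * r ∈ Set.range (orderOf :
        ProjectiveSpecialLinearGroup (Fin 2) K → ℕ) := ⟨x, hx⟩
    rw [hspec] at hmem
    obtain ⟨j, hj⟩ := hodd
    rcases hmem with h' | h' | h'
    · rcases (Nat.dvd_prime hp).mp h' with e | e
      · exact hr.ne_one (Nat.eq_one_of_mul_eq_one_left e)
      · exact hr.ne_one (Nat.eq_of_mul_eq_mul_left hp.pos (e.trans (mul_one p).symm))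
    · have := Nat.le_of_dvd (by omega) ((dvd_mul_right p r).trans h')
      omega
    · have := Nat.le_of_dvd (by omega) ((dvd_mul_right p r).trans h')
      omega
  have hside : ∀ Q : ℕ, 1 < Q → p ∣ Q → (Q = 2 ^ m - 1 ∨ Q = 2 ^ m + 1) → ∃ c, Q = p ^ c := by
    intro Q hQ hpQ hQm
    refine ⟨_, Nat.eq_prime_pow_of_unique_prime_dvd (by omega) fun {r} hr hd => by_contra fun hne => ?_⟩
    refine hnadj r hr hne ((h.2 p r hp hr (Ne.symm hne)).mp ((order_iff_two_pow (by omega) hF _).mpr ?_))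
    have hpr : p * r ∣ Q := ((Nat.coprime_primes hp hr).mpr (Ne.symm hne)).mul_dvd_of_dvd_of_dvd hpQ hd
    rcases hQm with e | e
    · exact Or.inr (Or.inl (e ▸ hpr))
    · exact Or.inr (Or.inr (e ▸ hpr))
  have hother : ∀ s : ℕ, s.Prime → s ≠ p → s ∣ Nat.card (ProjectiveSpecialLinearGroup (Fin 2) F) →
      s ∣ p - 1 ∨ s ∣ p + 1 := by
    intro s hs hsp hsd
    have hs' := ((h.1 s hs).mp hsd).mul_left 2
    rw [hcard] at hs'
    rcases (Nat.Prime.dvd_mul hs).mp hs' with h' | h'
    · exact absurd ((Nat.prime_dvd_prime_iff_eq hs hp).mp h') hsp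
    · exact (Nat.Prime.dvd_mul hs).mp h'
  have hq16 : 16 ≤ 2 ^ m := le_trans (by norm_num) (Nat.pow_le_pow_right two_pos hm)
  have hp2 : p ≠ 2 := by omega
  obtain ⟨n, rfl⟩ : ∃ n, m = n + 1 := ⟨m - 1, by omega⟩
  have hsq : ∀ k : ℕ, 2 ^ (2 * k) - 1 = (2 ^ k - 1) * (2 ^ k + 1) := fun k => by
    rw [mul_comm (2 ^ k - 1), ← Nat.sq_sub_sq, one_pow, ← pow_mul, mul_comm 2 k]
  have hpowtwo : ∀ s : ℕ, s.Prime → s ∣ 2 ^ (n + 1) → s = 2 := fun s hs hd =>
    (Nat.prime_dvd_prime_iff_eq hs Nat.prime_two).mp (hs.dvd_of_dvd_pow hd)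
  have hev : 2 ∣ 2 ^ (n + 1) := dvd_pow_self 2 (by omega)
  rcases (prime_dvd_card_iff (by omega) hF hp).mp ((h.1 p hp).mpr hdK) with e | hpd | hpd
  · exact hp2 e
  · obtain ⟨c, hc⟩ := hside _ (by omega) hpd (Or.inl rfl)
    have hc0 : 0 < c := Nat.pos_of_ne_zero fun e => by rw [e, pow_zero] at hc; omega
    rw [prime_pow_pred_two hp hc hc0, pow_one] at hc
    -- the other side consists of threes only
    obtain ⟨c', hc'⟩ : ∃ c', 2 ^ (n + 1) + 1 = 3 ^ c' := by
      refine ⟨_, Nat.eq_prime_pow_of_unique_prime_dvd (by omega) fun {s} hs hd => ?_⟩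
      have hs2 : s ≠ 2 := by rintro rfl; omega
      have hsp : s ≠ p := fun e => by
        have h2' : s ∣ 2 := by
          have := Nat.dvd_sub hd (e ▸ hpd : s ∣ 2 ^ (n + 1) - 1)
          rwa [show 2 ^ (n + 1) + 1 - (2 ^ (n + 1) - 1) = 2 by omega] at this
        exact hs2 ((Nat.prime_dvd_prime_iff_eq hs Nat.prime_two).mp h2')
      rcases hother s hs hsp ((prime_dvd_card_iff (by omega) hF hs).mpr (Or.inr (Or.inr hd))) with h' | h'
      · have h'' : s ∣ 2 ^ n - 1 := by
          rw [← hc, show 2 ^ (n + 1) - 1 - 1 = 2 * (2 ^ n - 1) by rw [pow_succ]; omega] at h'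
          exact ((Nat.Prime.dvd_mul hs).mp h').resolve_left
            fun e => hs2 ((Nat.prime_dvd_prime_iff_eq hs Nat.prime_two).mp e)
        refine eq_three_of_dvd_of_dvd hs (a := 2 * (n + 1)) (b := n) ?_ h'' ?_
        · rw [hsq]; exact hd.mul_left _
        · have h1 := (Nat.gcd_dvd_right (2 * (n + 1)) n).mul_left 2
          have h2 := Nat.dvd_sub (Nat.gcd_dvd_left (2 * (n + 1)) n) h1
          rwa [show 2 * (n + 1) - 2 * n = 2 by omega] at h2
      · exact absurd (hpowtwo s hs (by rwa [← hc, Nat.sub_add_cancel Nat.one_le_two_pow] at h')) hs2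
    have hc'0 : 0 < c' := Nat.pos_of_ne_zero fun e => by rw [e, pow_zero] at hc'; omega
    rcases two_pow_add_one Nat.prime_three hc'.symm hc'0 (by norm_num) with e | ⟨-, e⟩ <;>
      rw [e] at hc' <;> norm_num at hc' <;> omega
  · obtain ⟨c, hc⟩ := hside _ (by omega) hpd (Or.inr rfl)
    have hc0 : 0 < c := Nat.pos_of_ne_zero fun e => by rw [e, pow_zero] at hc; omega
    rcases two_pow_add_one hp hc.symm hc0 hp2 with e | ⟨e, e'⟩
    swap
    · omega
    rw [e, pow_one] at hc
    obtain ⟨c', hc'⟩ : ∃ c', 2 ^ (n + 1) - 1 = 3 ^ c' := by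
      refine ⟨_, Nat.eq_prime_pow_of_unique_prime_dvd (by omega) fun {s} hs hd => ?_⟩
      have hs2 : s ≠ 2 := by rintro rfl; omega
      have hsp : s ≠ p := fun e => by
        have := Nat.le_of_dvd (by omega) hd
        omega
      rcases hother s hs hsp ((prime_dvd_card_iff (by omega) hF hs).mpr (Or.inr (Or.inl hd))) with h' | h'
      · exact absurd (hpowtwo s hs (by rwa [← hc, Nat.add_sub_cancel] at h')) hs2
      · have h'' : s ∣ 2 ^ (2 * n) - 1 := by
          rw [← hc, show 2 ^ (n + 1) + 1 + 1 = 2 * (2 ^ n + 1) by rw [pow_succ]; ring] at h'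
          rw [hsq]
          exact (((Nat.Prime.dvd_mul hs).mp h').resolve_left
            fun e => hs2 ((Nat.prime_dvd_prime_iff_eq hs Nat.prime_two).mp e)).mul_left _
        refine eq_three_of_dvd_of_dvd hs (a := n + 1) (b := 2 * n) hd h'' ?_
        have h1 := (Nat.gcd_dvd_left (n + 1) (2 * n)).mul_left 2
        have h2 := Nat.dvd_sub h1 (Nat.gcd_dvd_right (n + 1) (2 * n))
        rwa [show 2 * (n + 1) - 2 * n = 2 by omega] at h2
    have hc'0 : 0 < c' := Nat.pos_of_ne_zero fun e => by rw [e, pow_zero] at hc'; omega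
    rw [prime_pow_pred_two Nat.prime_three hc' hc'0] at hc'
    omega

/-- A group with the prime graph of `PSL₂(2^m)` is that group modulo its `2`-core. -/
theorem iso_of_samePG (hm : 4 ≤ m) (hF : Fintype.card F = 2 ^ m) {G : Type u} [Group G] [Finite G]
    (h : SamePG (ProjectiveSpecialLinearGroup (Fin 2) F) G) :
    Nonempty (G ⧸ Cfsg.pCore 2 G ≃* ProjectiveSpecialLinearGroup (Fin 2) F) := by
  classical
  haveI := Fitting.pCore_normal (G := G) 2
  set P := ProjectiveSpecialLinearGroup (Fin 2) F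
  have hq16 : 16 ≤ 2 ^ m := le_trans (by norm_num) (Nat.pow_le_pow_right two_pos hm)
  have hsq : 2 ^ (2 * m) - 1 = (2 ^ m - 1) * (2 ^ m + 1) := by
    rw [mul_comm (2 ^ m - 1), ← Nat.sq_sub_sq, one_pow, ← pow_mul, mul_comm 2 m]
  have hev : 2 ∣ 2 ^ m := dvd_pow_self 2 (by omega)
  obtain ⟨a, ha, had⟩ := Nat.exists_prime_and_dvd (n := 2 ^ m - 1) (by omega)
  obtain ⟨b, hb, hbd⟩ := Nat.exists_prime_and_dvd (n := 2 ^ m + 1) (by omega)
  have ha2 : a ≠ 2 := by rintro rfl; omega
  have hb2 : b ≠ 2 := by rintro rfl; omega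
  have hcop : ∀ s : ℕ, s.Prime → s ≠ 2 → s ∣ 2 ^ m - 1 → ¬ s ∣ 2 ^ m + 1 := by
    intro s hs hs2 h1 h2
    have := Nat.dvd_sub h2 h1
    rw [show 2 ^ m + 1 - (2 ^ m - 1) = 2 by omega] at this
    exact hs2 ((Nat.prime_dvd_prime_iff_eq hs Nat.prime_two).mp this)
  have hab : a ≠ b := fun e => hcop a ha ha2 had (e ▸ hbd)
  have hiso : ∀ r : ℕ, r.Prime → r ≠ 2 → ∀ x : P, orderOf x ≠ 2 * r := by
    intro r hr hr2 x hx
    rcases (order_iff_two_pow (by omega) hF _).mp ⟨x, hx⟩ with h' | h' | h'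
    · have := Nat.le_of_dvd two_pos h'
      have := hr.two_le
      omega
    · have := (dvd_mul_right 2 r).trans h'; omega
    · have := (dvd_mul_right 2 r).trans h'; omega
  obtain ⟨N, hNn, hNs, hNnc, hNcit, hsame, htop⟩ := exists_simple_samePG h
    (((prime_dvd_card_iff (by omega) hF Nat.prime_two)).mpr (Or.inl rfl)) hiso ha hb hab ha2 hb2
    ((prime_dvd_card_iff (by omega) hF ha).mpr (Or.inr (Or.inl had)))
    ((prime_dvd_card_iff (by omega) hF hb).mpr (Or.inr (Or.inr hbd))) (fun x hx => by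
      rcases (order_iff_two_pow (by omega) hF _).mp ⟨x, hx⟩ with h' | h' | h'
      · have h'' := (dvd_mul_right a b).trans h'
        exact ha2 ((Nat.prime_dvd_prime_iff_eq ha Nat.prime_two).mp h'')
      · exact hcop b hb hb2 ((dvd_mul_left b a).trans h') hbd
      · exact hcop a ha ha2 had ((dvd_mul_right a b).trans h'))
  haveI := hNn
  haveI := hNs
  obtain ⟨r, hr, hrd, hrn, hrmin⟩ := exists_big_prime (n := 2 * m) (by omega) (by omega)
  have hrP : r ∣ Nat.card P := by
    rw [prime_dvd_card_iff (by omega) hF hr]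
    rw [hsq] at hrd
    exact Or.inr ((Nat.Prime.dvd_mul hr).mp hrd)
  have hrN : r ∣ Nat.card N := (hsame.1 r hr).mp hrP
  have hsmall : ∀ M : ℕ, r ∣ M → (∀ s : ℕ, s.Prime → s ∣ M → s < 9) → False := fun M h1 h2 => by
    have := h2 r hr h1
    omega
  -- reduce to the isomorphism
  suffices hNF : Nonempty (N ≃* P) by
    obtain ⟨e⟩ := hNF
    obtain ⟨U, hU, hUi, hU4⟩ := exists_elementary_sylow (by omega : 3 ≤ m) hF
    obtain ⟨V, hV, hVi, hV4⟩ := exists_omega_of_equiv e hU hUi hU4
    have htop' := htop V hV hVi hV4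
    exact ⟨(((MulEquiv.subgroupCongr htop').trans Subgroup.topEquiv).symm).trans e⟩
  have hpsl : ∀ (K : Type) (_ : Field K) (_ : Fintype K),
      Nonempty (N ≃* ProjectiveSpecialLinearGroup (Fin 2) K) → Nonempty (N ≃* P) := by
    intro K _ _ he
    obtain ⟨e⟩ := he
    have hK := hsame.of_equiv e
    have hrK : r ∣ Nat.card (ProjectiveSpecialLinearGroup (Fin 2) K) := (hK.1 r hr).mp hrP
    rcases psl_cond hNcit e with h9 | ⟨n, hn⟩ | ⟨hp, -⟩
    · exfalso
      have hc := SL2.card_PSL (F := K)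
      rw [Nat.card_eq_fintype_card (α := K), h9] at hc
      have h720r : r ∣ 720 := by
        have := hrK.mul_left (Nat.gcd 2 (9 - 1))
        rw [hc] at this
        exact this
      refine hsmall 720 h720r fun s hs hsd => ?_
      have h720 : s ∣ 2 ^ 4 * (3 ^ 2 * 5) := by norm_num; exact hsd
      rcases (Nat.Prime.dvd_mul hs).mp h720 with h' | h'
      · have := (Nat.prime_dvd_prime_iff_eq hs Nat.prime_two).mp (hs.dvd_of_dvd_pow h')
        omega
      rcases (Nat.Prime.dvd_mul hs).mp h' with h'' | h''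
      · have := (Nat.prime_dvd_prime_iff_eq hs Nat.prime_three).mp (hs.dvd_of_dvd_pow h'')
        omega
      · have := Nat.le_of_dvd (by norm_num) h''
        omega
    · have hn1 : 1 ≤ n := by
        by_contra h0
        have := Fintype.one_lt_card (α := K)
        rw [hn, show n = 0 by omega] at this
        simp at this
      have hsqn : 2 ^ (2 * n) - 1 = (2 ^ n - 1) * (2 ^ n + 1) := by
        rw [mul_comm (2 ^ n - 1), ← Nat.sq_sub_sq, one_pow, ← pow_mul, mul_comm 2 n]
      have hmn : 2 * m ∣ 2 * n := by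
        refine hrmin _ (by omega) ?_
        rcases (prime_dvd_card_iff hn1 hn hr).mp hrK with e' | h' | h'
        · omega
        · rw [hsqn]; exact h'.mul_right _
        · rw [hsqn]; exact h'.mul_left _
      have hnm : m ≤ n := by
        have := Nat.le_of_dvd (by omega) hmn
        omega
      obtain ⟨r', hr', hrd', hrn', hrmin'⟩ := exists_big_prime (n := 2 * n) (by omega) (by omega)
      have hnm' : 2 * n ∣ 2 * m := by
        refine hrmin' _ (by omega) ?_
        rw [hsqn] at hrd'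
        rcases (prime_dvd_card_iff (by omega) hF hr').mp ((hK.1 r' hr').mpr
          ((prime_dvd_card_iff hn1 hn hr').mpr (Or.inr ((Nat.Prime.dvd_mul hr').mp hrd'))))
          with e' | h' | h'
        · omega
        · rw [hsq]; exact h'.mul_right _
        · rw [hsq]; exact h'.mul_left _
      have hEq : n = m := by
        have := Nat.le_of_dvd (by omega) hnm'
        omega
      obtain ⟨e'⟩ := psl_two_equiv (K := K) (F := F) (by
        rw [Nat.card_eq_fintype_card, Nat.card_eq_fintype_card, hn, hF, hEq])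
      exact ⟨e.trans e'⟩
    · exfalso
      by_cases h5 : 5 ≤ Fintype.card K
      · exact prime_field_false hm hF hp h5 hK
      have hc := SL2.card_PSL (F := K)
      rw [Nat.card_eq_fintype_card (α := K)] at hc
      have h2le := hp.two_le
      have hdvd : r ∣ Fintype.card K * ((Fintype.card K - 1) * (Fintype.card K + 1)) :=
        hc ▸ hrK.mul_left _
      refine hsmall _ hdvd fun s hs hsd => ?_
      have := Nat.le_of_dvd (Nat.mul_pos (by omega) (Nat.mul_pos (by omega) (by omega))) hsd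
      interval_cases hk : Fintype.card K
      · omega
      · norm_num at hsd
        have h24 : s ∣ 2 ^ 3 * 3 := by norm_num; exact hsd
        rcases (Nat.Prime.dvd_mul hs).mp h24 with h' | h'
        · have := (Nat.prime_dvd_prime_iff_eq hs Nat.prime_two).mp (hs.dvd_of_dvd_pow h'); omega
        · have := Nat.le_of_dvd (by norm_num) h'; omega
      · norm_num at hp
  rcases Cfsg.Agent.S0348.result hNnc hNcit with ⟨K, i1, i2, -, he⟩ | ⟨K, i1, i2, h4, ⟨e⟩⟩ | hS
  · exact hpsl K i1 i2 he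
  · exfalso
    refine hsmall _ hrN fun s hs hsd => ?_
    rw [Nat.card_congr e.toEquiv, Steiner.natCard_PSL34 K h4] at hsd
    have h' : s ∣ 2 ^ 6 * (3 ^ 2 * (5 * 7)) := by norm_num; exact hsd
    rcases (Nat.Prime.dvd_mul hs).mp h' with h1 | h1
    · have := (Nat.prime_dvd_prime_iff_eq hs Nat.prime_two).mp (hs.dvd_of_dvd_pow h1); omega
    rcases (Nat.Prime.dvd_mul hs).mp h1 with h2 | h2
    · have := (Nat.prime_dvd_prime_iff_eq hs Nat.prime_three).mp (hs.dvd_of_dvd_pow h2); omega
    rcases (Nat.Prime.dvd_mul hs).mp h2 with h3 | h3 <;>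
      have := Nat.le_of_dvd (by norm_num) h3 <;> omega
  · exfalso
    obtain ⟨-, l, hl, hcard⟩ := hS
    have h3P : 3 ∣ Nat.card P := by
      rw [card_psl_two_pow (by omega) hF]
      refine Dvd.dvd.mul_left ?_ _
      rw [← hsq, pow_mul]
      exact three_dvd_four_pow_sub_one m
    have h3 := (hsame.1 3 Nat.prime_three).mp h3P
    rw [hcard] at h3
    have hmod : (2 ^ (2 * l + 1)) % 3 = 2 := by
      rw [pow_succ, pow_mul, Nat.mul_mod, Nat.pow_mod]
      norm_num
    rcases (Nat.Prime.dvd_mul Nat.prime_three).mp h3 with h' | h'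
    · rcases (Nat.Prime.dvd_mul Nat.prime_three).mp h' with h'' | h''
      · have := (Nat.prime_dvd_prime_iff_eq Nat.prime_three Nat.prime_two).mp
          (Nat.prime_three.dvd_of_dvd_pow (Nat.prime_three.dvd_of_dvd_pow h''))
        omega
      · rw [Nat.dvd_iff_mod_eq_zero, Nat.add_mod, Nat.pow_mod, hmod] at h''
        norm_num at h''
    · generalize 2 ^ (2 * l + 1) = Q at h' hmod
      omega

end CfsgLib.CIT
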