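import Mathlib
import Cfsg.Agent.Lib.CIT.GraphArith
import Cfsg.Agent.Lib.CIT.Main
import Cfsg.Agent.Lib.Suzuki.PrimeGraph
import Cfsg.Agent.Lib.SuzUniq.Zassenhaus

/-!
Recognition of the Suzuki groups by their prime graphs.
-/

set_option autoImplicit false
set_option linter.unusedSectionVars false
set_option linter.style.haveILetI false

namespace CfsgLib.CIT

open Matrix

universe u

theorem map_sz_le {K F : Type*} [Field K] [Field F] (f : K ≃+* F) (e : ℕ) :
    (Cfsg.Lie.Sz K e).map (GeneralLinearGroup.map (n := Fin 4) f.toRingHom) ≤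
      Cfsg.Lie.Sz F e := by
  rw [Subgroup.map_le_iff_le_comap]
  refine (Subgroup.closure_le _).mpr ?_
  rintro g ⟨hg, hs⟩
  rw [SetLike.mem_coe, Subgroup.mem_comap]
  refine Subgroup.subset_closure ⟨fun u v => ?_, ?_⟩
  · set M : Matrix (Fin 4) (Fin 4) K := (g : Matrix (Fin 4) (Fin 4) K) with hM
    show Cfsg.Lie.altForm4 (M.map f *ᵥ u) (M.map f *ᵥ v) = Cfsg.Lie.altForm4 u v
    obtain ⟨u', rfl⟩ : ∃ u', u = f ∘ u' := ⟨f.symm ∘ u, funext fun i => (f.apply_symm_apply _).symm⟩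
    obtain ⟨v', rfl⟩ : ∃ v', v = f ∘ v' := ⟨f.symm ∘ v, funext fun i => (f.apply_symm_apply _).symm⟩
    have hmv : ∀ w : Fin 4 → K, M.map f *ᵥ (f ∘ w) = f ∘ (M *ᵥ w) := fun w => funext fun i => by
      simp [Matrix.mulVec, dotProduct, map_sum, map_mul]
    rw [hmv, hmv]
    have h := congrArg f (hg u' v')
    simp only [Cfsg.Lie.altForm4, map_add, map_mul] at h
    exact h
  · show Cfsg.Lie.star4 ((g : Matrix (Fin 4) (Fin 4) K).map f) =
      ((g : Matrix (Fin 4) (Fin 4) K).map f).map fun x : F => x ^ e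
    ext p r
    have h := congrArg f (congrFun (congrFun hs p) r)
    simp only [Cfsg.Lie.star4, Matrix.of_apply, Matrix.map_apply] at h ⊢
    rw [map_sub, map_mul, map_mul, map_pow] at h
    exact h

/-- Suzuki groups over fields of equal order. -/
theorem sz_equiv {K F : Type*} [Field K] [Field F] [Fintype K] [Fintype F]
    (h : Fintype.card K = Fintype.card F) (e : ℕ) :
    Nonempty (↥(Cfsg.Lie.Sz K e) ≃* ↥(Cfsg.Lie.Sz F e)) := by
  obtain ⟨f⟩ : Nonempty (K ≃+* F) := by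
    obtain ⟨i⟩ := CfsgLib.SL2.nonempty_ringHom_of_pow_card (F := F) (K := K) 1
      (by rw [pow_one, Nat.card_eq_fintype_card, Nat.card_eq_fintype_card, h])
    exact ⟨RingEquiv.ofBijective i ((Fintype.bijective_iff_injective_and_card i).mpr
      ⟨i.injective, h⟩)⟩
  have hinj : Function.Injective (GeneralLinearGroup.map (n := Fin 4) f.toRingHom) := by
    intro a b hab
    refine Units.ext (Matrix.ext fun i j => f.injective ?_)
    exact congrArg (fun M : GL (Fin 4) F => (M : Matrix (Fin 4) (Fin 4) F) i j) hab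
  have heq : (Cfsg.Lie.Sz K e).map (GeneralLinearGroup.map (n := Fin 4) f.toRingHom) =
      Cfsg.Lie.Sz F e := by
    refine le_antisymm (map_sz_le f e) fun x hx => ?_
    refine ⟨GeneralLinearGroup.map (n := Fin 4) f.symm.toRingHom x,
      map_sz_le f.symm e ⟨x, hx, rfl⟩, ?_⟩
    refine Units.ext (Matrix.ext fun i j => ?_)
    exact f.apply_symm_apply _
  exact ⟨(Subgroup.equivMapOfInjective _ _ hinj).trans (MulEquiv.subgroupCongr heq)⟩

variable {F : Type*} [Field F] [Fintype F] {m : ℕ}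

theorem param_of_card (hm : 1 ≤ m) (hF : Fintype.card F = 2 ^ (2 * m + 1)) :
    CharP F 2 ∧ Suzuki.Param F m := by
  refine ⟨?_, ⟨hm, hF⟩⟩
  obtain ⟨p, hc⟩ := CharP.exists F
  obtain ⟨n, hp, hn⟩ := FiniteField.card F p
  rw [hF] at hn
  have : p ∣ 2 ^ (2 * m + 1) := hn ▸ dvd_pow_self p n.ne_zero
  rwa [(Nat.prime_dvd_prime_iff_eq hp Nat.prime_two).mp (hp.dvd_of_dvd_pow this)] at hc

theorem three_dvd_card_psl {K : Type*} [Field K] [Fintype K] :
    3 ∣ Nat.card (Matrix.ProjectiveSpecialLinearGroup (Fin 2) K) := by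
  have h := SL2.card_PSL (F := K)
  have hq : 0 < Nat.card K := Nat.card_pos
  have h3 : 3 ∣ Nat.card K * ((Nat.card K - 1) * (Nat.card K + 1)) := by
    generalize Nat.card K = q at hq
    rcases (show q % 3 = 0 ∨ q % 3 = 1 ∨ q % 3 = 2 by omega) with e | e | e
    · exact (show 3 ∣ q by omega).mul_right _
    · exact ((show 3 ∣ q - 1 by omega).mul_right _).mul_left _
    · exact ((show 3 ∣ q + 1 by omega).mul_left _).mul_left _
  rw [← h] at h3
  refine ((Nat.Prime.dvd_mul Nat.prime_three).mp h3).resolve_left fun h' => ?_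
  have := Nat.le_of_dvd two_pos (h'.trans (Nat.gcd_dvd_left _ _))
  omega

variable [CharP F 2] [hP : Suzuki.Param F m]
include hP

theorem not_three_dvd_gp : ¬ 3 ∣ Nat.card (Suzuki.Gp F m) := by
  intro h
  have hmod : Fintype.card F % 3 = 2 := by
    rw [hP.card, pow_succ, pow_mul, Nat.mul_mod, Nat.pow_mod]
    norm_num
  rcases Suzuki.prime_dvd_card Nat.prime_three h with e | h' | h'
  · omega
  · generalize Fintype.card F = Q at h' hmod
    omega
  · rw [Nat.dvd_iff_mod_eq_zero, Nat.add_mod, Nat.pow_mod, hmod] at h'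
    norm_num at h'

theorem prime_dvd_gp_iff {r : ℕ} (hr : r.Prime) :
    r ∣ Nat.card (Suzuki.Gp F m) ↔
      r = 2 ∨ r ∣ Fintype.card F - 1 ∨ r ∣ Fintype.card F ^ 2 + 1 := by
  refine ⟨Suzuki.prime_dvd_card hr, ?_⟩
  rw [Suzuki.natCard_group]
  rintro (h | h | h)
  · subst h
    exact Dvd.dvd.mul_right (Dvd.dvd.mul_right
      (dvd_pow (by rw [hP.card]; exact dvd_pow_self 2 (by omega)) two_ne_zero) _) _
  · exact h.mul_left _
  · exact Dvd.dvd.mul_right (h.mul_left _) _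

/-- A large prime of one Suzuki group and the degree of the other. -/
theorem exp_dvd_of_same_primes {K : Type*} [Field K] [Fintype K] [CharP K 2] {l : ℕ}
    [hK : Suzuki.Param K l]
    (h : ∀ r : ℕ, r.Prime → (r ∣ Nat.card (Suzuki.Gp F m) → r ∣ Nat.card (Suzuki.Gp K l))) :
    2 * m + 1 ∣ 2 * l + 1 := by
  have hm := hP.one_le
  obtain ⟨r, hr, hd, hn, hmin⟩ := exists_big_prime (n := 4 * (2 * m + 1)) (by omega) (by omega)
  have key : ∀ j : ℕ, (2 ^ j) ^ 4 - 1 = (((2 ^ j) ^ 2) + 1) * ((2 ^ j + 1) * (2 ^ j - 1)) := by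
    intro j
    rw [← Nat.sq_sub_sq, one_pow, ← Nat.sq_sub_sq, one_pow, ← pow_mul (2 ^ j) 2 2]
  have hrF : r ∣ Nat.card (Suzuki.Gp F m) := by
    rw [prime_dvd_gp_iff hr, hP.card]
    rw [mul_comm 4, pow_mul, key] at hd
    rcases (Nat.Prime.dvd_mul hr).mp hd with h' | h'
    · exact Or.inr (Or.inr h')
    · exfalso
      have h2 : r ∣ 2 ^ (2 * (2 * m + 1)) - 1 := by
        rw [← Nat.sq_sub_sq, one_pow, ← pow_mul] at h'
        rwa [mul_comm 2]
      have := Nat.le_of_dvd (by omega) (hmin _ (by omega) h2)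
      omega
  have hrK : r ∣ 2 ^ (4 * (2 * l + 1)) - 1 := by
    rw [mul_comm 4, pow_mul, key]
    rcases (prime_dvd_gp_iff hr).mp (h r hr hrF) with e | h' | h'
    · omega
    · rw [hK.card] at h'
      exact (h'.mul_left _).mul_left _
    · rw [hK.card] at h'
      exact h'.mul_right _
  exact Nat.dvd_of_mul_dvd_mul_left (by norm_num) (hmin _ (by omega) hrK)

theorem exists_sylow_gp : ∃ U : Subgroup (Suzuki.Gp F m),
    IsPGroup 2 U ∧ ¬ 2 ∣ U.index ∧ 4 < Nat.card (omegaCenter U) := by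
  refine ⟨Suzuki.grpU F m, ?_, ?_, ?_⟩
  · refine IsPGroup.of_card (n := (2 * m + 1) * 2) ?_
    rw [Suzuki.natCard_grpU, hP.card, ← pow_mul]
  · have h := (Suzuki.grpU F m).card_mul_index
    rw [Suzuki.natCard_grpU, Suzuki.natCard_group, mul_assoc] at h
    rw [Nat.eq_of_mul_eq_mul_left (pow_pos Fintype.card_pos _) h]
    exact Nat.Prime.not_dvd_mul Nat.prime_two
      (fun e => Nat.not_even_iff_odd.mpr (Suzuki.odd_card_sq_add_one (F := F) (m := m))
        (even_iff_two_dvd.mpr e))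
      (fun e => Nat.not_even_iff_odd.mpr (Suzuki.odd_card_sub_one (F := F) (m := m))
        (even_iff_two_dvd.mpr e))
  · have hle : Suzuki.grpZ F m ≤ omegaCenter (Suzuki.grpU F m) := by
      rintro z hz
      have hz' := hz
      obtain ⟨b, rfl⟩ := hz
      refine ⟨Suzuki.gT_mem 0 b, ?_, ?_⟩
      · rw [Suzuki.gT_sq, mul_zero, ← Suzuki.gT_zero]
      · rw [← Suzuki.grpZ_eq_center] at hz'
        obtain ⟨c, hc, hce⟩ := hz'
        intro y hy
        rw [← hce]
        exact (congrArg Subtype.val (Subgroup.mem_center_iff.mp hc ⟨y, hy⟩)).symm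
    have h8 := Suzuki.eight_le_card (F := F) (m := m)
    have := Subgroup.card_le_of_le hle
    rw [Suzuki.natCard_grpZ] at this
    omega

/-- A group with the prime graph of a Suzuki group is that group modulo its `2`-core. -/
theorem iso_of_samePG_suzuki {G : Type u} [Group G] [Finite G]
    (h : SamePG (Suzuki.Gp F m) G) :
    Nonempty (G ⧸ Cfsg.pCore 2 G ≃* Suzuki.Gp F m) := by
  classical
  haveI := Fitting.pCore_normal (G := G) 2
  have h8 := Suzuki.eight_le_card (F := F) (m := m)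
  obtain ⟨a, ha, had⟩ := Nat.exists_prime_and_dvd (n := Fintype.card F - 1) (by omega)
  obtain ⟨b, hb, hbd⟩ := Nat.exists_prime_and_dvd (n := Fintype.card F ^ 2 + 1)
    (by have := pow_pos (Fintype.card_pos (α := F)) 2; omega)
  have ha2 : a ≠ 2 := fun e => Nat.not_even_iff_odd.mpr
    (Suzuki.odd_card_sub_one (F := F) (m := m)) (even_iff_two_dvd.mpr (e ▸ had))
  have hb2 : b ≠ 2 := fun e => Nat.not_even_iff_odd.mpr
    (Suzuki.odd_card_sq_add_one (F := F) (m := m)) (even_iff_two_dvd.mpr (e ▸ hbd))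
  have hcop := Suzuki.coprime_sq (F := F) (m := m)
  have hab : a ≠ b := fun e => ha.ne_one (Nat.eq_one_of_dvd_coprimes hcop had (e ▸ hbd))
  have hno : ∀ x : Suzuki.Gp F m, orderOf x ≠ a * b := by
    intro x hx
    haveI := Fact.mk ha
    have hz : orderOf (x ^ b) = a := by
      rw [orderOf_pow_of_dvd hb.ne_zero (hx ▸ dvd_mul_left b a), hx, Nat.mul_div_cancel _ hb.pos]
    obtain ⟨g, hg⟩ := Suzuki.cent_H ha had hz
    have h' := Subgroup.orderOf_dvd_natCard _ (hg x
      (Subgroup.mem_centralizer_singleton_iff.2 (Commute.self_pow x b).eq))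
    rw [CfsgLib.Ree.orderOf_conj', hx, Suzuki.natCard_grpH] at h'
    exact hb.ne_one (Nat.eq_one_of_dvd_coprimes hcop ((dvd_mul_left b a).trans h') hbd)
  obtain ⟨N, hNn, hNs, hNnc, hNcit, hsame, htop⟩ := exists_simple_samePG h
    ((prime_dvd_gp_iff Nat.prime_two).mpr (Or.inl rfl))
    (fun r hr hr2 x => Suzuki.no_order_two_mul hr hr2 x) ha hb hab ha2 hb2
    ((prime_dvd_gp_iff ha).mpr (Or.inr (Or.inl had)))
    ((prime_dvd_gp_iff hb).mpr (Or.inr (Or.inr hbd))) hno
  haveI := hNn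
  haveI := hNs
  have h3 : ¬ 3 ∣ Nat.card N := fun h' => not_three_dvd_gp ((hsame.1 3 Nat.prime_three).mpr h')
  suffices hNF : Nonempty (N ≃* Suzuki.Gp F m) by
    obtain ⟨e⟩ := hNF
    obtain ⟨U, hU, hUi, hU4⟩ := exists_sylow_gp (F := F) (m := m)
    obtain ⟨V, hV, hVi, hV4⟩ := exists_omega_of_equiv e hU hUi hU4
    exact ⟨(((MulEquiv.subgroupCongr (htop V hV hVi hV4)).trans Subgroup.topEquiv).symm).trans e⟩
  rcases classify hNnc hNcit with ⟨K, i1, i2, -, ⟨e⟩⟩ | ⟨K, i1, i2, h4, ⟨e⟩⟩ | ⟨Ω, i1, i2, hZ⟩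
  · exact absurd (Nat.card_congr e.toEquiv ▸ three_dvd_card_psl (K := K)) h3
  · refine absurd ?_ h3
    rw [Nat.card_congr e.toEquiv, Steiner.natCard_PSL34 K h4]
    norm_num
  rcases SuzUniq.zassenhaus_simple hZ with ⟨K, j1, j2, ⟨e⟩⟩ | ⟨K, j1, j2, l, hl, hK, ⟨e⟩⟩
  · exact absurd (Nat.card_congr e.toEquiv ▸ three_dvd_card_psl (K := K)) h3
  obtain ⟨hKc, hKp⟩ := param_of_card hl hK
  haveI := hKc
  haveI := hKp
  have e' : N ≃* Suzuki.Gp K l := e.trans (Suzuki.lieEquiv K l).symm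
  have hcardN : Nat.card N = Nat.card (Suzuki.Gp K l) := Nat.card_congr e'.toEquiv
  have h1 : 2 * m + 1 ∣ 2 * l + 1 := exp_dvd_of_same_primes (F := F) (m := m) (K := K) (l := l)
    fun r hr hrd => hcardN ▸ (hsame.1 r hr).mp hrd
  have h2 : 2 * l + 1 ∣ 2 * m + 1 := exp_dvd_of_same_primes (F := K) (m := l) (K := F) (l := m)
    fun r hr hrd => (hsame.1 r hr).mpr (hcardN ▸ hrd)
  obtain rfl : l = m := by have := Nat.dvd_antisymm h1 h2; omega
  obtain ⟨f⟩ := sz_equiv (K := K) (F := F) (by rw [hK, hP.card]) (2 ^ (l + 1))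
  exact ⟨e.trans (f.trans (Suzuki.lieEquiv F l).symm)⟩

end CfsgLib.CIT
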